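import Mathlib
import Cfsg.Agent.Lib.Helper24.Brauer8
import Cfsg.Agent.Lib.Helper24.CharQuot
import Cfsg.Agent.Lib.Helper25.Codegree
import Cfsg.Agent.Lib.Helper25.CliffordExt
import Cfsg.Agent.Lib.Helper1.TransTate

set_option autoImplicit false

namespace Cfsg.Agent.Lib.Helper25.PrincNPC

open Cfsg Cfsg.Agent.Lib.Helper1 Cfsg.Agent.Lib.Helper6 Cfsg.Agent.Lib.Helper24
open scoped ComplexConjugate

universe u

section kernel

variable {G : Type u} [Group G] [Fintype G] {M : Ideal AlgInt}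

/-- A normal `p'`-subgroup lies in the kernel of every character of the principal block. -/
theorem ker_of_principal {p : ℕ} (hM : IsPModular p M) (K : Subgroup G) [K.Normal]
    (hK : ¬ p ∣ Nat.card K) (χ : IrrCharacter G) (hχ : χ ∈ principalBlock M G) :
    ∀ k ∈ K, (χ : G → ℂ) k = (χ : G → ℂ) 1 := by
  classical
  have hmax := hM.2.1
  by_contra hcon
  push Not at hcon
  obtain ⟨n₀, hn₀, hne⟩ := hcon
  have h0 := Cfsg.Agent.Lib.Helper25.Codegree.sum_subgroup_eq_zero χ.2 K hn₀ hne
  have hcard : (Nat.card K : ℂ) ≠ 0 := by exact_mod_cast Nat.card_pos.ne'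
  have hzc : IsClassFunction G (fun g => if g ∈ K then (Nat.card K : ℂ)⁻¹ else 0) := by
    intro g k
    have h1 : k * g * k⁻¹ ∈ K ↔ g ∈ K := by
      constructor
      · intro h
        have := (inferInstance : K.Normal).conj_mem _ h k⁻¹
        simpa [mul_assoc] using this
      · intro h
        exact (inferInstance : K.Normal).conj_mem _ h k
    by_cases hg : g ∈ K
    · simp only [if_pos hg, if_pos (h1.mpr hg)]
    · simp only [if_neg hg, if_neg (fun h => hg (h1.mp h))]
  have hzS : SVal M (fun g => if g ∈ K then (Nat.card K : ℂ)⁻¹ else 0) := by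
    intro g
    show MemLocalRing M (if g ∈ K then (Nat.card K : ℂ)⁻¹ else 0)
    split_ifs
    · exact memLocalRing_inv_natCast hM hK
    · exact memLocalRing_zero hmax
  have hcl1 : IsClassFunction G (fun _ : G => (1 : ℂ)) := fun _ _ => rfl
  have h1 := omega_sub_memLocalIdeal hmax hcl1 (irr_isClassFunction χ) hχ hzc hzS
  have e1 : omega (χ : G → ℂ) (fun g => if g ∈ K then (Nat.card K : ℂ)⁻¹ else 0) = 0 := by
    unfold omega
    have e2 : ∑ g : G, (if g ∈ K then (Nat.card K : ℂ)⁻¹ else 0) * (χ : G → ℂ) g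
        = (Nat.card K : ℂ)⁻¹ * ∑ g : G, (if g ∈ K then (χ : G → ℂ) g else 0) := by
      rw [Finset.mul_sum]
      apply Finset.sum_congr rfl
      intro g _
      split_ifs <;> simp
    rw [e2, h0, mul_zero, zero_div]
  have e3 : omega (fun _ : G => (1 : ℂ)) (fun g => if g ∈ K then (Nat.card K : ℂ)⁻¹ else 0)
      = 1 := by
    unfold omega
    have e4 : ∑ g : G, (if g ∈ K then (Nat.card K : ℂ)⁻¹ else 0) * (1 : ℂ)
        = ∑ g ∈ Finset.univ.filter (fun g : G => g ∈ K), (Nat.card K : ℂ)⁻¹ := by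
      rw [Finset.sum_filter]
      apply Finset.sum_congr rfl
      intro g _
      split_ifs <;> simp
    rw [e4, Finset.sum_const, nsmul_eq_mul, div_one]
    have e5 : (Finset.univ.filter (fun g : G => g ∈ K)).card = Nat.card K := by
      rw [Nat.card_eq_fintype_card, Fintype.card_subtype]
    rw [e5]
    exact mul_inv_cancel₀ hcard
  rw [e1, e3, sub_zero] at h1
  exact not_memLocalIdeal_one hmax h1

end kernel

section npc

variable {G : Type u} [Group G] [Fintype G] {M : Ideal AlgInt}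

theorem charDegree_hom (lam : G →* ℂˣ) : charDegree (fun g => ((lam g : ℂˣ) : ℂ)) = 1 := by
  unfold charDegree
  simp

theorem sInf_principal (p : ℕ) (hM : M.IsMaximal) :
    sInf ((fun χ : IrrCharacter G => (charDegree (χ : G → ℂ)).factorization p) ''
      principalBlock M G) = 0 := by
  have hmem : 0 ∈ (fun χ : IrrCharacter G => (charDegree (χ : G → ℂ)).factorization p) ''
      principalBlock M G := by
    refine ⟨⟨fun _ => 1, CharBasic.irr_trivial⟩, DefectGroup.trivial_mem_principal hM, ?_⟩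
    show (charDegree (fun _ : G => (1 : ℂ))).factorization p = 0
    have h1 : charDegree (fun _ : G => (1 : ℂ)) = 1 := by
      unfold charDegree
      simp
    rw [h1]
    simp
  exact Nat.le_zero.mp (Nat.sInf_le hmem)

theorem height_zero_iff (p : ℕ) (hM : M.IsMaximal) (χ : IrrCharacter G) :
    blockHeight p (principalBlock M G) (χ : G → ℂ) = 0
      ↔ (charDegree (χ : G → ℂ)).factorization p = 0 := by
  unfold blockHeight
  rw [sInf_principal p hM, Nat.sub_zero]

theorem deg_one_of_npc {p : ℕ} [Fact p.Prime] (hM : IsPModular p M)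
    (h : HasNormalPComplement p G) (χ : IrrCharacter G) (hχ : χ ∈ principalBlock M G)
    (hh : (charDegree (χ : G → ℂ)).factorization p = 0) : charDegree (χ : G → ℂ) = 1 := by
  have hp : p.Prime := Fact.out
  obtain ⟨N, hN, hc, hq⟩ := Cfsg.Agent.Lib.Helper1.Tr.npc_iff_quot.mp h
  have hker := ker_of_principal hM N ((Nat.Prime.coprime_iff_not_dvd hp).mp hc.symm) χ hχ
  obtain ⟨n, hn1, hndvd, hnpos⟩ := CharQuot.degree_dvd_index N χ.2 hker
  have hdeg : charDegree (χ : G → ℂ) = n := by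
    unfold charDegree
    rw [hn1]
    simp
  obtain ⟨k, hk⟩ := hq.exists_card_eq
  rw [Subgroup.index_eq_card, hk] at hndvd
  obtain ⟨j, _, hj⟩ := (Nat.dvd_prime_pow hp).mp hndvd
  rw [hdeg, hj, hp.factorization_pow] at hh
  simp at hh
  rw [hdeg, hj, hh, pow_zero]

open Classical in
theorem block_restrict {p : ℕ} [Fact p.Prime] (hM : IsPModular p M) (B : Set (IrrCharacter G))
    (hB : IsPBlock M B) (P : Subgroup G) (hP : IsPGroup p P) [Fintype P]
    [Fintype (IrrCharacter G)] (μ : P → ℂ) :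
    ∑ χ ∈ Finset.univ.filter (fun χ : IrrCharacter G => χ ∈ B),
      (χ : G → ℂ) 1 * classInner (fun x : P => (χ : G → ℂ) x) μ
    = (P.index : ℂ) * conj (blockCoeff B 1) * conj (μ 1) := by
  classical
  have hcardG : (Nat.card G : ℂ) ≠ 0 := by exact_mod_cast Nat.card_pos.ne'
  have hcardP : (Nat.card P : ℂ) ≠ 0 := by exact_mod_cast Nat.card_pos.ne'
  have key : ∀ x : G, ∑ χ ∈ Finset.univ.filter (fun χ : IrrCharacter G => χ ∈ B),
      (χ : G → ℂ) 1 * (χ : G → ℂ) x = (Nat.card G : ℂ) * conj (blockCoeff B x) := by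
    intro x
    rw [blockCoeff_eq, Finset.sum_apply, map_sum, Finset.mul_sum]
    apply Finset.sum_congr rfl
    intro χ _
    unfold eidem
    rw [map_div₀, map_mul, Complex.conj_conj, Complex.conj_natCast,
      CharBasic.char_one_nat (CharBasic.isCharacter_of_irr χ.2), Complex.conj_natCast]
    field_simp
  unfold classInner
  have e1 : ∑ χ ∈ Finset.univ.filter (fun χ : IrrCharacter G => χ ∈ B),
      (χ : G → ℂ) 1 * ((Nat.card P : ℂ)⁻¹ * ∑ x : P, (χ : G → ℂ) x * conj (μ x))
      = (Nat.card P : ℂ)⁻¹ * ∑ x : P, conj (μ x)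
        * ∑ χ ∈ Finset.univ.filter (fun χ : IrrCharacter G => χ ∈ B),
          (χ : G → ℂ) 1 * (χ : G → ℂ) x := by
    simp_rw [Finset.mul_sum]
    rw [Finset.sum_comm]
    apply Finset.sum_congr rfl
    intro x _
    apply Finset.sum_congr rfl
    intro χ _
    ring
  rw [e1]
  simp_rw [key]
  rw [Finset.sum_eq_single (1 : P)]
  · have e2 : (Nat.card G : ℂ) = (Nat.card P : ℂ) * (P.index : ℂ) := by
      rw [← Nat.cast_mul, Subgroup.card_mul_index]
    rw [e2]
    show (Nat.card P : ℂ)⁻¹ * (conj (μ 1) * ((Nat.card P : ℂ) * (P.index : ℂ)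
      * conj (blockCoeff B (1 : G)))) = _
    field_simp
  · intro x _ hx
    obtain ⟨k, hk⟩ := IsPGroup.iff_orderOf.mp hP x
    have hk0 : k ≠ 0 := by
      intro h0
      rw [h0, pow_zero, orderOf_eq_one_iff] at hk
      exact hx hk
    have hdvd : p ∣ orderOf (x : G) := by
      rw [Subgroup.orderOf_coe, hk]
      exact dvd_pow_self p hk0
    rw [Defect.blockCoeff_eq_zero_of_singular hM B hB (x : G) hdvd]
    simp
  · intro h
    exact absurd (Finset.mem_univ _) h

open Classical in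
/-- The set of linear characters in the principal block with prescribed restriction to `P`. -/
noncomputable def linSet (M : Ideal AlgInt) (P : Subgroup G) [Fintype (IrrCharacter G)]
    (μ : P →* ℂˣ) : Finset (IrrCharacter G) :=
  Finset.univ.filter (fun χ : IrrCharacter G => χ ∈ principalBlock M G ∧
    (charDegree (χ : G → ℂ) = 1 ∧ ∀ x : P, (χ : G → ℂ) x = ((μ x : ℂˣ) : ℂ)))

theorem count_mod {p : ℕ} [Fact p.Prime] (hM : IsPModular p M)
    (hH : ∀ χ : IrrCharacter G, χ ∈ principalBlock M G →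
      (charDegree (χ : G → ℂ)).factorization p = 0 → charDegree (χ : G → ℂ) = 1)
    (P : Subgroup G) (hP : IsPGroup p P) [Fintype (IrrCharacter G)] (μ : P →* ℂˣ) :
    ∃ t : ℕ, (P.index : ℂ) * conj (blockCoeff (principalBlock M G) 1)
      = ((linSet M P μ).card : ℂ) + (p : ℂ) * (t : ℂ) := by
  classical
  have hp : p.Prime := Fact.out
  have hfinP : Fintype P := Fintype.ofFinite _
  have hμirr : IsIrrCharacter P (fun x : P => ((μ x : ℂˣ) : ℂ)) := isIrrCharacter_of_monoidHom μ
  have hterm : ∀ χ : IrrCharacter G, ∃ t : ℕ,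
      (χ : G → ℂ) 1 * classInner (fun x : P => (χ : G → ℂ) x) (fun x : P => ((μ x : ℂˣ) : ℂ))
      = (if (charDegree (χ : G → ℂ) = 1 ∧ ∀ x : P, (χ : G → ℂ) x = ((μ x : ℂˣ) : ℂ))
          then (1 : ℂ) else 0) + (p : ℂ) * (t : ℂ) ∨ χ ∉ principalBlock M G := by
    intro χ
    by_cases hχB : χ ∈ principalBlock M G
    swap
    · exact ⟨0, Or.inr hχB⟩
    have h1 := CharBasic.char_one_nat (CharBasic.isCharacter_of_irr χ.2)
    by_cases hd : charDegree (χ : G → ℂ) = 1
    · refine ⟨0, Or.inl ?_⟩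
      rw [hd, Nat.cast_one] at h1
      obtain ⟨lam, hlam⟩ := IsIrrCharacter.exists_monoidHom χ.2 h1
      have hres : IsIrrCharacter P (fun x : P => (χ : G → ℂ) x) := by
        have h2 := isIrrCharacter_of_monoidHom (lam.comp P.subtype)
        have e : (fun x : P => (χ : G → ℂ) x)
            = fun x : P => (((lam.comp P.subtype) x : ℂˣ) : ℂ) := by
          funext x
          exact hlam x
        rw [e]
        exact h2
      rw [CharBasic.irr_orthonormal hres hμirr, h1, one_mul, Nat.cast_zero, mul_zero, add_zero]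
      by_cases heq : (fun x : P => (χ : G → ℂ) x) = (fun x : P => ((μ x : ℂˣ) : ℂ))
      · rw [if_pos heq, if_pos ⟨hd, fun x => congrFun heq x⟩]
      · rw [if_neg heq, if_neg (fun h => heq (funext h.2))]
    · have hdvd : p ∣ charDegree (χ : G → ℂ) := by
        by_contra hnd
        exact hd (hH χ hχB ((Nat.factorization_eq_zero_iff _ _).mpr (Or.inr (Or.inl hnd))))
      obtain ⟨k, hk⟩ := hdvd
      obtain ⟨c, hc⟩ := IsCharacter.classInner_nat
        (IsCharacter.restrict (IsIrrCharacter.isCharacter χ.2) P)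
        (IsIrrCharacter.isCharacter hμirr)
      refine ⟨k * c, Or.inl ?_⟩
      rw [if_neg (fun h => hd h.1), h1, hc, hk]
      push_cast
      ring
  choose t ht using hterm
  refine ⟨∑ χ ∈ Finset.univ.filter (fun χ : IrrCharacter G => χ ∈ principalBlock M G), t χ, ?_⟩
  have h1 := block_restrict hM (principalBlock M G) DefectGroup.isPBlock_principal P hP
    (fun x : P => ((μ x : ℂˣ) : ℂ))
  have e1 : conj (((μ 1 : ℂˣ) : ℂ)) = 1 := by simp
  rw [e1, mul_one] at h1
  rw [← h1]
  have e2 : ∑ χ ∈ Finset.univ.filter (fun χ : IrrCharacter G => χ ∈ principalBlock M G),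
      (χ : G → ℂ) 1 * classInner (fun x : P => (χ : G → ℂ) x) (fun x : P => ((μ x : ℂˣ) : ℂ))
      = ∑ χ ∈ Finset.univ.filter (fun χ : IrrCharacter G => χ ∈ principalBlock M G),
        ((if (charDegree (χ : G → ℂ) = 1 ∧ ∀ x : P, (χ : G → ℂ) x = ((μ x : ℂˣ) : ℂ))
          then (1 : ℂ) else 0) + (p : ℂ) * (t χ : ℂ)) := by
    apply Finset.sum_congr rfl
    intro χ hχ
    rcases ht χ with h | h
    · exact h
    · exact absurd (Finset.mem_filter.mp hχ).2 h
  rw [e2, Finset.sum_add_distrib, Finset.sum_boole, ← Finset.mul_sum, Finset.filter_filter]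
  push_cast
  unfold linSet
  congr!

end npc

section ext

variable {G : Type u} [Group G] [Fintype G] {M : Ideal AlgInt}

/-- Linear characters in the principal block that are trivial on `P`, as a submonoid. -/
def linMon (hM : M.IsMaximal) (P : Subgroup G) : Submonoid (G →* ℂˣ) where
  carrier := {lam | SameBlock M (fun _ : G => (1 : ℂ)) (fun g => ((lam g : ℂˣ) : ℂ)) ∧
    ∀ x ∈ P, lam x = 1}
  one_mem' := by
    refine ⟨?_, fun _ _ => rfl⟩
    have h := sameBlock_refl hM (fun _ : G => (1 : ℂ))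
    simpa using h
  mul_mem' := by
    rintro a b ⟨ha, ha'⟩ ⟨hb, hb'⟩
    refine ⟨?_, fun x hx => by rw [MonoidHom.mul_apply, ha' x hx, hb' x hx, mul_one]⟩
    intro g
    have h1 := ha g
    have h2 := hb g
    unfold centralChar at h1 h2 ⊢
    simp only [map_one, Units.val_one, div_one, MonoidHom.mul_apply, Units.val_mul] at h1 h2 ⊢
    have hR : MemLocalRing M ((a g : ℂˣ) : ℂ) :=
      memLocalRing_of_isIntegral hM
        (isIntegral_irr (⟨_, isIrrCharacter_of_monoidHom a⟩ : IrrCharacter G) g)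
    have h3 := MemLocalIdeal.add hM h1 (MemLocalIdeal.mul_left hM hR h2)
    convert h3 using 1
    ring

theorem hom_pow_card (a : G →* ℂˣ) : a ^ Nat.card G = 1 := by
  apply MonoidHom.ext
  intro g
  rw [MonoidHom.pow_apply, ← map_pow, pow_card_eq_one', map_one, MonoidHom.one_apply]

theorem linMon_inv_mem (hM : M.IsMaximal) (P : Subgroup G) (a : G →* ℂˣ)
    (ha : a ∈ linMon hM P) : a⁻¹ ∈ linMon hM P := by
  have hfin : Finite G := inferInstance
  have h3 : a * a ^ (Nat.card G - 1) = 1 := by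
    apply MonoidHom.ext
    intro g
    rw [MonoidHom.mul_apply, MonoidHom.pow_apply, ← pow_succ',
      Nat.sub_add_cancel Nat.card_pos, ← map_pow, pow_card_eq_one', map_one]
    rfl
  have h2 : a⁻¹ = a ^ (Nat.card G - 1) := inv_eq_of_mul_eq_one_right (G := G →* ℂˣ) h3
  rw [h2]
  exact (linMon hM P).pow_mem ha _

/-- Linear characters in the principal block that are trivial on `P`, as a subgroup. -/
def linSub (hM : M.IsMaximal) (P : Subgroup G) : Subgroup (G →* ℂˣ) :=
  { linMon hM P with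
    inv_mem' := fun {a} ha => linMon_inv_mem hM P a ha }

theorem mem_linSub (hM : M.IsMaximal) (P : Subgroup G) (a : G →* ℂˣ) :
    a ∈ linSub hM P ↔ (SameBlock M (fun _ : G => (1 : ℂ)) (fun g => ((a g : ℂˣ) : ℂ)) ∧
      ∀ x ∈ P, a x = 1) := Iff.rfl

theorem card_linSub_coprime {p : ℕ} [Fact p.Prime] (hM : M.IsMaximal) (P : Sylow p G) :
    ¬ p ∣ Nat.card (linSub hM (P : Subgroup G)) := by
  intro hdvd
  obtain ⟨a, ha⟩ := exists_prime_orderOf_dvd_card' p hdvd
  have hamem := (mem_linSub hM (P : Subgroup G) (a : G →* ℂˣ)).mp a.2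
  have h1 : a ^ (P : Subgroup G).index = 1 := by
    apply Subtype.ext
    apply MonoidHom.ext
    intro g
    show ((a : G →* ℂˣ) ^ (P : Subgroup G).index) g = 1
    rw [MonoidHom.pow_apply, ← map_pow]
    have hPker : (P : Subgroup G) ≤ (a : G →* ℂˣ).ker :=
      fun x hx => MonoidHom.mem_ker.mpr (hamem.2 x hx)
    obtain ⟨k, hk⟩ := Subgroup.index_dvd_of_le hPker
    have h2 := Subgroup.pow_index_mem (a : G →* ℂˣ).ker g
    rw [hk, pow_mul]
    exact MonoidHom.mem_ker.mp (Subgroup.pow_mem _ h2 k)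
  have h2 := orderOf_dvd_of_pow_eq_one h1
  rw [ha] at h2
  exact P.not_dvd_index h2

theorem card_linSet_one (hM : M.IsMaximal) (P : Subgroup G) [Fintype (IrrCharacter G)] :
    (linSet M P (1 : P →* ℂˣ)).card = Nat.card (linSub hM P) := by
  classical
  rw [← Nat.card_eq_finsetCard]
  symm
  apply Nat.card_congr
  refine Equiv.ofBijective (fun a => ⟨⟨fun g => (((a : G →* ℂˣ) g : ℂˣ) : ℂ),
    isIrrCharacter_of_monoidHom (a : G →* ℂˣ)⟩, ?_⟩) ⟨?_, ?_⟩
  · have hamem := (mem_linSub hM P (a : G →* ℂˣ)).mp a.2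
    unfold linSet
    rw [Finset.mem_filter]
    refine ⟨Finset.mem_univ _, hamem.1, charDegree_hom _, fun x => ?_⟩
    show (((a : G →* ℂˣ) (x : G) : ℂˣ) : ℂ) = (((1 : P →* ℂˣ) x : ℂˣ) : ℂ)
    rw [hamem.2 x x.2]
    rfl
  · intro a b hab
    apply Subtype.ext
    apply MonoidHom.ext
    intro g
    apply Units.ext
    have h1 := congrArg (fun z : {χ // χ ∈ linSet M P (1 : P →* ℂˣ)} =>
      ((z : IrrCharacter G) : G → ℂ) g) hab
    exact h1
  · rintro ⟨χ, hχ⟩
    have hχ' := hχ
    unfold linSet at hχ'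
    rw [Finset.mem_filter] at hχ'
    obtain ⟨_, hB, hd, htriv⟩ := hχ'
    have h1 := CharBasic.char_one_nat (CharBasic.isCharacter_of_irr χ.2)
    rw [hd, Nat.cast_one] at h1
    obtain ⟨lam, hlam⟩ := IsIrrCharacter.exists_monoidHom χ.2 h1
    have hfun : (χ : G → ℂ) = fun g => ((lam g : ℂˣ) : ℂ) := funext hlam
    have hmem : lam ∈ linSub hM P := by
      rw [mem_linSub]
      refine ⟨?_, ?_⟩
      · rw [← hfun]
        exact hB
      · intro x hx
        apply Units.ext
        rw [← hlam x]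
        have h2 := htriv ⟨x, hx⟩
        simpa using h2
    refine ⟨⟨lam, hmem⟩, ?_⟩
    apply Subtype.ext
    apply Subtype.ext
    exact hfun.symm

theorem exists_extension {p : ℕ} [Fact p.Prime] (hM : IsPModular p M)
    (hH : ∀ χ : IrrCharacter G, χ ∈ principalBlock M G →
      (charDegree (χ : G → ℂ)).factorization p = 0 → charDegree (χ : G → ℂ) = 1)
    (P : Sylow p G) (μ : (P : Subgroup G) →* ℂˣ) :
    ∃ lam : G →* ℂˣ, ∀ x : (P : Subgroup G), lam x = μ x := by
  classical
  have hmax := hM.2.1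
  have hfinI : Fintype (IrrCharacter G) := irrFintype
  obtain ⟨t, ht⟩ := count_mod hM hH (P : Subgroup G) P.isPGroup' μ
  obtain ⟨t₁, ht₁⟩ := count_mod hM hH (P : Subgroup G) P.isPGroup' 1
  have hEq : (linSet M (P : Subgroup G) μ).card + p * t
      = (linSet M (P : Subgroup G) 1).card + p * t₁ := by
    have h1 := ht.symm.trans ht₁
    exact_mod_cast h1
  have hne : (linSet M (P : Subgroup G) μ).card ≠ 0 := by
    intro h0
    have hdvd : p ∣ (linSet M (P : Subgroup G) 1).card := by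
      rw [h0, zero_add] at hEq
      have h2 : p ∣ (linSet M (P : Subgroup G) 1).card + p * t₁ := ⟨t, hEq.symm⟩
      exact (Nat.dvd_add_left (dvd_mul_right p t₁)).mp h2
    rw [card_linSet_one hmax] at hdvd
    exact card_linSub_coprime hmax P hdvd
  obtain ⟨χ, hχ⟩ := Finset.card_pos.mp (Nat.pos_of_ne_zero hne)
  unfold linSet at hχ
  rw [Finset.mem_filter] at hχ
  obtain ⟨_, hB, hd, hres⟩ := hχ
  have h1 := CharBasic.char_one_nat (CharBasic.isCharacter_of_irr χ.2)
  rw [hd, Nat.cast_one] at h1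
  obtain ⟨lam, hlam⟩ := IsIrrCharacter.exists_monoidHom χ.2 h1
  refine ⟨lam, fun x => Units.ext ?_⟩
  rw [← hlam]
  exact hres x

omit [Fintype G] in
theorem npc_of_extend [Finite G] {p : ℕ} [Fact p.Prime] (P : Sylow p G)
    (hext : ∀ μ : (P : Subgroup G) →* ℂˣ, ∃ lam : G →* ℂˣ,
      ∀ x : (P : Subgroup G), lam x = μ x) : HasNormalPComplement p G := by
  classical
  have hp : p.Prime := Fact.out
  obtain ⟨N, hNdef⟩ : ∃ N : Subgroup G,
      N = ⨅ lam : {lam : G →* ℂˣ // lam ^ Nat.card (P : Subgroup G) = 1},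
        (lam : G →* ℂˣ).ker := ⟨_, rfl⟩
  haveI hNn : N.Normal := by
    rw [hNdef]
    exact Subgroup.normal_iInf_normal (fun i => inferInstance)
  have hpowN : ∀ g : G, g ^ Nat.card (P : Subgroup G) ∈ N := by
    intro g
    rw [hNdef, Subgroup.mem_iInf]
    intro lam
    rw [MonoidHom.mem_ker, map_pow, ← MonoidHom.pow_apply, lam.2, MonoidHom.one_apply]
  obtain ⟨a, ha⟩ := P.isPGroup'.exists_card_eq
  have hq : IsPGroup p (G ⧸ N) := by
    intro x
    induction x using QuotientGroup.induction_on with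
    | H g =>
      refine ⟨a, ?_⟩
      rw [← QuotientGroup.mk_pow, ← ha]
      exact (QuotientGroup.eq_one_iff _).mpr (hpowN g)
  have htop : N ⊔ (P : Subgroup G) = ⊤ := by
    rw [← Subgroup.index_eq_one]
    obtain ⟨k, hk⟩ := hq.exists_card_eq
    have h1 : (N ⊔ (P : Subgroup G)).index ∣ p ^ k := by
      rw [← hk, ← Subgroup.index_eq_card]
      exact Subgroup.index_dvd_of_le le_sup_left
    have h2 : (N ⊔ (P : Subgroup G)).index ∣ (P : Subgroup G).index :=
      Subgroup.index_dvd_of_le le_sup_right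
    obtain ⟨j, _, hj⟩ := (Nat.dvd_prime_pow hp).mp h1
    rw [hj] at h2 ⊢
    by_contra hne
    have hj0 : j ≠ 0 := fun h => hne (by rw [h, pow_zero])
    exact P.not_dvd_index ((dvd_pow_self p hj0).trans h2)
  apply Cfsg.Agent.Lib.Helper1.Tr.tate_F P N ⁅(P : Subgroup G), (P : Subgroup G)⁆
    (fun X _ hc _ => hc) _ htop
  rintro x ⟨hxN, hxP⟩
  by_contra hx
  have hx' : (⟨x, hxP⟩ : (P : Subgroup G)) ∉ commutator (P : Subgroup G) := by
    intro h
    apply hx
    rw [← Subgroup.map_subtype_commutator]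
    exact ⟨⟨x, hxP⟩, h, rfl⟩
  have hab : (Abelianization.of (⟨x, hxP⟩ : (P : Subgroup G)) :
      Abelianization (P : Subgroup G)) ≠ 1 :=
    fun h1 => hx' ((QuotientGroup.eq_one_iff _).mp h1)
  obtain ⟨φ, hφ⟩ := CommGroup.exists_apply_ne_one_of_hasEnoughRootsOfUnity
    (Abelianization (P : Subgroup G)) ℂ hab
  obtain ⟨lam, hlam⟩ := hext (φ.comp Abelianization.of)
  have hcop : Nat.Coprime (Nat.card (P : Subgroup G)) (P : Subgroup G).index := by
    rw [ha]
    exact Nat.Coprime.pow_left a ((Nat.Prime.coprime_iff_not_dvd hp).mpr P.not_dvd_index)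
  obtain ⟨c, hc1, hc0⟩ := Nat.chineseRemainder hcop 1 0
  obtain ⟨c', hc'⟩ := (Nat.modEq_zero_iff_dvd.mp hc0)
  have hlam' : (lam ^ c) ^ Nat.card (P : Subgroup G) = 1 := by
    apply MonoidHom.ext
    intro g
    have e : c * Nat.card (P : Subgroup G) = Nat.card G * c' := by
      rw [hc', ← Subgroup.card_mul_index (P : Subgroup G)]
      ring
    rw [MonoidHom.pow_apply, MonoidHom.pow_apply, ← pow_mul, e, pow_mul, ← map_pow,
      pow_card_eq_one', map_one, one_pow]
    rfl
  have hxker : x ∈ (lam ^ c).ker := by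
    have h1 : x ∈ N := hxN
    rw [hNdef, Subgroup.mem_iInf] at h1
    exact h1 ⟨lam ^ c, hlam'⟩
  rw [MonoidHom.mem_ker, MonoidHom.pow_apply] at hxker
  have hord : orderOf (lam x) ∣ Nat.card (P : Subgroup G) := by
    apply orderOf_dvd_of_pow_eq_one
    rw [← map_pow]
    have h3 : x ^ Nat.card (P : Subgroup G) = 1 :=
      orderOf_dvd_iff_pow_eq_one.mp (Subgroup.orderOf_dvd_natCard (P : Subgroup G) hxP)
    rw [h3, map_one]
  have hpow : (lam x) ^ c = (lam x) ^ 1 :=
    pow_eq_pow_iff_modEq.mpr (Nat.ModEq.of_dvd hord hc1)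
  rw [hpow, pow_one] at hxker
  apply hφ
  have h5 := hlam ⟨x, hxP⟩
  rw [← hxker]
  exact h5.symm

end ext

end Cfsg.Agent.Lib.Helper25.PrincNPC
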