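import Mathlib
import Cfsg.Agent.Lib.Helper25.PrincNPC
import Cfsg.Agent.Lib.Helper13.SL2Irr
import Cfsg.Agent.Lib.Helper1.CharFrobThm

/-!
Characters of `p'`-degree of a Sylow normalizer extend to `G` iff the normalizer has a normal
complement.
-/

set_option autoImplicit false

namespace Cfsg.Agent.Lib.Helper25.SylExt

open Cfsg Cfsg.Agent.Lib.Helper1 Cfsg.Agent.Lib.Helper24
open scoped ComplexConjugate

universe u

section lemmaB

variable {X : Type u} [Group X]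

/-- If `θ + Φ` takes its degree at `c` then so does `θ`. -/
theorem eq_one_of_add [Finite X] {θ Φ : X → ℂ} (hθ : IsCharacter X θ) (hΦ : IsCharacter X Φ)
    (c : X) (h : θ c + Φ c = θ 1 + Φ 1) : θ c = θ 1 := by
  have h1 := CharBasic.char_norm_le hθ c
  have h2 := CharBasic.char_norm_le hΦ c
  have e1 := CharBasic.char_one_nat hθ
  have e2 := CharBasic.char_one_nat hΦ
  rw [e1, e2] at h
  have hre := congrArg Complex.re h
  simp only [Complex.add_re, Complex.natCast_re] at hre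
  have h3 : (θ c).re ≤ ‖θ c‖ := Complex.re_le_norm _
  have h4 : (Φ c).re ≤ ‖Φ c‖ := Complex.re_le_norm _
  have h5 : (θ c).re = (charDegree θ : ℝ) := by linarith
  have h6 : (θ c).re = ‖θ c‖ := by linarith
  rw [Complex.re_eq_norm] at h6
  have h7 : (θ c).im = 0 := (Complex.nonneg_iff.mp h6).2.symm
  rw [e1]
  apply Complex.ext
  · simpa using h5
  · simpa using h7

theorem eq_one_of_inner [Fintype X] {Ψ θ : X → ℂ} (hΨ : IsCharacter X Ψ)
    (hθ : IsIrrCharacter X θ) (hne : classInner Ψ θ ≠ 0) (c : X) (h : Ψ c = Ψ 1) :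
    θ c = θ 1 := by
  have hΦ := Cfsg.Agent.Lib.Helper13.SL2Irr.sub_irr_isChar' hΨ hθ hne
  apply eq_one_of_add (IsIrrCharacter.isCharacter hθ) hΦ c
  simp only [Pi.sub_apply]
  rw [add_sub_cancel, add_sub_cancel, h]

end lemmaB

section lemmaC

variable {X : Type u} [Group X]

theorem ind_lin_one [Fintype X] (Q : Subgroup X) (μ : Q →* ℂˣ) :
    indFun Q (fun q => ((μ q : ℂˣ) : ℂ)) 1 = (Q.index : ℂ) := by
  rw [indFun_apply]
  have h1 : ∀ x : X, extendByZero Q (fun q => ((μ q : ℂˣ) : ℂ)) (x⁻¹ * 1 * x) = 1 := by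
    intro x
    have : x⁻¹ * 1 * x = ((1 : Q) : X) := by simp
    rw [this, extendByZero_coe, map_one, Units.val_one]
  rw [Finset.sum_congr rfl (fun x _ => h1 x), Finset.sum_const, Finset.card_univ, nsmul_eq_mul,
    mul_one]
  rw [← Nat.card_eq_fintype_card, ← Subgroup.card_mul_index Q]
  have hne : (Nat.card Q : ℂ) ≠ 0 := by
    have := Nat.card_pos (α := Q)
    exact_mod_cast this.ne'
  push_cast
  field_simp

theorem ind_lin_comm [Fintype X] (Q : Subgroup X) [hQ : Q.Normal] (μ : Q →* ℂˣ) (a b : X)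
    (ha : a ∈ Q) (hb : b ∈ Q) :
    indFun Q (fun q => ((μ q : ℂˣ) : ℂ)) (a * b * a⁻¹ * b⁻¹) = (Q.index : ℂ) := by
  rw [indFun_apply]
  have h1 : ∀ x : X, extendByZero Q (fun q => ((μ q : ℂˣ) : ℂ))
      (x⁻¹ * (a * b * a⁻¹ * b⁻¹) * x) = 1 := by
    intro x
    have ha' : x⁻¹ * a * x ∈ Q := by
      have := hQ.conj_mem a ha x⁻¹
      simpa using this
    have hb' : x⁻¹ * b * x ∈ Q := by
      have := hQ.conj_mem b hb x⁻¹
      simpa using this
    have e : x⁻¹ * (a * b * a⁻¹ * b⁻¹) * x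
        = (((⟨_, ha'⟩ : Q) * ⟨_, hb'⟩ * (⟨_, ha'⟩ : Q)⁻¹ * (⟨_, hb'⟩ : Q)⁻¹ : Q) : X) := by
      simp only [Subgroup.coe_mul, Subgroup.coe_inv]
      group
    rw [e, extendByZero_coe, map_mul, map_mul, map_mul, map_inv, map_inv]
    rw [mul_right_comm (μ _) (μ _), mul_inv_cancel, one_mul, mul_inv_cancel, Units.val_one]
  rw [Finset.sum_congr rfl (fun x _ => h1 x), Finset.sum_const, Finset.card_univ, nsmul_eq_mul,
    mul_one]
  rw [← Nat.card_eq_fintype_card, ← Subgroup.card_mul_index Q]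
  have hne : (Nat.card Q : ℂ) ≠ 0 := by
    have := Nat.card_pos (α := Q)
    exact_mod_cast this.ne'
  push_cast
  field_simp

theorem exists_theta [Finite X] {p : ℕ} [Fact p.Prime] (Q : Subgroup X) [Q.Normal]
    (hQ : ¬ p ∣ Q.index) (μ : Q →* ℂˣ) :
    ∃ θ : IrrCharacter X, ¬ p ∣ charDegree (θ : X → ℂ) ∧
      (∀ a ∈ Q, ∀ b ∈ Q, (θ : X → ℂ) (a * b * a⁻¹ * b⁻¹) = (θ : X → ℂ) 1) ∧
      (∀ x : Q, (θ : X → ℂ) x = (θ : X → ℂ) 1 → μ x = 1) := by
  classical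
  have hfX : Fintype X := Fintype.ofFinite X
  have hfinI : Fintype (IrrCharacter X) := irrFintype
  have hfQ : Fintype Q := Fintype.ofFinite Q
  obtain ⟨Ψ, hΨdef⟩ : ∃ Ψ : X → ℂ, Ψ = indFun Q (fun q => ((μ q : ℂˣ) : ℂ)) := ⟨_, rfl⟩
  have hμirr := isIrrCharacter_of_monoidHom μ
  have hΨ : IsCharacter X Ψ := by
    rw [hΨdef]; exact indFun_isCharacter Q (IsIrrCharacter.isCharacter hμirr)
  obtain ⟨m, hm, hsum⟩ := IsCharacter.eq_sum_irr hΨ
  have h1 : Ψ 1 = (Q.index : ℂ) := by rw [hΨdef]; exact ind_lin_one Q μ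
  have h2 : (Q.index : ℂ)
      = ∑ ψ : IrrCharacter X, (m ψ : ℂ) * (charDegree (ψ : X → ℂ) : ℂ) := by
    rw [← h1]
    conv_lhs => rw [hsum]
    rw [Finset.sum_apply]
    refine Finset.sum_congr rfl (fun ψ _ => ?_)
    rw [Pi.smul_apply, smul_eq_mul, CharBasic.char_one_nat (IsIrrCharacter.isCharacter ψ.2)]
  have h3 : Q.index = ∑ ψ : IrrCharacter X, m ψ * charDegree (ψ : X → ℂ) := by
    exact_mod_cast h2
  have h4 : ∃ θ : IrrCharacter X, ¬ p ∣ m θ * charDegree (θ : X → ℂ) := by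
    by_contra hcon
    push Not at hcon
    apply hQ
    rw [h3]
    exact Finset.dvd_sum (fun ψ _ => hcon ψ)
  obtain ⟨θ, hθ⟩ := h4
  have hmθ : m θ ≠ 0 := by
    intro h0
    apply hθ
    rw [h0, zero_mul]
    exact dvd_zero p
  have hdeg : ¬ p ∣ charDegree (θ : X → ℂ) := fun h => hθ (Dvd.dvd.mul_left h _)
  have hinner : classInner Ψ (θ : X → ℂ) ≠ 0 := by
    rw [hm θ]; exact_mod_cast hmθ
  refine ⟨θ, hdeg, ?_, ?_⟩
  · intro a ha b hb
    apply eq_one_of_inner hΨ θ.2 hinner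
    rw [h1, hΨdef]
    exact ind_lin_comm Q μ a b ha hb
  · intro x hx
    have hfr : classInner Ψ (θ : X → ℂ)
        = classInner (fun q : Q => ((μ q : ℂˣ) : ℂ)) (fun h : Q => (θ : X → ℂ) h) := by
      rw [hΨdef]
      exact frobenius_reciprocity Q _ (IsIrrCharacter.isClassFunction θ.2)
    have hres : IsCharacter Q (fun h : Q => (θ : X → ℂ) h) :=
      IsCharacter.restrict (IsIrrCharacter.isCharacter θ.2) Q
    have hinner2 : classInner (fun h : Q => (θ : X → ℂ) h) (fun q : Q => ((μ q : ℂˣ) : ℂ))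
        ≠ 0 := by
      rw [← classInner_conj_symm, ← hfr]
      simpa using hinner
    have h5 := eq_one_of_inner hres hμirr hinner2 x (by simpa using hx)
    simp only [map_one, Units.val_one] at h5
    exact Units.ext h5

end lemmaC

section lemmaE

variable {H : Type u} [Group H] [Finite H] {p : ℕ} [Fact p.Prime]

/-- Extension through a normal supplement. -/
theorem extend_of_supp (P : Subgroup H) (N₀ : Subgroup H) [N₀.Normal] (hsup : P ⊔ N₀ = ⊤)
    (lam : P →* ℂˣ) (hlam : ∀ x : P, (x : H) ∈ N₀ → lam x = 1) :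
    ∃ Lam : H →* ℂˣ, ∀ x : P, Lam x = lam x := by
  obtain ⟨φ, hφ⟩ : ∃ φ : P →* H ⧸ N₀, φ = (QuotientGroup.mk' N₀).comp P.subtype := ⟨_, rfl⟩
  have hsurj : Function.Surjective φ := by
    intro q
    obtain ⟨g, rfl⟩ := QuotientGroup.mk_surjective q
    obtain ⟨x, hx, hxg⟩ := Tr.exists_mk_eq_of_sup_eq_top N₀ P hsup g
    exact ⟨⟨x, hx⟩, by rw [hφ]; exact hxg.symm⟩
  have hker : φ.ker ≤ lam.ker := by
    intro x hx
    rw [MonoidHom.mem_ker] at hx ⊢
    apply hlam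
    rw [hφ] at hx
    exact (QuotientGroup.eq_one_iff _).mp hx
  refine ⟨(φ.liftOfSurjective hsurj ⟨lam, hker⟩).comp (QuotientGroup.mk' N₀), fun x => ?_⟩
  have h1 := MonoidHom.liftOfRightInverse_comp_apply φ _ (Function.rightInverse_surjInv hsurj)
    ⟨lam, hker⟩ x
  rw [MonoidHom.comp_apply]
  have e : (QuotientGroup.mk' N₀) (x : H) = φ x := by rw [hφ]; rfl
  rw [e]
  exact h1

omit [Finite H] in
theorem conj_coset (Y : Subgroup H) [hY : Y.Normal] (a x : H) :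
    (fun y => a * y * a⁻¹) '' {z | x⁻¹ * z ∈ Y} = {z | (a * x * a⁻¹)⁻¹ * z ∈ Y} := by
  ext z
  constructor
  · rintro ⟨w, hw, rfl⟩
    have e : (a * x * a⁻¹)⁻¹ * (a * w * a⁻¹) = a * (x⁻¹ * w) * a⁻¹ := by group
    show (a * x * a⁻¹)⁻¹ * (a * w * a⁻¹) ∈ Y
    rw [e]
    exact hY.conj_mem _ hw a
  · intro hz
    refine ⟨a⁻¹ * z * a, ?_, by group⟩
    have e : x⁻¹ * (a⁻¹ * z * a) = a⁻¹ * ((a * x * a⁻¹)⁻¹ * z) * a⁻¹⁻¹ := by group
    show x⁻¹ * (a⁻¹ * z * a) ∈ Y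
    rw [e]
    exact hY.conj_mem _ hz a⁻¹

theorem focal_le_of (P : Sylow p H)
    (hN : Subgroup.normalizer ((P : Subgroup H) : Set H) ≤ P)
    (Y : Subgroup H) [Y.Normal]
    (hPY : ∀ a ∈ (P : Subgroup H), ∀ b ∈ (P : Subgroup H), a * b * a⁻¹ * b⁻¹ ∈ Y) :
    (P : Subgroup H).focalSubgroup ≤ Y := by
  apply Tr.focal_le
  intro x hx u hu
  have hstab : ∀ w ∈ (P : Subgroup H), ∀ a ∈ (P : Subgroup H),
      (fun y => a * y * a⁻¹) '' {z | w⁻¹ * z ∈ Y} = {z | w⁻¹ * z ∈ Y} := by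
    intro w hw a ha
    rw [conj_coset]
    ext z
    have hc : a * w⁻¹ * a⁻¹ * w⁻¹⁻¹ ∈ Y := hPY a ha w⁻¹ (inv_mem hw)
    have e : (a * w * a⁻¹)⁻¹ * z = (a * w⁻¹ * a⁻¹ * w⁻¹⁻¹) * (w⁻¹ * z) := by group
    simp only [Set.mem_ofPred_eq]
    rw [e]
    exact Subgroup.mul_mem_cancel_left _ hc
  obtain ⟨n, hn, hnX⟩ := Tr.burnside_set_fusion P {z | x⁻¹ * z ∈ Y}
    {z | (u * x * u⁻¹)⁻¹ * z ∈ Y}
    (fun a ha => hstab x hx a ha) (fun a ha => hstab _ hu a ha) u (conj_coset Y u x)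
  have hnP : n ∈ (P : Subgroup H) := hN hn
  rw [hstab x hx n hnP] at hnX
  have hmem : u * x * u⁻¹ ∈ {z | (u * x * u⁻¹)⁻¹ * z ∈ Y} := by
    show (u * x * u⁻¹)⁻¹ * (u * x * u⁻¹) ∈ Y
    rw [inv_mul_cancel]; exact one_mem _
  rw [← hnX] at hmem
  exact hmem

theorem extend_of_ker (P : Sylow p H)
    (hN : Subgroup.normalizer ((P : Subgroup H) : Set H) ≤ P)
    (Y : Subgroup H) [Y.Normal]
    (hPY : ∀ a ∈ (P : Subgroup H), ∀ b ∈ (P : Subgroup H), a * b * a⁻¹ * b⁻¹ ∈ Y)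
    (lam : (P : Subgroup H) →* ℂˣ) (hlam : ∀ x : (P : Subgroup H), (x : H) ∈ Y → lam x = 1) :
    ∃ Lam : H →* ℂˣ, ∀ x : (P : Subgroup H), Lam x = lam x := by
  have hf := focal_le_of P hN Y hPY
  have h2 := Tr.focal_coprime (P : Subgroup H) (Tr.sylow_focal_coprime P)
  apply extend_of_supp (P : Subgroup H) (P : Subgroup H).transferFocal.ker
    (by rw [sup_comm]; exact h2.2) lam
  intro x hx
  apply hlam
  apply hf
  rw [← h2.1]
  exact ⟨hx, x.2⟩

end lemmaE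

section main

variable {G : Type u} [Group G] [Finite G] {p : ℕ} [Fact p.Prime]

/-- the normalizer of a Sylow subgroup -/
abbrev nrm (P : Sylow p G) : Subgroup G := Subgroup.normalizer ((P : Subgroup G) : Set G)

/-- the Sylow subgroup inside its normalizer -/
abbrev nq (P : Sylow p G) : Subgroup ↥(nrm P) := (P : Subgroup G).subgroupOf (nrm P)

theorem inf_le (P : Sylow p G)
    (hyp : ∀ θ : IrrCharacter ↥(nrm P), ¬ p ∣ charDegree (θ : ↥(nrm P) → ℂ) →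
      ∃ χ : IrrCharacter G, ∀ x : ↥(nrm P), (χ : G → ℂ) x = (θ : ↥(nrm P) → ℂ) x)
    {x : G} (hxN : x ∈ nrm P)
    (hxL : x ∈ Subgroup.normalClosure ((P : Subgroup G) : Set G)) : x ∈ (P : Subgroup G) := by
  classical
  have hfG : Fintype G := Fintype.ofFinite G
  have hQn : (nq P).Normal := Subgroup.normal_in_normalizer
  have hle : (P : Subgroup G) ≤ nrm P := Subgroup.le_normalizer
  have key : ((⟨x, hxN⟩ : ↥(nrm P)) : ↥(nrm P) ⧸ nq P) = 1 := by
    apply eq_one_of_forall_irr_eq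
    intro ψ
    have hθirr : IsIrrCharacter ↥(nrm P) (fun g => (ψ : ↥(nrm P) ⧸ nq P → ℂ)
        (QuotientGroup.mk' (nq P) g)) :=
      CharQuot.irr_inflate (QuotientGroup.mk' _) (QuotientGroup.mk'_surjective _) ψ.2
    have hdeg : ¬ p ∣ charDegree (fun g : ↥(nrm P) => (ψ : ↥(nrm P) ⧸ nq P → ℂ)
        (QuotientGroup.mk' (nq P) g)) := by
      have e : charDegree (fun g : ↥(nrm P) => (ψ : ↥(nrm P) ⧸ nq P → ℂ)
          (QuotientGroup.mk' (nq P) g))
          = charDegree (ψ : ↥(nrm P) ⧸ nq P → ℂ) := by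
        unfold charDegree
        simp only [map_one]
      rw [e]
      intro hdvd
      have h1 := (Defect.charDegree_dvd_card ψ).1
      have h2 : p ∣ Nat.card (↥(nrm P) ⧸ nq P) :=
        dvd_trans hdvd h1
      rw [← Subgroup.index_eq_card] at h2
      exact P.not_dvd_index (dvd_trans h2 (Subgroup.relIndex_dvd_index_of_le hle))
    obtain ⟨χ, hχ⟩ := hyp ⟨_, hθirr⟩ hdeg
    have hχ' : ∀ (y : G) (hy : y ∈ nrm P), (χ : G → ℂ) y
        = (ψ : ↥(nrm P) ⧸ nq P → ℂ) (QuotientGroup.mk (⟨y, hy⟩ : ↥(nrm P))) := fun y hy => hχ ⟨y, hy⟩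
    have hχ1 : (χ : G → ℂ) 1 = (ψ : ↥(nrm P) ⧸ nq P → ℂ) 1 := by
      rw [hχ' 1 (one_mem _)]
      congr 1
    have hχc := IsIrrCharacter.isCharacter χ.2
    have := charKer_normal hχc
    have hPle : Subgroup.normalClosure ((P : Subgroup G) : Set G)
        ≤ charKer (χ : G → ℂ) hχc := by
      apply Subgroup.normalClosure_le_normal
      intro y hy
      rw [SetLike.mem_coe, mem_charKer, hχ' y (hle hy), hχ1]
      have e : ((⟨y, hle hy⟩ : ↥(nrm P)) : ↥(nrm P) ⧸ nq P) = 1 :=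
        (QuotientGroup.eq_one_iff _).mpr (show (⟨y, hle hy⟩ : ↥(nrm P)) ∈ nq P from hy)
      rw [e]
    have hxker : (χ : G → ℂ) x = (χ : G → ℂ) 1 := hPle hxL
    rw [← hχ1, ← hxker, hχ' x hxN]
  exact Subgroup.mem_subgroupOf.mp ((QuotientGroup.eq_one_iff _).mp key)

theorem exists_chi (P : Sylow p G)
    (hyp : ∀ θ : IrrCharacter ↥(nrm P), ¬ p ∣ charDegree (θ : ↥(nrm P) → ℂ) →
      ∃ χ : IrrCharacter G, ∀ x : ↥(nrm P), (χ : G → ℂ) x = (θ : ↥(nrm P) → ℂ) x)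
    (lam : (P : Subgroup G) →* ℂˣ) :
    ∃ χ : IrrCharacter G,
      (∀ a ∈ (P : Subgroup G), ∀ b ∈ (P : Subgroup G),
        (χ : G → ℂ) (a * b * a⁻¹ * b⁻¹) = (χ : G → ℂ) 1) ∧
      (∀ x : (P : Subgroup G), (χ : G → ℂ) x = (χ : G → ℂ) 1 → lam x = 1) := by
  classical
  have hQn : ((P : Subgroup G).subgroupOf (nrm P)).Normal := Subgroup.normal_in_normalizer
  have hle : (P : Subgroup G) ≤ nrm P := Subgroup.le_normalizer
  have hidx : ¬ p ∣ ((P : Subgroup G).subgroupOf (nrm P)).index := fun h =>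
    P.not_dvd_index (dvd_trans h (Subgroup.relIndex_dvd_index_of_le hle))
  obtain ⟨θ, hθdeg, hθc, hθl⟩ := exists_theta ((P : Subgroup G).subgroupOf (nrm P)) hidx
    (lam.comp (Subgroup.subgroupOfEquivOfLe hle).toMonoidHom)
  obtain ⟨χ, hχ⟩ := hyp θ hθdeg
  have hχ' : ∀ (y : G) (hy : y ∈ nrm P), (χ : G → ℂ) y = (θ : ↥(nrm P) → ℂ) ⟨y, hy⟩ :=
    fun y hy => hχ ⟨y, hy⟩
  have hχ1 : (χ : G → ℂ) 1 = (θ : ↥(nrm P) → ℂ) 1 := hχ' 1 (one_mem _)
  refine ⟨χ, ?_, ?_⟩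
  · intro a ha b hb
    have haN := hle ha
    have hbN := hle hb
    rw [hχ' _ (mul_mem (mul_mem (mul_mem haN hbN) (inv_mem haN)) (inv_mem hbN)), hχ1]
    exact hθc ⟨a, haN⟩ (Subgroup.mem_subgroupOf.mpr ha) ⟨b, hbN⟩ (Subgroup.mem_subgroupOf.mpr hb)
  · intro x hx
    have hxN := hle x.2
    have h := hθl ⟨⟨x, hxN⟩, Subgroup.mem_subgroupOf.mpr x.2⟩
      (by rw [← hχ1]; exact (hχ' _ hxN).symm.trans hx)
    exact h

theorem exists_compl (P : Sylow p G)
    (hyp : ∀ θ : IrrCharacter ↥(nrm P), ¬ p ∣ charDegree (θ : ↥(nrm P) → ℂ) →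
      ∃ χ : IrrCharacter G, ∀ x : ↥(nrm P), (χ : G → ℂ) x = (θ : ↥(nrm P) → ℂ) x) :
    ∃ K : Subgroup G, K.Normal ∧ K ⊔ nrm P = ⊤ ∧ K ⊓ nrm P = ⊥ := by
  classical
  have hfG : Fintype G := Fintype.ofFinite G
  obtain ⟨L, hLdef⟩ : ∃ L : Subgroup G,
      L = Subgroup.normalClosure ((P : Subgroup G) : Set G) := ⟨_, rfl⟩
  have hLn : L.Normal := by rw [hLdef]; exact Subgroup.normalClosure_normal
  have hPL : (P : Subgroup G) ≤ L := by rw [hLdef]; exact Subgroup.subset_normalClosure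
  have hNL : ∀ x : G, x ∈ nrm P → x ∈ L → x ∈ (P : Subgroup G) := by
    intro x h1 h2
    rw [hLdef] at h2
    exact inf_le P hyp h1 h2
  obtain ⟨PL, hPLdef⟩ : ∃ PL : Sylow p L, PL = P.subtype hPL := ⟨_, rfl⟩
  have hmemPL : ∀ x : L, x ∈ (PL : Subgroup L) ↔ (x : G) ∈ (P : Subgroup G) := by
    intro x
    rw [hPLdef, Sylow.coe_subtype, Subgroup.mem_subgroupOf]
  have hNPL : Subgroup.normalizer ((PL : Subgroup L) : Set L) ≤ PL := by
    intro x hx
    rw [hmemPL]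
    apply hNL _ _ x.2
    rw [Subgroup.mem_normalizer_iff] at hx ⊢
    intro h
    constructor
    · intro hh
      have h1 := (hx ⟨h, hPL hh⟩).mp ((hmemPL _).mpr hh)
      exact (hmemPL _).mp h1
    · intro hh
      have hhL : h ∈ L := by
        have e : h = (x : G)⁻¹ * ((x : G) * h * (x : G)⁻¹) * (x : G) := by group
        rw [e]
        exact mul_mem (mul_mem (inv_mem x.2) (hPL hh)) x.2
      have h1 := (hx ⟨h, hhL⟩).mpr ((hmemPL _).mpr hh)
      exact (hmemPL _).mp h1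
  have hext : ∀ μ : (PL : Subgroup L) →* ℂˣ, ∃ Lam : L →* ℂˣ,
      ∀ x : (PL : Subgroup L), Lam x = μ x := by
    intro μ
    obtain ⟨lam, hlam⟩ : ∃ lam : (P : Subgroup G) →* ℂˣ,
        ∀ (x : L) (hx : x ∈ (PL : Subgroup L)),
          lam ⟨(x : G), (hmemPL x).mp hx⟩ = μ ⟨x, hx⟩ := by
      let f : (P : Subgroup G) →* (PL : Subgroup L) :=
        { toFun := fun y => ⟨⟨y, hPL y.2⟩, (hmemPL _).mpr y.2⟩
          map_one' := rfl
          map_mul' := fun a b => rfl }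
      exact ⟨μ.comp f, fun x hx => rfl⟩
    obtain ⟨χ, hχc, hχl⟩ := exists_chi P hyp lam
    have hχch := IsIrrCharacter.isCharacter χ.2
    have := charKer_normal hχch
    apply extend_of_ker PL hNPL ((charKer (χ : G → ℂ) hχch).subgroupOf L)
    · intro a ha b hb
      rw [Subgroup.mem_subgroupOf, mem_charKer]
      exact hχc a ((hmemPL a).mp ha) b ((hmemPL b).mp hb)
    · intro x hx
      rw [Subgroup.mem_subgroupOf, mem_charKer] at hx
      have h1 := hχl ⟨((x : L) : G), (hmemPL x).mp x.2⟩ hx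
      rw [hlam (x : L) x.2] at h1
      exact h1
  have hnpc := PrincNPC.npc_of_extend PL hext
  obtain ⟨KL, hKn, hc, hq⟩ := Tr.npc_iff_quot.mp hnpc
  have hmemK : ∀ x : L, x ∈ KL ↔ (orderOf x).Coprime p := by
    intro x
    constructor
    · intro hx
      have h1 : orderOf x ∣ Nat.card KL := by
        have := orderOf_dvd_natCard (⟨x, hx⟩ : KL)
        rwa [Subgroup.orderOf_mk] at this
      exact Nat.Coprime.coprime_dvd_left h1 hc
    · exact fun hx => Tr.mem_of_coprime_of_isPGroup_quotient KL hq hx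
  have hsup : (PL : Subgroup L) ⊔ KL = ⊤ :=
    Cfsg.Agent.Lib.Helper16.Residual.sylow_sup_eq_top_of_isPGroup_quotient PL KL hq
  refine ⟨KL.map L.subtype, ?_, ?_, ?_⟩
  · constructor
    intro n hn g
    obtain ⟨k, hk, rfl⟩ := hn
    have hgL : g * (k : G) * g⁻¹ ∈ L := hLn.conj_mem _ k.2 g
    refine ⟨⟨_, hgL⟩, ?_, rfl⟩
    rw [SetLike.mem_coe, hmemK] at hk ⊢
    have e : orderOf (⟨g * (k : G) * g⁻¹, hgL⟩ : L) = orderOf k := by
      rw [← Subgroup.orderOf_coe, ← Subgroup.orderOf_coe k]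
      exact (SemiconjBy.orderOf_eq g
        (show SemiconjBy g (k : G) (g * (k : G) * g⁻¹) by unfold SemiconjBy; group)).symm
    rw [e]
    exact hk
  · have h1 : L ≤ KL.map L.subtype ⊔ nrm P := by
      intro y hy
      have hy' : (⟨y, hy⟩ : L) ∈ (PL : Subgroup L) ⊔ KL := by
        rw [hsup]; exact Subgroup.mem_top _
      rw [← SetLike.mem_coe, Subgroup.mul_normal] at hy'
      obtain ⟨a, ha, b, hb, hab⟩ := hy'
      have e : y = (a : G) * (b : G) := by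
        rw [← Subgroup.coe_mul]
        exact (congrArg Subtype.val hab).symm
      rw [e]
      exact mul_mem (Subgroup.mem_sup_right (Subgroup.le_normalizer ((hmemPL a).mp ha)))
        (Subgroup.mem_sup_left ⟨b, hb, rfl⟩)
    have h2 : nrm P ⊔ L = ⊤ := by
      have h3 := Sylow.normalizer_sup_eq_top PL
      have e : Subgroup.map L.subtype (PL : Subgroup L) = (P : Subgroup G) := by
        rw [hPLdef, Sylow.coe_subtype]
        exact Subgroup.map_subgroupOf_eq_of_le hPL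
      rw [e] at h3
      exact h3
    rw [eq_top_iff, ← h2]
    exact sup_le le_sup_right h1
  · rw [eq_bot_iff]
    rintro x ⟨hxK, hxN⟩
    obtain ⟨k, hk, rfl⟩ := hxK
    have hxP : (k : G) ∈ (P : Subgroup G) := hNL _ hxN k.2
    rw [SetLike.mem_coe, hmemK] at hk
    obtain ⟨j, hj⟩ := (IsPGroup.iff_orderOf.1 P.isPGroup') ⟨(k : G), hxP⟩
    rw [Subgroup.orderOf_mk, Subgroup.orderOf_coe] at hj
    rw [hj] at hk
    have hj0 : j = 0 := by
      by_contra hne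
      have := Nat.Coprime.eq_one_of_dvd hk.symm (dvd_pow_self p hne)
      exact (Fact.out : p.Prime).one_lt.ne' this
    rw [hj0, pow_zero, orderOf_eq_one_iff] at hj
    rw [Subgroup.mem_bot, hj]
    rfl

theorem exists_ext_of_compl (K : Subgroup G) [K.Normal] (N : Subgroup G) (hsup : K ⊔ N = ⊤)
    (hinf : K ⊓ N = ⊥) (θ : IrrCharacter N) :
    ∃ χ : IrrCharacter G, ∀ x : N, (χ : G → ℂ) x = (θ : N → ℂ) x := by
  obtain ⟨φ, hφ⟩ : ∃ φ : N →* G ⧸ K, φ = (QuotientGroup.mk' K).comp N.subtype := ⟨_, rfl⟩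
  have hinj : Function.Injective φ := by
    rw [injective_iff_map_eq_one]
    intro x hx
    rw [hφ] at hx
    have h1 : (x : G) ∈ K := (QuotientGroup.eq_one_iff _).mp hx
    have h2 : (x : G) ∈ K ⊓ N := ⟨h1, x.2⟩
    rw [hinf, Subgroup.mem_bot] at h2
    exact Subtype.ext h2
  have hsurj : Function.Surjective φ := by
    intro q
    obtain ⟨g, rfl⟩ := QuotientGroup.mk_surjective q
    obtain ⟨x, hx, hxg⟩ := Tr.exists_mk_eq_of_sup_eq_top K N (by rw [sup_comm]; exact hsup) g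
    exact ⟨⟨x, hx⟩, by rw [hφ]; exact hxg.symm⟩
  obtain ⟨e, he⟩ : ∃ e : N ≃* G ⧸ K, ∀ x : N, e x = φ x :=
    ⟨MulEquiv.ofBijective φ ⟨hinj, hsurj⟩, fun x => rfl⟩
  have h1 : IsIrrCharacter (G ⧸ K) ((θ : N → ℂ) ∘ e.symm) :=
    IsIrrCharacter.comp_mulEquiv θ.2 e.symm
  have h2 := CharQuot.irr_inflate (QuotientGroup.mk' K) (QuotientGroup.mk'_surjective K) h1
  refine ⟨⟨_, h2⟩, fun x => ?_⟩
  show (θ : N → ℂ) (e.symm (QuotientGroup.mk' K (x : G))) = (θ : N → ℂ) x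
  have e1 : QuotientGroup.mk' K (x : G) = e x := by
    rw [he, hφ]
    rfl
  rw [e1, MulEquiv.symm_apply_apply]

end main

end Cfsg.Agent.Lib.Helper25.SylExt
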