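import Mathlib
import Cfsg.Agent.Lib.Helper25.SylExt
import Cfsg.Agent.Lib.Helper1.CharInduction

/-!
Brauer induction, part 1: generalized characters, the projection formula, transitivity of
induction through subgroup types, the Banaschewski argument.
-/

set_option autoImplicit false

namespace Cfsg.Agent.Lib.Helper25.Brauer

open Cfsg Cfsg.Agent.Lib.Helper1 Cfsg.Agent.Lib.Helper24
open scoped ComplexConjugate

universe u

section gen

variable {G : Type u} [Group G]

theorem isGen_of_char {χ : G → ℂ} (h : IsCharacter G χ) : IsGeneralizedCharacter G χ :=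
  ⟨χ, 0, h, isCharacter_zero, by simp⟩

theorem isGen_zero : IsGeneralizedCharacter G (0 : G → ℂ) := isGen_of_char isCharacter_zero

theorem isGen_add {f g : G → ℂ} (hf : IsGeneralizedCharacter G f)
    (hg : IsGeneralizedCharacter G g) : IsGeneralizedCharacter G (f + g) := by
  obtain ⟨a, b, ha, hb, rfl⟩ := hf
  obtain ⟨c, d, hc, hd, rfl⟩ := hg
  exact ⟨a + c, b + d, IsCharacter.add ha hc, IsCharacter.add hb hd, by abel⟩

theorem isGen_neg {f : G → ℂ} (hf : IsGeneralizedCharacter G f) :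
    IsGeneralizedCharacter G (-f) := by
  obtain ⟨a, b, ha, hb, rfl⟩ := hf
  exact ⟨b, a, hb, ha, by abel⟩

theorem isGen_sub {f g : G → ℂ} (hf : IsGeneralizedCharacter G f)
    (hg : IsGeneralizedCharacter G g) : IsGeneralizedCharacter G (f - g) := by
  rw [sub_eq_add_neg]
  exact isGen_add hf (isGen_neg hg)

theorem isGen_mul {f g : G → ℂ} (hf : IsGeneralizedCharacter G f)
    (hg : IsGeneralizedCharacter G g) : IsGeneralizedCharacter G (f * g) := by
  obtain ⟨a, b, ha, hb, rfl⟩ := hf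
  obtain ⟨c, d, hc, hd, rfl⟩ := hg
  exact ⟨a * c + b * d, a * d + b * c,
    IsCharacter.add (IsCharacter.mul ha hc) (IsCharacter.mul hb hd),
    IsCharacter.add (IsCharacter.mul ha hd) (IsCharacter.mul hb hc), by ring⟩

theorem isGen_restrict {f : G → ℂ} (hf : IsGeneralizedCharacter G f) (H : Subgroup G) :
    IsGeneralizedCharacter H (fun h : H => f h) := by
  obtain ⟨a, b, ha, hb, rfl⟩ := hf
  exact ⟨_, _, IsCharacter.restrict ha H, IsCharacter.restrict hb H, rfl⟩

theorem isGen_isClassFunction {f : G → ℂ} (hf : IsGeneralizedCharacter G f) :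
    IsClassFunction G f := by
  obtain ⟨a, b, ha, hb, rfl⟩ := hf
  intro g h
  simp only [Pi.sub_apply]
  rw [IsCharacter.isClassFunction ha g h, IsCharacter.isClassFunction hb g h]

theorem isGen_nsmul {f : G → ℂ} (hf : IsGeneralizedCharacter G f) (n : ℕ) :
    IsGeneralizedCharacter G ((n : ℂ) • f) := by
  obtain ⟨a, b, ha, hb, rfl⟩ := hf
  exact ⟨(n : ℂ) • a, (n : ℂ) • b, IsCharacter.natCast_smul ha n, IsCharacter.natCast_smul hb n,
    by rw [smul_sub]⟩

theorem isGen_zsmul {f : G → ℂ} (hf : IsGeneralizedCharacter G f) (z : ℤ) :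
    IsGeneralizedCharacter G ((z : ℂ) • f) := by
  rcases Int.eq_nat_or_neg z with ⟨n, rfl | rfl⟩
  · simpa using isGen_nsmul hf n
  · have := isGen_neg (isGen_nsmul hf n)
    simpa using this

theorem isGen_comp {H : Type u} [Group H] {f : G → ℂ} (hf : IsGeneralizedCharacter G f)
    (e : H →* G) : IsGeneralizedCharacter H (f ∘ e) := by
  obtain ⟨a, b, ha, hb, rfl⟩ := hf
  exact ⟨a ∘ e, b ∘ e, IsCharacter.comp ha e, IsCharacter.comp hb e, rfl⟩

end gen

section ind

variable {G : Type u} [Group G] [Fintype G]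

theorem indFun_neg (H : Subgroup G) (φ : H → ℂ) : indFun H (-φ) = -indFun H φ := by
  have := indFun_smul H (-1) φ
  simpa using this

theorem indFun_sub (H : Subgroup G) (φ ψ : H → ℂ) :
    indFun H (φ - ψ) = indFun H φ - indFun H ψ := by
  rw [sub_eq_add_neg, indFun_add, indFun_neg, ← sub_eq_add_neg]

theorem isGen_indFun (H : Subgroup G) {φ : H → ℂ} (hφ : IsGeneralizedCharacter H φ) :
    IsGeneralizedCharacter G (indFun H φ) := by
  obtain ⟨a, b, ha, hb, rfl⟩ := hφ
  rw [indFun_sub]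
  exact ⟨_, _, indFun_isCharacter H ha, indFun_isCharacter H hb, rfl⟩

/-- The projection formula. -/
theorem indFun_mul (H : Subgroup G) (φ : H → ℂ) {ψ : G → ℂ} (hψ : IsClassFunction G ψ) :
    ψ * indFun H φ = indFun H ((fun h : H => ψ h) * φ) := by
  funext g
  rw [Pi.mul_apply, indFun_apply, indFun_apply, mul_left_comm, Finset.mul_sum]
  congr 1
  refine Finset.sum_congr rfl (fun x _ => ?_)
  by_cases hx : x⁻¹ * g * x ∈ H
  · rw [extendByZero_of_mem H _ hx, extendByZero_of_mem H _ hx, Pi.mul_apply]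
    have h1 := hψ g x⁻¹
    simp only [inv_inv] at h1
    rw [h1]
  · rw [extendByZero_of_not_mem H _ hx, extendByZero_of_not_mem H _ hx, mul_zero]

theorem indFun_one (H : Subgroup G) (φ : H → ℂ) : indFun H φ 1 = (H.index : ℂ) * φ 1 := by
  rw [indFun_apply]
  have h1 : ∀ x : G, extendByZero H φ (x⁻¹ * 1 * x) = φ 1 := by
    intro x
    have : x⁻¹ * 1 * x = ((1 : H) : G) := by simp
    rw [this, extendByZero_coe]
  rw [Finset.sum_congr rfl (fun x _ => h1 x), Finset.sum_const, Finset.card_univ, nsmul_eq_mul,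
    ← Nat.card_eq_fintype_card, ← Subgroup.card_mul_index H]
  have hne : (Nat.card H : ℂ) ≠ 0 := by
    have := Nat.card_pos (α := H)
    exact_mod_cast this.ne'
  push_cast
  field_simp

theorem indFun_congr {H₁ H₂ : Subgroup G} (h : H₁ = H₂) (φ₁ : H₁ → ℂ) (φ₂ : H₂ → ℂ)
    (hφ : ∀ (x : G) (h1 : x ∈ H₁) (h2 : x ∈ H₂), φ₁ ⟨x, h1⟩ = φ₂ ⟨x, h2⟩) :
    indFun H₁ φ₁ = indFun H₂ φ₂ := by
  subst h
  congr 1
  funext x
  exact hφ x.1 x.2 x.2

/-- Transitivity of induction through a subgroup type. -/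
theorem indFun_map (K : Subgroup G) [Fintype K] (E : Subgroup K) (φ : E → ℂ) :
    indFun K (indFun E φ) = indFun (E.map K.subtype)
      (φ ∘ (E.equivMapOfInjective K.subtype K.subtype_injective).symm) := by
  classical
  have hle : E.map K.subtype ≤ K := Subgroup.map_subtype_le E
  rw [← indFun_trans (E.map K.subtype) K hle]
  congr 1
  apply indFun_congr
  · rw [Subgroup.subgroupOf, Subgroup.comap_map_eq_self_of_injective K.subtype_injective]
  · intro x h1 h2
    simp only [Function.comp_apply]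
    congr 1
    rw [MulEquiv.eq_symm_apply]
    apply Subtype.ext
    rw [Subgroup.coe_equivMapOfInjective_apply]
    rfl

theorem indFun_top (φ : G → ℂ) (hφ : IsClassFunction G φ) :
    indFun (⊤ : Subgroup G) (fun x => φ x) = φ := by
  funext g
  rw [indFun_apply]
  have h1 : ∀ x : G, extendByZero (⊤ : Subgroup G) (fun x => φ x) (x⁻¹ * g * x) = φ g := by
    intro x
    rw [extendByZero_of_mem _ _ (Subgroup.mem_top _)]
    have := hφ g x⁻¹
    simpa using this
  rw [Finset.sum_congr rfl (fun x _ => h1 x), Finset.sum_const, Finset.card_univ, nsmul_eq_mul,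
    ← Nat.card_eq_fintype_card, Nat.card_congr Subgroup.topEquiv.toEquiv]
  have hne : (Nat.card G : ℂ) ≠ 0 := by
    have := Nat.card_pos (α := G)
    exact_mod_cast this.ne'
  field_simp

end ind

section ban

/-- Banaschewski's argument. -/
theorem ban {S : Type*} [Fintype S] (R : AddSubgroup (S → ℂ))
    (hmul : ∀ f ∈ R, ∀ g ∈ R, f * g ∈ R) (c : S → ℤ) (f : S → S → ℂ)
    (hf : ∀ x, f x ∈ R) (hfx : ∀ x, f x x = (c x : ℂ)) :
    (fun _ : S => ((∏ x, c x : ℤ) : ℂ)) ∈ R := by
  classical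
  have key : ∀ T : Finset S, ∃ r ∈ R, ∀ y, ∏ x ∈ T, (f x y - (c x : ℂ))
      = (-1) ^ T.card * ((∏ x ∈ T, c x : ℤ) : ℂ) + r y := by
    intro T
    induction T using Finset.induction_on with
    | empty => exact ⟨0, R.zero_mem, fun y => by simp⟩
    | insert a T ha ih =>
      obtain ⟨r, hr, hry⟩ := ih
      refine ⟨((-1 : ℤ) ^ T.card * ∏ x ∈ T, c x) • f a + f a * r - (c a) • r, ?_, fun y => ?_⟩
      · exact R.sub_mem (R.add_mem (R.zsmul_mem (hf a) _) (hmul _ (hf a) _ hr))
          (R.zsmul_mem hr _)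
      · rw [Finset.prod_insert ha, hry y, Finset.prod_insert ha, Finset.card_insert_of_notMem ha]
        simp only [Pi.add_apply, Pi.sub_apply, Pi.smul_apply, Pi.mul_apply]
        simp only [zsmul_eq_mul]
        push_cast
        ring
  obtain ⟨r, hr, hry⟩ := key Finset.univ
  have h0 : ∀ y, ∏ x ∈ Finset.univ, (f x y - (c x : ℂ)) = 0 := by
    intro y
    apply Finset.prod_eq_zero (Finset.mem_univ y)
    rw [hfx y, sub_self]
  have hs : ((-1 : ℂ) ^ (Finset.univ : Finset S).card) * ((-1 : ℂ) ^ (Finset.univ : Finset S).card)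
      = 1 := by
    rw [← mul_pow]; simp
  have hfin : (fun _ : S => ((∏ x, c x : ℤ) : ℂ))
      = ((-1 : ℤ) ^ ((Finset.univ : Finset S).card + 1)) • r := by
    funext y
    have h1 := hry y
    rw [h0 y] at h1
    simp only [Pi.smul_apply]
    simp only [zsmul_eq_mul]
    push_cast
    rw [pow_succ]
    have h2 : r y = -((-1 : ℂ) ^ (Finset.univ : Finset S).card * ((∏ x, c x : ℤ) : ℂ)) := by
      linear_combination -h1
    rw [h2]
    push_cast
    linear_combination (-(∏ x, (c x : ℂ))) * hs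
  rw [hfin]
  exact R.zsmul_mem hr _

theorem one_mem_of_primes (I : AddSubgroup ℤ)
    (h : ∀ p : ℕ, p.Prime → ∃ z ∈ I, ¬ (p : ℤ) ∣ z) : (1 : ℤ) ∈ I := by
  obtain ⟨m, hm⟩ := Int.subgroup_cyclic I
  have hmI : m ∈ I := by rw [hm]; exact AddSubgroup.subset_closure rfl
  have hdvd : ∀ z ∈ I, m ∣ z := by
    intro z hz
    rw [hm, AddSubgroup.mem_closure_singleton] at hz
    obtain ⟨k, rfl⟩ := hz
    exact Dvd.intro_left k (by simp)
  by_cases h1 : m.natAbs = 1
  · rcases Int.natAbs_eq m with h2 | h2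
    · rw [h1] at h2
      rw [show (1 : ℤ) = m by rw [h2]; rfl]
      exact hmI
    · rw [h1] at h2
      have : (1 : ℤ) = -m := by rw [h2]; simp
      rw [this]
      exact I.neg_mem hmI
  · exfalso
    obtain ⟨p, hp, hpm⟩ := Nat.exists_prime_and_dvd h1
    obtain ⟨z, hz, hpz⟩ := h p hp
    apply hpz
    exact dvd_trans (Int.natCast_dvd.mpr hpm) (hdvd z hz)

end ban

end Cfsg.Agent.Lib.Helper25.Brauer
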