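import Mathlib
import Cfsg.Agent.Lib.Helper25.Brauer1
import Cfsg.Agent.Lib.Helper1.CharMore

/-!
Brauer induction, part 2: the Clifford correspondence and monomiality of nilpotent groups.
-/

set_option autoImplicit false

namespace Cfsg.Agent.Lib.Helper25.Brauer

open Cfsg Cfsg.Agent.Lib.Helper1 Cfsg.Agent.Lib.Helper24
open scoped ComplexConjugate

universe u

section cliffcorr

variable {G : Type u} [Group G] [Fintype G]

/-- the degree in Clifford's theorem -/
theorem clifford_one (N : Subgroup G) [hN : N.Normal] [Fintype N] {θ : N → ℂ}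
    (hθ : IsIrrCharacter N θ) {χ : G → ℂ} (hχ : IsIrrCharacter G χ)
    (h : classInner (fun n : N => χ n) θ ≠ 0) :
    χ 1 = classInner (fun n : N => χ n) θ * ((charStab N θ).index : ℂ) * θ 1 := by
  classical
  have hcl := clifford N hχ hθ h
  have h1 := congrFun hcl 1
  have hset : {ψ : N → ℂ | ∃ g : G, ψ = conjChar N θ g}
      = ((Finset.univ.image (fun g : G => conjChar N θ g) : Finset (N → ℂ)) : Set (N → ℂ)) := by
    ext ψ
    simp only [Set.mem_ofPred_eq, Finset.coe_image, Finset.coe_univ, Set.image_univ,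
      Set.mem_range]
    constructor
    · rintro ⟨g, rfl⟩; exact ⟨g, rfl⟩
    · rintro ⟨g, rfl⟩; exact ⟨g, rfl⟩
  rw [hset, finsum_mem_coe_finset] at h1
  simp only [Pi.smul_apply, Finset.sum_apply, smul_eq_mul] at h1
  have h2 : ∀ ψ ∈ Finset.univ.image (fun g : G => conjChar N θ g), ψ 1 = θ 1 := by
    intro ψ hψ
    obtain ⟨g, -, rfl⟩ := Finset.mem_image.mp hψ
    simp only [conjChar]
    congr 1
    apply Subtype.ext
    simp
  rw [Finset.sum_congr rfl h2, Finset.sum_const, nsmul_eq_mul] at h1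
  have h3 := card_orbit_mul_card_stab N θ
  have h4 : (Finset.univ.image (fun g : G => conjChar N θ g)).card = (charStab N θ).index := by
    have h5 := Subgroup.card_mul_index (charStab N θ)
    have hpos : 0 < Nat.card (charStab N θ) := Nat.card_pos
    have h6 : (Finset.univ.image (fun g : G => conjChar N θ g)).card * Nat.card (charStab N θ)
        = (charStab N θ).index * Nat.card (charStab N θ) := by
      rw [h3, ← h5, mul_comm]
    exact Nat.eq_of_mul_eq_mul_right hpos h6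
  rw [h4] at h1
  have h7 : χ 1 = χ ((1 : N) : G) := rfl
  rw [h7, h1]
  ring

/-- The Clifford correspondence: an irreducible character lying over `θ` is induced from the
stabilizer of `θ`. -/
theorem clifford_corr (N : Subgroup G) [hN : N.Normal] [Fintype N] {θ : N → ℂ}
    (hθ : IsIrrCharacter N θ) {χ : G → ℂ} (hχ : IsIrrCharacter G χ)
    (h : classInner (fun n : N => χ n) θ ≠ 0) :
    ∃ ψ : ↥(charStab N θ) → ℂ, IsIrrCharacter ↥(charStab N θ) ψ ∧
      χ = indFun (charStab N θ) ψ := by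
  classical
  have hNT : N ≤ charStab N θ := le_charStab N (IsIrrCharacter.isClassFunction hθ)
  have hfT : Fintype (charStab N θ) := Fintype.ofFinite _
  have hNTn : (N.subgroupOf (charStab N θ)).Normal := Subgroup.normal_subgroupOf
  have hfNT : Fintype (N.subgroupOf (charStab N θ)) := Fintype.ofFinite _
  obtain ⟨e, he⟩ : ∃ e : (N.subgroupOf (charStab N θ)) ≃* N,
      ∀ x, ((e x : N) : G) = ((x : charStab N θ) : G) :=
    ⟨Subgroup.subgroupOfEquivOfLe hNT, fun x => rfl⟩
  have hθT : IsIrrCharacter (N.subgroupOf (charStab N θ)) (θ ∘ e) :=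
    IsIrrCharacter.comp_mulEquiv hθ e
  have hχT : IsCharacter (charStab N θ) (fun t : charStab N θ => χ t) :=
    IsCharacter.restrict (IsIrrCharacter.isCharacter hχ) _
  have hinner : classInner (fun x : N.subgroupOf (charStab N θ) =>
      (fun t : charStab N θ => χ t) x) (θ ∘ e) = classInner (fun n : N => χ n) θ := by
    simp only [classInner]
    rw [Nat.card_congr e.toEquiv]
    congr 1
    apply Fintype.sum_equiv e.toEquiv
    intro x
    simp only [Function.comp_apply, MulEquiv.toEquiv_eq_coe, EquivLike.coe_coe]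
    rw [he x]
  obtain ⟨ψ, hψ, hψχ, hψθ, a, b, ha, hb, hab⟩ :=
    exists_irr_over (N.subgroupOf (charStab N θ)) hχT hθT (by rw [hinner]; exact h)
  refine ⟨ψ, hψ, ?_⟩
  have hstabT : charStab (N.subgroupOf (charStab N θ)) (θ ∘ e) = ⊤ := by
    rw [eq_top_iff]
    intro t _
    rw [mem_charStab]
    funext x
    have ht : conjChar N θ (t : G) = θ := t.2
    have h2 := congrFun ht (e x)
    simp only [conjChar] at h2 ⊢
    rw [Function.comp_apply, Function.comp_apply, ← h2]
    congr 1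
    apply Subtype.ext
    rw [he]
    simp only [Subgroup.coe_mul, Subgroup.coe_inv]
    rw [he x]
  have hdegψ := clifford_one (N.subgroupOf (charStab N θ)) hθT hψ hψθ
  rw [hstabT, Subgroup.index_top, Nat.cast_one, mul_one, ha] at hdegψ
  have hdegχ := clifford_one N hθ hχ h
  rw [← hinner, hb] at hdegχ
  have hΨ : IsCharacter G (indFun (charStab N θ) ψ) :=
    indFun_isCharacter _ (IsIrrCharacter.isCharacter hψ)
  have hfrob : classInner (indFun (charStab N θ) ψ) χ ≠ 0 := by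
    rw [frobenius_reciprocity _ ψ (IsIrrCharacter.isClassFunction hχ), ← classInner_conj_symm]
    simpa using hψχ
  have hΔ := Cfsg.Agent.Lib.Helper13.SL2Irr.sub_irr_isChar' hΨ hχ hfrob
  have hΔ1 : (indFun (charStab N θ) ψ - χ) 1 = 0 := by
    have h1 := CharBasic.char_one_nat hΔ
    have h3 := CharBasic.char_one_nat (IsIrrCharacter.isCharacter hθ)
    have h2 : (indFun (charStab N θ) ψ - χ) 1
        = ((a : ℂ) - b) * ((charStab N θ).index : ℂ) * (charDegree θ : ℂ) := by
      rw [Pi.sub_apply, indFun_one, hdegψ, hdegχ]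
      simp only [Function.comp_apply, map_one]
      rw [h3]
      ring
    rw [h2] at h1
    have h4 : ((a : ℤ) - b) * ((charStab N θ).index : ℤ) * (charDegree θ : ℤ)
        = (charDegree (indFun (charStab N θ) ψ - χ) : ℤ) := by
      exact_mod_cast h1
    have h5 : ((a : ℤ) - b) * ((charStab N θ).index : ℤ) * (charDegree θ : ℤ) ≤ 0 := by
      have h6 : (a : ℤ) - b ≤ 0 := by omega
      have h7 : (0 : ℤ) ≤ ((charStab N θ).index : ℤ) * (charDegree θ : ℤ) := by positivity
      nlinarith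
    have h8 : (charDegree (indFun (charStab N θ) ψ - χ) : ℤ) = 0 := by
      have : (0 : ℤ) ≤ (charDegree (indFun (charStab N θ) ψ - χ) : ℤ) := by positivity
      omega
    rw [h2, h1]
    exact_mod_cast h8
  have hzero := Cfsg.Agent.Lib.Helper13.SL2Irr.char_eq_zero_of_deg hΔ hΔ1
  exact (sub_eq_zero.mp hzero).symm

end cliffcorr

section linear

variable {X : Type u} [Group X] [Fintype X]

/-- An irreducible character whose kernel contains all commutators is linear. -/
theorem linear_of_comm {θ : X → ℂ} (hθ : IsIrrCharacter X θ)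
    (h : ∀ a b : X, θ (a * b * a⁻¹ * b⁻¹) = θ 1) : θ 1 = 1 := by
  classical
  have hθc := IsIrrCharacter.isCharacter hθ
  have hn := charKer_normal hθc
  obtain ⟨ψ, hψ, hψθ⟩ := CharQuot.irr_quotient (charKer θ hθc) hθ (fun x hx => hx)
  have hcomm : ∀ a b : X ⧸ charKer θ hθc, a * b = b * a := by
    intro a b
    induction a using QuotientGroup.induction_on with
    | H a =>
    induction b using QuotientGroup.induction_on with
    | H b =>
    rw [← QuotientGroup.mk_mul, ← QuotientGroup.mk_mul, QuotientGroup.eq]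
    have h1 := h b⁻¹ a⁻¹
    have e : (a * b)⁻¹ * (b * a) = b⁻¹ * a⁻¹ * b⁻¹⁻¹ * a⁻¹⁻¹ := by group
    rw [e]
    exact h1
  have h1 := irr_degree_one_of_comm hcomm hψ
  rw [← hψθ 1]
  exact h1

end linear

section nilp

variable {X : Type u} [Group X] [Fintype X]

theorem exists_nonstable [hnil : Group.IsNilpotent X] {χ : X → ℂ} (hχ : IsIrrCharacter X χ)
    (h1 : χ 1 ≠ 1) :
    ∃ (A : Subgroup X) (hA : A.Normal) (hf : Fintype A) (θ : A → ℂ), IsIrrCharacter A θ ∧
      classInner (fun a : A => χ a) θ ≠ 0 ∧ charStab A θ ≠ ⊤ := by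
  classical
  have hχc := IsIrrCharacter.isCharacter hχ
  obtain ⟨K, hKdef⟩ : ∃ K : Subgroup X, K = charKer χ hχc := ⟨_, rfl⟩
  have hKn : K.Normal := by rw [hKdef]; exact charKer_normal hχc
  have hmemK : ∀ g, g ∈ K ↔ χ g = χ 1 := by
    intro g; rw [hKdef]; exact mem_charKer hχc
  obtain ⟨Z, hZdef⟩ : ∃ Z : Subgroup X,
      Z = (Subgroup.center (X ⧸ K)).comap (QuotientGroup.mk' K) := ⟨_, rfl⟩
  have hZn : Z.Normal := by rw [hZdef]; infer_instance
  have hmemZ : ∀ g, g ∈ Z ↔ ∀ r : X ⧸ K, r * (g : X ⧸ K) = (g : X ⧸ K) * r := by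
    intro g
    rw [hZdef, Subgroup.mem_comap, Subgroup.mem_center_iff]
    rfl
  have hZK : ∀ g, (∀ h : X, g * h * g⁻¹ * h⁻¹ ∈ K) → g ∈ Z := by
    intro g hg
    rw [hmemZ]
    intro r
    induction r using QuotientGroup.induction_on with
    | H h =>
    rw [← QuotientGroup.mk_mul, ← QuotientGroup.mk_mul, QuotientGroup.eq]
    have h2 := hg h
    have h3 : (h * g)⁻¹ * (g * h) = h⁻¹ * (g⁻¹ * (g * h * g⁻¹ * h⁻¹) * g⁻¹⁻¹) * h⁻¹⁻¹ := by
      group
    rw [h3]
    exact hKn.conj_mem _ (hKn.conj_mem _ h2 g⁻¹) h⁻¹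
  -- Z is proper
  have hZtop : Z ≠ ⊤ := by
    intro htop
    apply h1
    obtain ⟨ψ, hψ, hψχ⟩ := CharQuot.irr_quotient K hχ (fun x hx => (hmemK x).mp hx)
    have hcomm : ∀ a b : X ⧸ K, a * b = b * a := by
      intro a b
      induction b using QuotientGroup.induction_on with
      | H b =>
      have hb : b ∈ Z := by rw [htop]; exact Subgroup.mem_top b
      exact (hmemZ b).mp hb a
    have h2 := irr_degree_one_of_comm hcomm hψ
    rw [← hψχ 1]
    exact h2
  -- an element central modulo Z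
  obtain ⟨n, hn⟩ := hnil.nilpotent'
  have hP : ∃ m, ¬ (Subgroup.upperCentralSeries X m ≤ Z) := by
    refine ⟨n, ?_⟩
    rw [hn]
    intro hle
    exact hZtop (top_le_iff.mp hle)
  obtain ⟨m, hm⟩ : ∃ m, Nat.find hP = m := ⟨_, rfl⟩
  have hm0 : m ≠ 0 := by
    intro h0
    have h2 := Nat.find_spec hP
    rw [hm, h0, Subgroup.upperCentralSeries_zero] at h2
    exact h2 bot_le
  obtain ⟨k, rfl⟩ := Nat.exists_eq_succ_of_ne_zero hm0
  have hk : Subgroup.upperCentralSeries X k ≤ Z := by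
    have h2 := Nat.find_min hP (m := k) (by rw [hm]; exact Nat.lt_succ_self k)
    exact not_not.mp h2
  have hk1 : ¬ (Subgroup.upperCentralSeries X (k + 1) ≤ Z) := by
    have h2 := Nat.find_spec hP
    rw [hm] at h2
    exact h2
  obtain ⟨x, hxk, hxZ⟩ := SetLike.not_le_iff_exists.mp hk1
  have hxc : ∀ y : X, x * y * x⁻¹ * y⁻¹ ∈ Z := by
    intro y
    have h2 := (Subgroup.mem_upperCentralSeries_succ_iff.mp hxk) y
    rw [commutatorElement_def] at h2
    exact hk h2
  -- the subgroup A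
  have hxcen : ∀ q ∈ Subgroup.zpowers (QuotientGroup.mk' Z x), ∀ r : X ⧸ Z, r * q = q * r := by
    intro q hq r
    obtain ⟨j, rfl⟩ := Subgroup.mem_zpowers_iff.mp hq
    have hcx : Commute r (QuotientGroup.mk' Z x) := by
      induction r using QuotientGroup.induction_on with
      | H y =>
      show (y : X ⧸ Z) * (x : X ⧸ Z) = (x : X ⧸ Z) * (y : X ⧸ Z)
      rw [← QuotientGroup.mk_mul, ← QuotientGroup.mk_mul, QuotientGroup.eq]
      have h2 := hxc y⁻¹
      have h3 : (y * x)⁻¹ * (x * y) = y⁻¹ * (x⁻¹ * (x * y * x⁻¹ * y⁻¹) * x⁻¹⁻¹) * y⁻¹⁻¹ := by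
        group
      rw [h3]
      exact hZn.conj_mem _ (hZn.conj_mem _ (hxc y) x⁻¹) y⁻¹
    exact (hcx.zpow_right j).eq
  obtain ⟨A, hAdef⟩ : ∃ A : Subgroup X,
      A = (Subgroup.zpowers (QuotientGroup.mk' Z x)).comap (QuotientGroup.mk' Z) := ⟨_, rfl⟩
  have hmemA : ∀ a, a ∈ A ↔ (a : X ⧸ Z) ∈ Subgroup.zpowers (QuotientGroup.mk' Z x) := by
    intro a; rw [hAdef]; rfl
  have hAn : A.Normal := by
    constructor
    intro a ha g
    rw [hmemA] at ha ⊢
    have h2 : ((g * a * g⁻¹ : X) : X ⧸ Z) = (a : X ⧸ Z) := by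
      rw [QuotientGroup.mk_mul, QuotientGroup.mk_mul, QuotientGroup.mk_inv,
        hxcen _ ha (g : X ⧸ Z), mul_assoc, mul_inv_cancel, mul_one]
    rw [h2]
    exact ha
  have hZA : Z ≤ A := by
    intro z hz
    rw [hmemA]
    have : (z : X ⧸ Z) = 1 := (QuotientGroup.eq_one_iff z).mpr hz
    rw [this]
    exact one_mem _
  have hxA : x ∈ A := by
    rw [hmemA]
    exact Subgroup.mem_zpowers _
  -- elements of A commute modulo K
  have hdecomp : ∀ a ∈ A, ∃ (j : ℤ) (z : X), z ∈ Z ∧ a = x ^ j * z := by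
    intro a ha
    rw [hmemA] at ha
    obtain ⟨j, hj⟩ := Subgroup.mem_zpowers_iff.mp ha
    refine ⟨j, (x ^ j)⁻¹ * a, ?_, by group⟩
    have h2 : ((x ^ j : X) : X ⧸ Z) = (a : X ⧸ Z) := by
      rw [QuotientGroup.mk_zpow]
      exact hj
    exact QuotientGroup.eq.mp h2
  have hAcomm : ∀ a ∈ A, ∀ b ∈ A, a * b * a⁻¹ * b⁻¹ ∈ K := by
    intro a ha b hb
    obtain ⟨i, z₁, hz₁, rfl⟩ := hdecomp a ha
    obtain ⟨j, z₂, hz₂, rfl⟩ := hdecomp b hb
    have hc1 : ∀ r : X ⧸ K, Commute (z₁ : X ⧸ K) r := fun r => ((hmemZ z₁).mp hz₁ r).symm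
    have hc2 : ∀ r : X ⧸ K, Commute (z₂ : X ⧸ K) r := fun r => ((hmemZ z₂).mp hz₂ r).symm
    have hcomm : Commute (((x : X ⧸ K)) ^ i * (z₁ : X ⧸ K)) (((x : X ⧸ K)) ^ j * (z₂ : X ⧸ K)) :=
      Commute.mul_left (Commute.mul_right (Commute.zpow_zpow_self _ i j) (hc2 _).symm) (hc1 _)
    rw [← QuotientGroup.eq_one_iff]
    simp only [QuotientGroup.mk_mul, QuotientGroup.mk_inv, QuotientGroup.mk_zpow]
    rw [hcomm.eq]
    group
  have hfA : Fintype A := Fintype.ofFinite A
  -- a constituent of the restriction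
  have hχA : IsCharacter A (fun a : A => χ a) := IsCharacter.restrict hχc A
  have hχ1 : χ 1 ≠ 0 := by
    have h2 := CharBasic.char_one_nat hχc
    have h3 := (Defect.charDegree_dvd_card (⟨χ, hχ⟩ : IrrCharacter X)).2
    rw [h2]
    exact_mod_cast h3.ne'
  obtain ⟨θ, hθ, hθχ⟩ := exists_irr_constituent hχA (by exact hχ1)
  refine ⟨A, hAn, hfA, θ, hθ, hθχ, ?_⟩
  -- θ is linear
  have hθker : ∀ k : A, (k : X) ∈ K → θ k = θ 1 := by
    intro k hk
    exact SylExt.eq_one_of_inner hχA hθ hθχ k ((hmemK _).mp hk)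
  have hθ1 : θ 1 = 1 := by
    apply linear_of_comm hθ
    intro a b
    apply hθker
    exact hAcomm a a.2 b b.2
  obtain ⟨lam, hlam⟩ := IsIrrCharacter.exists_monoidHom hθ hθ1
  intro hst
  -- θ is invariant
  have hinv : ∀ g : X, conjChar A θ g = θ := by
    intro g
    have : g ∈ charStab A θ := by rw [hst]; exact Subgroup.mem_top g
    exact this
  have hcl := clifford A hχ hθ hθχ
  have hset : {ψ : A → ℂ | ∃ g : X, ψ = conjChar A θ g} = {θ} := by
    ext ψ
    simp only [Set.mem_ofPred_eq, Set.mem_singleton_iff]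
    constructor
    · rintro ⟨g, rfl⟩; exact hinv g
    · rintro rfl; exact ⟨1, (hinv 1).symm⟩
  rw [hset, finsum_mem_singleton] at hcl
  have hval : ∀ a : A, χ a = classInner (fun a : A => χ a) θ * θ a := fun a => congrFun hcl a
  have hc : classInner (fun a : A => χ a) θ = χ 1 := by
    have h2 := hval 1
    rw [hθ1, mul_one] at h2
    exact h2.symm
  apply hxZ
  apply hZK
  intro h
  rw [hmemK]
  have hw : x * h * x⁻¹ * h⁻¹ ∈ A := hZA (hxc h)
  have hc' : h * x⁻¹ * h⁻¹ ∈ A := hAn.conj_mem _ (inv_mem hxA) h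
  have h2 := hval ⟨_, hw⟩
  rw [hc] at h2
  have h3 : (⟨x * h * x⁻¹ * h⁻¹, hw⟩ : A) = ⟨x, hxA⟩ * ⟨h * x⁻¹ * h⁻¹, hc'⟩ := by
    apply Subtype.ext
    simp only [Subgroup.coe_mul]
    group
  have h4 : θ ⟨h * x⁻¹ * h⁻¹, hc'⟩ = θ (⟨x, hxA⟩ : A)⁻¹ := by
    have h5 := congrFun (hinv h) (⟨x, hxA⟩ : A)⁻¹
    simp only [conjChar] at h5
    rw [← h5]
    congr 1
  have h6 : θ (⟨x * h * x⁻¹ * h⁻¹, hw⟩ : A) = 1 := by
    rw [h3, hlam, map_mul]
    have h7 : lam ⟨h * x⁻¹ * h⁻¹, hc'⟩ = lam (⟨x, hxA⟩ : A)⁻¹ := by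
      apply Units.ext
      rw [← hlam, ← hlam]
      exact h4
    rw [h7, map_inv, mul_inv_cancel, Units.val_one]
  have h8 : χ (x * h * x⁻¹ * h⁻¹) = χ 1 * θ (⟨x * h * x⁻¹ * h⁻¹, hw⟩ : A) := h2
  rw [h8, h6, mul_one]

theorem nilpotent_mgroup_aux : ∀ (n : ℕ) (X : Type u) [Group X] [Fintype X]
    [Group.IsNilpotent X], Nat.card X = n → ∀ χ : X → ℂ, IsIrrCharacter X χ →
    ∃ (K : Subgroup X) (lam : K →* ℂˣ), χ = indFun K (fun k => ((lam k : ℂˣ) : ℂ)) := by
  intro n
  induction n using Nat.strong_induction_on with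
  | _ n ih =>
    intro X _ _ _ hn χ hχ
    classical
    by_cases h1 : χ 1 = 1
    · obtain ⟨lam, hlam⟩ := IsIrrCharacter.exists_monoidHom hχ h1
      refine ⟨⊤, lam.comp (⊤ : Subgroup X).subtype, ?_⟩
      have h2 := indFun_top χ (IsIrrCharacter.isClassFunction hχ)
      rw [← h2]
      congr 1
      funext x
      exact hlam x
    · obtain ⟨A, hAn, hfA, θ, hθ, hθχ, hstab⟩ := exists_nonstable hχ h1
      obtain ⟨ψ, hψ, hχψ⟩ := clifford_corr A hθ hχ hθχ
      have hlt : Nat.card (charStab A θ) < n := by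
        rw [← hn]
        apply lt_of_le_of_ne (Subgroup.card_le_card_group _)
        intro heq
        exact hstab (Subgroup.eq_top_of_card_eq _ heq)
      have hfT : Fintype (charStab A θ) := Fintype.ofFinite _
      obtain ⟨K, lam, hK⟩ := ih _ hlt (charStab A θ) rfl ψ hψ
      refine ⟨K.map (charStab A θ).subtype,
        lam.comp (K.equivMapOfInjective _ (Subgroup.subtype_injective _)).symm.toMonoidHom, ?_⟩
      rw [hχψ, hK, indFun_map]
      rfl

/-- A finite nilpotent group is an M-group. -/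
theorem nilpotent_mgroup [Group.IsNilpotent X] (χ : X → ℂ) (hχ : IsIrrCharacter X χ) :
    ∃ (K : Subgroup X) (lam : K →* ℂˣ), χ = indFun K (fun k => ((lam k : ℂˣ) : ℂ)) :=
  nilpotent_mgroup_aux _ X rfl χ hχ

end nilp

end Cfsg.Agent.Lib.Helper25.Brauer
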