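import Mathlib
import Cfsg.Agent.Lib.Helper24.Brauer9
import Cfsg.Agent.S4964
import Cfsg.Agent.Lib.Helper6.BlockVanish

set_option autoImplicit false

namespace Cfsg.Agent.Lib.Helper25.MaxPair

open Cfsg Cfsg.Agent.Lib.Helper1 Cfsg.Agent.Lib.Helper6 Cfsg.Agent.Lib.Helper24
open Cfsg.Agent.Lib.Helper24.Brauer
open scoped ComplexConjugate

universe u

section generic

variable {M : Ideal AlgInt}

/-- A sum over a finite set on which a finite `p`-group acts, with weights in the local ring that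
are invariant modulo the local ideal and lie in the local ideal at the fixed points, lies in the
local ideal. -/
theorem pgroup_sum_mem_mod {p : ℕ} (hM : IsPModular p M) {P : Type*} [Group P] [Finite P]
    (hP : IsPGroup p P) {α : Type*} [Fintype α] [MulAction P α] (w : α → ℂ)
    (hw : ∀ (u : P) (a : α), MemLocalIdeal M (w (u • a) - w a))
    (hS : ∀ a, MemLocalRing M (w a))
    (hfix : ∀ a, a ∈ MulAction.fixedPoints P α → MemLocalIdeal M (w a)) :
    MemLocalIdeal M (∑ a, w a) := by
  classical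
  have hmax := hM.2.1
  haveI : Fact p.Prime := ⟨hM.1⟩
  haveI : Fintype (MulAction.orbitRel.Quotient P α) := Fintype.ofFinite _
  haveI : ∀ ω : MulAction.orbitRel.Quotient P α,
      Fintype (MulAction.orbit P ω.out) := fun ω => Fintype.ofFinite _
  rw [← Equiv.sum_comp (MulAction.selfEquivSigmaOrbits P α).symm w, Fintype.sum_sigma]
  apply memLocalIdeal_sum hmax
  intro ω _
  have h1 : ∀ b : MulAction.orbit P ω.out, MemLocalIdeal M
      (w ((MulAction.selfEquivSigmaOrbits P α).symm ⟨ω, b⟩) - w ω.out) := by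
    intro b
    obtain ⟨g, hg⟩ := b.2
    have : (MulAction.selfEquivSigmaOrbits P α).symm ⟨ω, b⟩ = b.1 := rfl
    rw [this, ← hg]
    exact hw g _
  have e1 : ∑ b : MulAction.orbit P ω.out,
        w ((MulAction.selfEquivSigmaOrbits P α).symm ⟨ω, b⟩)
      = ∑ b : MulAction.orbit P ω.out,
          (w ((MulAction.selfEquivSigmaOrbits P α).symm ⟨ω, b⟩) - w ω.out)
        + (Fintype.card (MulAction.orbit P ω.out) : ℂ) * w ω.out := by
    rw [Finset.sum_sub_distrib, Finset.sum_const, Finset.card_univ, nsmul_eq_mul]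
    ring
  rw [e1]
  apply MemLocalIdeal.add hmax (memLocalIdeal_sum hmax _ _ (fun b _ => h1 b))
  obtain ⟨n, hn⟩ := hP.card_orbit ω.out
  rw [Nat.card_eq_fintype_card] at hn
  rw [hn]
  by_cases hn0 : n = 0
  · rw [hn0, pow_zero] at hn
    have hfp := hfix _ (MulAction.mem_fixedPoints_iff_card_orbit_eq_one.mpr hn)
    rw [hn0, pow_zero, Nat.cast_one, one_mul]
    exact hfp
  · apply MemLocalIdeal.mul_right hmax _ (hS _)
    rw [memLocalIdeal_natCast_iff hM]
    exact dvd_pow_self p hn0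

end generic

section prod

variable {G : Type u} [Group G]

/-- The product set of two elementwise commuting subgroups, as a subgroup. -/
def commProd (H K : Subgroup G) (hc : ∀ h ∈ H, ∀ k ∈ K, h * k = k * h) : Subgroup G where
  carrier := {x | ∃ h ∈ H, ∃ k ∈ K, x = h * k}
  one_mem' := ⟨1, H.one_mem, 1, K.one_mem, by simp⟩
  mul_mem' := by
    rintro _ _ ⟨h₁, hh₁, k₁, hk₁, rfl⟩ ⟨h₂, hh₂, k₂, hk₂, rfl⟩
    refine ⟨h₁ * h₂, H.mul_mem hh₁ hh₂, k₁ * k₂, K.mul_mem hk₁ hk₂, ?_⟩
    calc h₁ * k₁ * (h₂ * k₂) = h₁ * (k₁ * h₂) * k₂ := by group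
      _ = h₁ * (h₂ * k₁) * k₂ := by rw [hc h₂ hh₂ k₁ hk₁]
      _ = h₁ * h₂ * (k₁ * k₂) := by group
  inv_mem' := by
    rintro _ ⟨h, hh, k, hk, rfl⟩
    refine ⟨h⁻¹, H.inv_mem hh, k⁻¹, K.inv_mem hk, ?_⟩
    rw [mul_inv_rev]
    exact (hc h⁻¹ (H.inv_mem hh) k⁻¹ (K.inv_mem hk)).symm

theorem exists_of_mem_sup (H K : Subgroup G) (hc : ∀ h ∈ H, ∀ k ∈ K, h * k = k * h) {x : G}
    (hx : x ∈ H ⊔ K) : ∃ h ∈ H, ∃ k ∈ K, x = h * k := by
  have hle : H ⊔ K ≤ commProd H K hc := by
    apply sup_le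
    · intro h hh
      exact ⟨h, hh, 1, K.one_mem, by simp⟩
    · intro k hk
      exact ⟨1, H.one_mem, k, hk, by simp⟩
  exact hle hx

theorem comm_centralizer (Q : Subgroup G) :
    ∀ h ∈ Q, ∀ k ∈ Subgroup.centralizer (Q : Set G), h * k = k * h := by
  intro h hh k hk
  exact Subgroup.mem_centralizer_iff.mp hk h hh

end prod

section pairs

variable {G : Type u} [Group G] [Fintype G] {M : Ideal AlgInt}

/-- The stabilizer of `e` in `N_G(Q)`, as a subgroup of `G`. -/
noncomputable def stabSub (Q : Subgroup G)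
    (e : Set (IrrCharacter (Subgroup.centralizer (Q : Set G)))) : Subgroup G :=
  (MulAction.stabilizer (Subgroup.normalizer (Q : Set G)) e).map
    (Subgroup.normalizer (Q : Set G)).subtype

theorem mem_stabSub (Q : Subgroup G)
    (e : Set (IrrCharacter (Subgroup.centralizer (Q : Set G)))) (y : G) :
    y ∈ stabSub Q e ↔ y ∈ Subgroup.normalizer (Q : Set G) ∧
      StabilizesBlock (Subgroup.centralizer (Q : Set G)) e y := by
  constructor
  · rintro ⟨n, hn, rfl⟩
    exact ⟨n.2, stabilizes_of_smul_eq Q n e (MulAction.mem_stabilizer_iff.mp hn)⟩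
  · rintro ⟨hy, hst⟩
    exact ⟨⟨y, hy⟩, MulAction.mem_stabilizer_iff.mpr (smul_eq_of_stabilizes Q ⟨y, hy⟩ e hst), rfl⟩

theorem sup_le_normalizer (Q : Subgroup G) :
    Q ⊔ Subgroup.centralizer (Q : Set G) ≤ Subgroup.normalizer (Q : Set G) :=
  sup_le Subgroup.le_normalizer (Subgroup.centralizer_le_normalizer _)

theorem sup_le_stabSub (Q : Subgroup G)
    (e : Set (IrrCharacter (Subgroup.centralizer (Q : Set G)))) :
    Q ⊔ Subgroup.centralizer (Q : Set G) ≤ stabSub Q e := by
  intro t ht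
  rw [mem_stabSub]
  exact ⟨sup_le_normalizer Q ht, stabilizes_of_mem_innerOn _ e t (le_innerOn Q ht)⟩

theorem eq_of_centralizing {p : ℕ} [Fact p.Prime] (hM : IsPModular p M) (Q : Subgroup G)
    (e : Set (IrrCharacter (Subgroup.centralizer (Q : Set G)))) (he : IsBrauerPair p M Q e)
    (hmaxN : ∀ (R₁ : Subgroup G) (g : Set (IrrCharacter (Subgroup.centralizer (R₁ : Set G)))),
      IsNormalSubpair p M Q e R₁ g → R₁ = Q)
    (c : Subgroup.centralizer (Q : Set G)) (hc : ¬ MemLocalIdeal M (blockCoeff e c))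
    (S : Subgroup G) (hS : IsPGroup p S) (hQS : Q ≤ S) (hST : S ≤ stabSub Q e)
    (hSc : (c : G) ∈ Subgroup.centralizer (S : Set G)) : S = Q := by
  obtain ⟨g, hg⟩ := exists_normal_superpair hM Q S e he hS hQS
    (fun x hx => ((mem_stabSub Q e x).mp (hST hx)).1)
    (fun x hx => ((mem_stabSub Q e x).mp (hST hx)).2) (c : G) hSc
    (by rw [subgroupBlockCoeff_eq, ext_coe]; exact hc)
  exact hmaxN S g hg

theorem mem_of_centralizing {p : ℕ} [Fact p.Prime] (hM : IsPModular p M) (Q : Subgroup G)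
    (e : Set (IrrCharacter (Subgroup.centralizer (Q : Set G)))) (he : IsBrauerPair p M Q e)
    (hmaxN : ∀ (R₁ : Subgroup G) (g : Set (IrrCharacter (Subgroup.centralizer (R₁ : Set G)))),
      IsNormalSubpair p M Q e R₁ g → R₁ = Q)
    (c : Subgroup.centralizer (Q : Set G)) (hc : ¬ MemLocalIdeal M (blockCoeff e c))
    (x : G) (hxT : x ∈ stabSub Q e) (k : ℕ) (hk : orderOf x = p ^ k)
    (hxc : x * (c : G) = (c : G) * x) : x ∈ Q := by
  have hxN := ((mem_stabSub Q e x).mp hxT).1
  have hZ : IsPGroup p (Subgroup.zpowers x) :=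
    IsPGroup.of_card (n := k) (by rw [Nat.card_zpowers, hk])
  have hS : IsPGroup p (Subgroup.zpowers x ⊔ Q : Subgroup G) :=
    IsPGroup.to_sup_of_normal_right' hZ he.1 (Subgroup.zpowers_le.mpr hxN)
  have hST : Subgroup.zpowers x ⊔ Q ≤ stabSub Q e :=
    sup_le (Subgroup.zpowers_le.mpr hxT) (le_sup_left.trans (sup_le_stabSub Q e))
  have hle : Subgroup.zpowers x ⊔ Q ≤ Subgroup.centralizer ({(c : G)} : Set G) := by
    apply sup_le
    · rw [Subgroup.zpowers_le, Subgroup.mem_centralizer_iff]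
      intro y hy
      rw [Set.mem_singleton_iff] at hy
      rw [hy]
      exact hxc.symm
    · intro q hq
      rw [Subgroup.mem_centralizer_iff]
      intro y hy
      rw [Set.mem_singleton_iff] at hy
      rw [hy]
      exact (Subgroup.mem_centralizer_iff.mp c.2 q hq).symm
  have hSc : (c : G) ∈ Subgroup.centralizer ((Subgroup.zpowers x ⊔ Q : Subgroup G) : Set G) := by
    rw [Subgroup.mem_centralizer_iff]
    intro h hh
    exact (Subgroup.mem_centralizer_iff.mp (hle hh) (c : G) (Set.mem_singleton _)).symm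
  have hEq := eq_of_centralizing hM Q e he hmaxN c hc _ hS le_sup_right hST hSc
  rw [← hEq]
  exact Subgroup.mem_sup_left (Subgroup.mem_zpowers x)

theorem defect_le {p : ℕ} [Fact p.Prime] (hM : IsPModular p M) (Q : Subgroup G)
    (e : Set (IrrCharacter (Subgroup.centralizer (Q : Set G)))) (he : IsBrauerPair p M Q e)
    (hmaxN : ∀ (R₁ : Subgroup G) (g : Set (IrrCharacter (Subgroup.centralizer (R₁ : Set G)))),
      IsNormalSubpair p M Q e R₁ g → R₁ = Q) :
    blockDefect p e
      ≤ (Nat.card (Q ⊓ Subgroup.centralizer (Q : Set G) : Subgroup G)).factorization p := by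
  classical
  have hmax := hM.2.1
  have hp : p.Prime := Fact.out
  obtain ⟨θ, hθ⟩ := Defect.block_nonempty hmax e he.2
  obtain ⟨y, hy⟩ := exists_defectClass hmax e he.2
  have h1 := Defect.defect_ge_of_centralChar hM e he.2 θ hθ y (hy.2.2 θ hθ)
  refine h1.trans ?_
  obtain ⟨P₀⟩ : Nonempty (Sylow p (Subgroup.centralizer
    ({y} : Set (Subgroup.centralizer (Q : Set G))))) := inferInstance
  obtain ⟨D, hDdef⟩ : ∃ D : Subgroup G, D = ((P₀ : Subgroup (Subgroup.centralizer
      ({y} : Set (Subgroup.centralizer (Q : Set G))))).map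
      (Subgroup.centralizer ({y} : Set (Subgroup.centralizer (Q : Set G)))).subtype).map
      (Subgroup.centralizer (Q : Set G)).subtype := ⟨_, rfl⟩
  have hDp : IsPGroup p D := by
    rw [hDdef]
    exact (P₀.isPGroup'.map _).map _
  have hcard : Nat.card D = p ^ (Nat.card (Subgroup.centralizer
      ({y} : Set (Subgroup.centralizer (Q : Set G))))).factorization p := by
    rw [hDdef, Subgroup.card_map_of_injective (Subgroup.subtype_injective _),
      Subgroup.card_map_of_injective (Subgroup.subtype_injective _), Sylow.card_eq_multiplicity]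
  have hD : D ≤ Q ⊓ Subgroup.centralizer (Q : Set G) := by
    intro d hd
    obtain ⟨kk, hkk⟩ := IsPGroup.iff_orderOf.mp hDp ⟨d, hd⟩
    rw [← Subgroup.orderOf_coe] at hkk
    have hd' := hd
    rw [hDdef] at hd'
    obtain ⟨d₁, ⟨z, hz, rfl⟩, rfl⟩ := hd'
    have hzC : ((z : Subgroup.centralizer (Q : Set G)) : G) ∈ Subgroup.centralizer (Q : Set G) :=
      (z : Subgroup.centralizer (Q : Set G)).2
    refine ⟨?_, hzC⟩
    apply mem_of_centralizing hM Q e he hmaxN y hy.2.1 _
      (sup_le_stabSub Q e (Subgroup.mem_sup_right hzC)) kk hkk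
    have h2 := Subgroup.mem_centralizer_iff.mp z.2 y (Set.mem_singleton y)
    have h3 := congrArg (Subtype.val : Subgroup.centralizer (Q : Set G) → G) h2
    exact h3.symm
  have hdvd := Subgroup.card_dvd_of_le hD
  rw [hcard] at hdvd
  exact (hp.pow_dvd_iff_le_factorization Nat.card_pos.ne').mp hdvd

theorem exists_theta {p : ℕ} [Fact p.Prime] (hM : IsPModular p M) (Q : Subgroup G)
    (e : Set (IrrCharacter (Subgroup.centralizer (Q : Set G)))) (he : IsBrauerPair p M Q e)
    (hmaxN : ∀ (R₁ : Subgroup G) (g : Set (IrrCharacter (Subgroup.centralizer (R₁ : Set G)))),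
      IsNormalSubpair p M Q e R₁ g → R₁ = Q) :
    ∃ θ ∈ e, (∀ z : Subgroup.centralizer (Q : Set G), (z : G) ∈ Q →
        (θ : Subgroup.centralizer (Q : Set G) → ℂ) z
          = (θ : Subgroup.centralizer (Q : Set G) → ℂ) 1) ∧
      (charDegree (θ : Subgroup.centralizer (Q : Set G) → ℂ)).factorization p
        + (Nat.card (Q ⊓ Subgroup.centralizer (Q : Set G) : Subgroup G)).factorization p
        = (Nat.card (Subgroup.centralizer (Q : Set G))).factorization p := by
  classical
  have hmax := hM.2.1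
  have hp : p.Prime := Fact.out
  obtain ⟨Z', hZ'def⟩ : ∃ Z' : Subgroup (Subgroup.centralizer (Q : Set G)),
      Z' = (Q ⊓ Subgroup.centralizer (Q : Set G)).subgroupOf (Subgroup.centralizer (Q : Set G)) :=
    ⟨_, rfl⟩
  have hmemZ' : ∀ z : Subgroup.centralizer (Q : Set G), z ∈ Z' ↔ (z : G) ∈ Q := by
    intro z
    rw [hZ'def, Subgroup.mem_subgroupOf]
    exact ⟨fun h => h.1, fun h => ⟨h, z.2⟩⟩
  haveI hZn : Z'.Normal := by
    constructor
    intro z hz c
    have hzQ := (hmemZ' z).mp hz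
    have h1 := Subgroup.mem_centralizer_iff.mp c.2 (z : G) hzQ
    have e1 : c * z * c⁻¹ = z := by
      apply Subtype.ext
      show (c : G) * (z : G) * (c : G)⁻¹ = z
      rw [← h1]
      group
    rw [e1]
    exact hz
  have hZ'p : IsPGroup p Z' := by
    rw [hZ'def]
    exact (he.1.to_le inf_le_left).comap_subtype
  obtain ⟨θ, hθe, hθ⟩ := Cfsg.Agent.S4964.exists_trivial_in_block p hM Z' hZ'p e he.2
  refine ⟨θ, hθe, fun z hz => hθ z ((hmemZ' z).mpr hz), ?_⟩
  obtain ⟨n, hn1, hndvd, hnpos⟩ := CharQuot.degree_dvd_index Z' θ.2 hθ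
  have hdeg : charDegree (θ : Subgroup.centralizer (Q : Set G) → ℂ) = n := by
    unfold charDegree
    rw [hn1]
    simp
  have hcardZ : Nat.card Z' = Nat.card (Q ⊓ Subgroup.centralizer (Q : Set G) : Subgroup G) := by
    rw [hZ'def]
    exact Nat.card_congr (Subgroup.subgroupOfEquivOfLe inf_le_right).toEquiv
  have hmul := Subgroup.card_mul_index Z'
  have hi0 : Z'.index ≠ 0 := Subgroup.index_ne_zero_of_finite
  have hfac : (Nat.card Z').factorization p + Z'.index.factorization p
      = (Nat.card (Subgroup.centralizer (Q : Set G))).factorization p := by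
    rw [← hmul, Nat.factorization_mul Nat.card_pos.ne' hi0]
    rfl
  have hle1 : n.factorization p ≤ Z'.index.factorization p :=
    (Nat.factorization_le_iff_dvd hnpos.ne' hi0).mpr hndvd p
  have hle2 := defect_le hM Q e he hmaxN
  obtain ⟨χ₀, hχ₀, hχ₀1, hχ₀2⟩ := Defect.exists_height_zero p e ⟨θ, hθe⟩
  have hle3 := hχ₀2 θ hθe
  rw [hdeg] at hle3 ⊢
  rw [hcardZ] at hfac
  omega

end pairs

section classAction

variable {G : Type u} [Group G] [Fintype G] {M : Ideal AlgInt}

/-- The action of `N_G(P)` on the conjugacy classes of `C_G(P)`. -/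
instance ccAct (P : Subgroup G) : MulAction (Subgroup.normalizer (P : Set G))
    (ConjClasses (Subgroup.centralizer (P : Set G))) where
  smul n K := ConjClasses.map
    (conjEquiv (Subgroup.centralizer (P : Set G)) (nc P n)).toMonoidHom K
  one_smul K := by
    obtain ⟨c, rfl⟩ := ConjClasses.mk_surjective K
    exact congrArg ConjClasses.mk (one_smul (Subgroup.normalizer (P : Set G)) c)
  mul_smul u v K := by
    obtain ⟨c, rfl⟩ := ConjClasses.mk_surjective K
    exact congrArg ConjClasses.mk (mul_smul u v c)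

theorem ccAct_mk (P : Subgroup G) (n : Subgroup.normalizer (P : Set G))
    (c : Subgroup.centralizer (P : Set G)) :
    n • (ConjClasses.mk c : ConjClasses (Subgroup.centralizer (P : Set G)))
      = ConjClasses.mk (n • c) := rfl

omit [Fintype G] in
theorem class_fn_crep {K : Type*} [Group K] (f : K → ℂ) (hf : IsClassFunction K f) (x : K) :
    f (crep (ConjClasses.mk x)) = f x := by
  obtain ⟨k, hk⟩ := isConj_iff.mp (isConj_crep_mk x)
  have h1 := hf (crep (ConjClasses.mk x)) k
  rw [hk] at h1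
  exact h1.symm

theorem centralChar_smul (P : Subgroup G) (n : Subgroup.normalizer (P : Set G))
    (θ : IrrCharacter (Subgroup.centralizer (P : Set G)))
    (c : Subgroup.centralizer (P : Set G)) :
    centralChar (θ : Subgroup.centralizer (P : Set G) → ℂ) (n • c)
      = centralChar (cj (Subgroup.centralizer (P : Set G)) (nc P n⁻¹) θ :
          Subgroup.centralizer (P : Set G) → ℂ) c := by
  have e1 : (cj (Subgroup.centralizer (P : Set G)) (nc P n⁻¹) θ :
      Subgroup.centralizer (P : Set G) → ℂ)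
      = (θ : Subgroup.centralizer (P : Set G) → ℂ)
        ∘ (conjEquiv (Subgroup.centralizer (P : Set G)) (nc P n)) := by
    funext k
    rw [cj_apply]
    show _ = (θ : Subgroup.centralizer (P : Set G) → ℂ)
      (conjEquiv (Subgroup.centralizer (P : Set G)) (nc P n) k)
    refine congrArg _ ?_
    apply Subtype.ext
    rw [conjEquiv_symm_coe, conjEquiv_coe]
    show ((n⁻¹ : Subgroup.normalizer (P : Set G)) : G)⁻¹ * (k : G)
      * ((n⁻¹ : Subgroup.normalizer (P : Set G)) : G) = (n : G) * (k : G) * (n : G)⁻¹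
    simp
  rw [e1, centralChar_comp_mulEquiv]
  rfl

theorem exists_fixed_class {p : ℕ} [Fact p.Prime] (hM : IsPModular p M) (Q : Subgroup G)
    (e : Set (IrrCharacter (Subgroup.centralizer (Q : Set G)))) (he : IsBrauerPair p M Q e)
    (g : Subgroup.normalizer (Q : Set G)) (k : ℕ) (hk : orderOf g = p ^ k) (hst : g • e = e) :
    ∃ c : Subgroup.centralizer (Q : Set G), ¬ MemLocalIdeal M (blockCoeff e c) ∧
      g • (ConjClasses.mk c : ConjClasses (Subgroup.centralizer (Q : Set G)))
        = ConjClasses.mk c := by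
  classical
  have hmax := hM.2.1
  have hfinC : Fintype (ConjClasses (Subgroup.centralizer (Q : Set G))) := Fintype.ofFinite _
  have hfinI : Fintype (IrrCharacter (Subgroup.centralizer (Q : Set G))) := irrFintype
  by_contra hcon
  have hcon' : ∀ c : Subgroup.centralizer (Q : Set G),
      g • (ConjClasses.mk c : ConjClasses (Subgroup.centralizer (Q : Set G)))
        = ConjClasses.mk c → MemLocalIdeal M (blockCoeff e c) := by
    intro c hc
    by_contra h
    exact hcon ⟨c, h, hc⟩
  obtain ⟨θ, hθ⟩ := Defect.block_nonempty hmax e he.2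
  have hsum : ∑ K : ConjClasses (Subgroup.centralizer (Q : Set G)),
      blockCoeff e (crep K) * centralChar (θ : Subgroup.centralizer (Q : Set G) → ℂ) (crep K)
      = 1 := by
    rw [← omega_eq_sum_classes (irr_isClassFunction θ) (isClassFunction_blockCoeff e),
      omega_blockCoeff, if_pos hθ]
  apply not_memLocalIdeal_one hmax
  rw [← hsum]
  have hstab : Subgroup.zpowers g ≤ MulAction.stabilizer (Subgroup.normalizer (Q : Set G)) e :=
    Subgroup.zpowers_le.mpr (MulAction.mem_stabilizer_iff.mpr hst)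
  apply pgroup_sum_mem_mod hM (P := Subgroup.zpowers g)
    (IsPGroup.of_card (n := k) (by rw [Nat.card_zpowers, hk]))
  · intro u K
    obtain ⟨c, rfl⟩ := ConjClasses.mk_surjective K
    have hu : (u : Subgroup.normalizer (Q : Set G)) • e = e :=
      MulAction.mem_stabilizer_iff.mp (hstab u.2)
    have hu' : (u : Subgroup.normalizer (Q : Set G))⁻¹ • e = e := by
      rw [inv_smul_eq_iff, hu]
    have e1 : u • (ConjClasses.mk c : ConjClasses (Subgroup.centralizer (Q : Set G)))
        = ConjClasses.mk ((u : Subgroup.normalizer (Q : Set G)) • c) := rfl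
    rw [e1, class_fn_crep _ (isClassFunction_blockCoeff e),
      class_fn_crep _ (isClassFunction_blockCoeff e)]
    have hcc : IsClassFunction (Subgroup.centralizer (Q : Set G))
        (centralChar (θ : Subgroup.centralizer (Q : Set G) → ℂ)) := fun x y =>
      DefectGroup.centralChar_conj _ (irr_isClassFunction θ) x y
    rw [class_fn_crep _ hcc, class_fn_crep _ hcc]
    have e2 := blockCoeff_smul Q (u : Subgroup.normalizer (Q : Set G)) e c
    rw [hu] at e2
    rw [e2, centralChar_smul, ← mul_sub]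
    apply MemLocalIdeal.mul_left hmax (osima' hmax e he.2 c)
    have hψ : cj (Subgroup.centralizer (Q : Set G))
        (nc Q (u : Subgroup.normalizer (Q : Set G))⁻¹) θ ∈ e := by
      have h1 : cj (Subgroup.centralizer (Q : Set G))
          (nc Q (u : Subgroup.normalizer (Q : Set G))⁻¹) θ
          ∈ (u : Subgroup.normalizer (Q : Set G))⁻¹ • e := ⟨θ, hθ, rfl⟩
      rw [hu'] at h1
      exact h1
    exact Defect.sameBlock_of_mem hmax e he.2 hψ hθ c
  · intro K
    exact MemLocalRing.mul hmax (osima' hmax e he.2 _) (memLocalRing_centralChar hmax θ.2 _)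
  · intro K hK
    have h1 := MulAction.mem_fixedPoints.mp hK ⟨g, Subgroup.mem_zpowers g⟩
    have h2 : g • K = K := h1
    rw [← mk_crep K] at h2
    exact MemLocalIdeal.mul_right hmax (hcon' _ h2) (memLocalRing_centralChar hmax θ.2 _)

end classAction

section pelement

variable {G : Type u} [Group G] [Fintype G] {M : Ideal AlgInt}

omit [Fintype G] in
theorem pow_mul_mem (Q : Subgroup G) (k₁ g : G) (hk₁ : k₁ ∈ Subgroup.centralizer (Q : Set G))
    (hg : g ∈ Subgroup.normalizer (Q : Set G)) (n : ℕ) :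
    ∃ c ∈ Subgroup.centralizer (Q : Set G), (k₁ * g) ^ n = c * g ^ n := by
  induction n with
  | zero => exact ⟨1, Subgroup.one_mem _, by simp⟩
  | succ n ih =>
    obtain ⟨c, hc, hcn⟩ := ih
    have hgn : g ^ n ∈ Subgroup.normalizer
        ((Subgroup.centralizer (Q : Set G) : Subgroup G) : Set G) :=
      mem_normalizer_centralizer (Subgroup.pow_mem _ hg n)
    have h1 : g ^ n * k₁ * (g ^ n)⁻¹ ∈ Subgroup.centralizer (Q : Set G) :=
      (Subgroup.mem_normalizer_iff.mp hgn k₁).mp hk₁
    refine ⟨c * (g ^ n * k₁ * (g ^ n)⁻¹), Subgroup.mul_mem _ hc h1, ?_⟩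
    rw [pow_succ, hcn, pow_succ]
    group

theorem mem_sup_of_pelement {p : ℕ} [Fact p.Prime] (hM : IsPModular p M) (Q : Subgroup G)
    (e : Set (IrrCharacter (Subgroup.centralizer (Q : Set G)))) (he : IsBrauerPair p M Q e)
    (hmaxN : ∀ (R₁ : Subgroup G) (g : Set (IrrCharacter (Subgroup.centralizer (R₁ : Set G)))),
      IsNormalSubpair p M Q e R₁ g → R₁ = Q)
    (g : G) (hgN : g ∈ Subgroup.normalizer (Q : Set G))
    (hst : StabilizesBlock (Subgroup.centralizer (Q : Set G)) e g)
    (k : ℕ) (hk : orderOf g = p ^ k) : g ∈ Q ⊔ Subgroup.centralizer (Q : Set G) := by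
  classical
  have hp : p.Prime := Fact.out
  have hk' : orderOf (⟨g, hgN⟩ : Subgroup.normalizer (Q : Set G)) = p ^ k := by
    rw [← Subgroup.orderOf_coe]
    exact hk
  obtain ⟨c, hc, hfix⟩ := exists_fixed_class hM Q e he ⟨g, hgN⟩ k hk'
    (smul_eq_of_stabilizes Q ⟨g, hgN⟩ e hst)
  rw [ccAct_mk, ConjClasses.mk_eq_mk_iff_isConj, isConj_iff] at hfix
  obtain ⟨k₁, hk₁⟩ := hfix
  have hk₁' : (k₁ : G) * (g * (c : G) * g⁻¹) * (k₁ : G)⁻¹ = c :=
    congrArg (Subtype.val : Subgroup.centralizer (Q : Set G) → G) hk₁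
  have hgT : g ∈ stabSub Q e := (mem_stabSub Q e g).mpr ⟨hgN, hst⟩
  have hk₁T : (k₁ : G) ∈ stabSub Q e := sup_le_stabSub Q e (Subgroup.mem_sup_right k₁.2)
  have hxT : (k₁ : G) * g ∈ stabSub Q e := Subgroup.mul_mem _ hk₁T hgT
  have hxc : (k₁ : G) * g * (c : G) = (c : G) * ((k₁ : G) * g) := by
    calc (k₁ : G) * g * (c : G)
        = ((k₁ : G) * (g * (c : G) * g⁻¹) * (k₁ : G)⁻¹) * ((k₁ : G) * g) := by group
      _ = (c : G) * ((k₁ : G) * g) := by rw [hk₁']
  have ho0 : orderOf ((k₁ : G) * g) ≠ 0 := (orderOf_pos _).ne'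
  have hcomm : Commute ((k₁ : G) * g) (c : G) := hxc
  -- the `p`-part of `x = k₁ g` lies in `Q`
  have hx₁ : ((k₁ : G) * g) ^ (orderOf ((k₁ : G) * g)
      / p ^ (orderOf ((k₁ : G) * g)).factorization p) ∈ Q := by
    have hpow : (((k₁ : G) * g) ^ (orderOf ((k₁ : G) * g)
        / p ^ (orderOf ((k₁ : G) * g)).factorization p))
        ^ (p ^ (orderOf ((k₁ : G) * g)).factorization p) = 1 := by
      rw [← pow_mul, mul_comm, Nat.ordProj_mul_ordCompl_eq_self, pow_orderOf_eq_one]
    obtain ⟨j, _, hj⟩ := (Nat.dvd_prime_pow hp).mp (orderOf_dvd_of_pow_eq_one hpow)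
    exact mem_of_centralizing hM Q e he hmaxN c hc _ (Subgroup.pow_mem _ hxT _) j hj
      (hcomm.pow_left _)
  -- a power of `x` prime to ... lies in the centralizer
  have hx₂ : ((k₁ : G) * g) ^ (p ^ k) ∈ Subgroup.centralizer (Q : Set G) := by
    obtain ⟨c', hc', hcn⟩ := pow_mul_mem Q (k₁ : G) g k₁.2 hgN (p ^ k)
    rw [hcn, ← hk, pow_orderOf_eq_one, mul_one]
    exact hc'
  have hcop : Nat.Coprime (p ^ k) (orderOf ((k₁ : G) * g)
      / p ^ (orderOf ((k₁ : G) * g)).factorization p) :=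
    (Nat.coprime_ordCompl hp ho0).pow_left k
  obtain ⟨a, b, hab⟩ := Nat.isCoprime_iff_coprime.mpr hcop
  have hx : (k₁ : G) * g ∈ Q ⊔ Subgroup.centralizer (Q : Set G) := by
    have e1 : (k₁ : G) * g = (((k₁ : G) * g) ^ (p ^ k)) ^ a
        * (((k₁ : G) * g) ^ (orderOf ((k₁ : G) * g)
          / p ^ (orderOf ((k₁ : G) * g)).factorization p)) ^ b := by
      rw [← zpow_natCast, ← zpow_natCast, ← zpow_mul, ← zpow_mul, ← zpow_add,
        mul_comm _ a, mul_comm _ b, hab, zpow_one]
    rw [e1]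
    exact Subgroup.mul_mem _ (Subgroup.mem_sup_right (Subgroup.zpow_mem _ hx₂ a))
      (Subgroup.mem_sup_left (Subgroup.zpow_mem _ hx₁ b))
  have e2 : g = (k₁ : G)⁻¹ * ((k₁ : G) * g) := by group
  rw [e2]
  exact Subgroup.mul_mem _ (Subgroup.inv_mem _ (Subgroup.mem_sup_right k₁.2)) hx

end pelement

section quot

variable {K : Type u} [Group K] [Fintype K] {M : Ideal AlgInt}

theorem blockOf_eq_singleton {p : ℕ} (hM : IsPModular p M) (ψ : IrrCharacter K)
    (hdeg : (Nat.card K).factorization p ≤ (charDegree (ψ : K → ℂ)).factorization p) :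
    blockOf M (ψ : K → ℂ) = {ψ} := by
  classical
  have hmax := hM.2.1
  apply Set.Subset.antisymm
  · apply blockOf_subset_of_sVal hmax {ψ} _ ψ rfl
    intro g
    have e1 : blockCoeff ({ψ} : Set (IrrCharacter K)) g
        = ((charDegree (ψ : K → ℂ) : ℂ) / (Nat.card K : ℂ)) * conj ((ψ : K → ℂ) g) := by
      unfold blockCoeff
      rw [finsum_mem_singleton, CharBasic.char_one_nat (CharBasic.isCharacter_of_irr ψ.2)]
      ring
    rw [e1]
    exact MemLocalRing.mul hmax (Defect.ratio_memLocalRing hM Nat.card_pos.ne' hdeg)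
      (memLocalRing_of_isIntegral hmax (isIntegral_conj_irr ψ g))
  · intro χ hχ
    rw [Set.mem_singleton_iff] at hχ
    rw [hχ]
    exact mem_blockOf_self hmax ψ

theorem defect_le_of_quot {p : ℕ} [Fact p.Prime] (hM : IsPModular p M) (Z : Subgroup K)
    [Z.Normal] (hZ : IsPGroup p Z) (hZc : ∀ z ∈ Z, ∀ x : K, z * x = x * z)
    (B : Set (IrrCharacter K)) (hB : IsPBlock M B) (θ : IrrCharacter K) (hθ : θ ∈ B)
    (hker : ∀ z ∈ Z, (θ : K → ℂ) z = (θ : K → ℂ) 1)
    (hdeg : (charDegree (θ : K → ℂ)).factorization p + (Nat.card Z).factorization p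
      = (Nat.card K).factorization p) :
    blockDefect p B ≤ (Nat.card Z).factorization p := by
  classical
  have hmax := hM.2.1
  have hfinQ : Fintype (K ⧸ Z) := Fintype.ofFinite _
  obtain ⟨ψ, hψ, hψθ⟩ := CharQuot.irr_quotient Z θ.2 hker
  have hdegψ : charDegree ψ = charDegree (θ : K → ℂ) := by
    unfold charDegree
    rw [← hψθ 1]
    rfl
  have hcardQ : (Nat.card (K ⧸ Z)).factorization p + (Nat.card Z).factorization p
      = (Nat.card K).factorization p := by
    rw [Subgroup.card_eq_card_quotient_mul_card_subgroup Z,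
      Nat.factorization_mul Nat.card_pos.ne' Nat.card_pos.ne']
    rfl
  have hsing := blockOf_eq_singleton hM (⟨ψ, hψ⟩ : IrrCharacter (K ⧸ Z))
    (by show (Nat.card (K ⧸ Z)).factorization p ≤ (charDegree ψ).factorization p
        rw [hdegψ]; omega)
  have hBψ : IsPBlock M (blockOf M ψ) := ⟨⟨ψ, hψ⟩, rfl⟩
  obtain ⟨gb, hgb⟩ := exists_defectClass hmax (blockOf M ψ) hBψ
  have h1 := Defect.defect_le_of_blockCoeff hM (blockOf M ψ) hBψ gb hgb.2.1
  have hdef0 : blockDefect p (blockOf M ψ) = 0 := by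
    have e1 : blockOf M ψ = {(⟨ψ, hψ⟩ : IrrCharacter (K ⧸ Z))} := hsing
    rw [e1]
    unfold blockDefect
    rw [Set.image_singleton, csInf_singleton]
    show (Nat.card (K ⧸ Z)).factorization p - (charDegree ψ).factorization p = 0
    rw [hdegψ]
    omega
  obtain ⟨x, hxgb, hxreg⟩ := Cfsg.Agent.S4964.exists_regular_lift p Z gb h1.1
  have hidx := Cfsg.Agent.S4964.index_centralizer_quot p Z hZ x hxreg (fun n hn => hZc n hn x)
  have hcc : centralChar (θ : K → ℂ) x = centralChar ψ gb := by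
    unfold centralChar
    rw [← hxgb, hidx, hψθ x, ← hψθ 1]
    rfl
  have hmem : (⟨ψ, hψ⟩ : IrrCharacter (K ⧸ Z)) ∈ blockOf M ψ :=
    mem_blockOf_self hmax (⟨ψ, hψ⟩ : IrrCharacter (K ⧸ Z))
  have h2 := Defect.defect_ge_of_centralChar hM B hB θ hθ x
    (by rw [hcc]; exact hgb.2.2 _ hmem)
  refine h2.trans ?_
  have hA := Subgroup.card_mul_index (Subgroup.centralizer ({x} : Set K))
  have hB' := Subgroup.card_mul_index (Subgroup.centralizer ({gb} : Set (K ⧸ Z)))
  rw [← hxgb, hidx] at hB'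
  have hi0 : (Subgroup.centralizer ({x} : Set K)).index ≠ 0 := Subgroup.index_ne_zero_of_finite
  have hA' : (Nat.card (Subgroup.centralizer ({x} : Set K))).factorization p
      + (Subgroup.centralizer ({x} : Set K)).index.factorization p
      = (Nat.card K).factorization p := by
    rw [← hA, Nat.factorization_mul Nat.card_pos.ne' hi0]
    rfl
  have hB'' : (Nat.card (Subgroup.centralizer ({(x : K ⧸ Z)} : Set (K ⧸ Z)))).factorization p
      + (Subgroup.centralizer ({x} : Set K)).index.factorization p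
      = (Nat.card (K ⧸ Z)).factorization p := by
    rw [← hB', Nat.factorization_mul Nat.card_pos.ne' hi0]
    rfl
  have h3 := h1.2
  rw [hdef0, ← hxgb] at h3
  omega

end quot

section converse

variable {G : Type u} [Group G] [Fintype G] {M : Ideal AlgInt}

theorem no_super_of_theta {p : ℕ} [Fact p.Prime] (hM : IsPModular p M) (Q : Subgroup G)
    (e : Set (IrrCharacter (Subgroup.centralizer (Q : Set G)))) (he : IsBrauerPair p M Q e)
    (θ : IrrCharacter (Subgroup.centralizer (Q : Set G))) (hθ : θ ∈ e)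
    (h1 : ∀ z : Subgroup.centralizer (Q : Set G), (z : G) ∈ Q →
      (θ : Subgroup.centralizer (Q : Set G) → ℂ) z
        = (θ : Subgroup.centralizer (Q : Set G) → ℂ) 1)
    (h2 : (charDegree (θ : Subgroup.centralizer (Q : Set G) → ℂ)).factorization p
      + (Nat.card (Q ⊓ Subgroup.centralizer (Q : Set G) : Subgroup G)).factorization p
      = (Nat.card (Subgroup.centralizer (Q : Set G))).factorization p)
    (h3 : ∀ g : G, g ∈ Subgroup.normalizer (Q : Set G) →
      StabilizesBlock (Subgroup.centralizer (Q : Set G)) e g → (∃ k : ℕ, orderOf g = p ^ k) →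
      g ∈ Q ⊔ Subgroup.centralizer (Q : Set G))
    (R₁ : Subgroup G) (g₁ : Set (IrrCharacter (Subgroup.centralizer (R₁ : Set G))))
    (hn : IsNormalSubpair p M Q e R₁ g₁) : R₁ = Q := by
  classical
  have hmax := hM.2.1
  have hp : p.Prime := Fact.out
  obtain ⟨y, hyR, hy⟩ := exists_not_mem_of_normal hM Q R₁ e g₁ hn
  obtain ⟨_, hR₁g₁, hQR, hRN, hst, _⟩ := hn
  have hR₁ : IsPGroup p R₁ := hR₁g₁.1
  have hyC : y ∈ Subgroup.centralizer (Q : Set G) := by
    by_contra hnot
    rw [ext_of_not_mem _ _ hnot] at hy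
    exact hy (memLocalIdeal_zero hmax)
  rw [ext_of_mem _ _ hyC] at hy
  obtain ⟨Z', hZ'def⟩ : ∃ Z' : Subgroup (Subgroup.centralizer (Q : Set G)),
      Z' = (Q ⊓ Subgroup.centralizer (Q : Set G)).subgroupOf (Subgroup.centralizer (Q : Set G)) :=
    ⟨_, rfl⟩
  have hmemZ' : ∀ z : Subgroup.centralizer (Q : Set G), z ∈ Z' ↔ (z : G) ∈ Q := by
    intro z
    rw [hZ'def, Subgroup.mem_subgroupOf]
    exact ⟨fun h => h.1, fun h => ⟨h, z.2⟩⟩
  have hZc : ∀ z ∈ Z', ∀ x : Subgroup.centralizer (Q : Set G), z * x = x * z := by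
    intro z hz x
    apply Subtype.ext
    exact Subgroup.mem_centralizer_iff.mp x.2 (z : G) ((hmemZ' z).mp hz)
  haveI hZn : Z'.Normal := by
    constructor
    intro z hz c
    have e1 : c * z * c⁻¹ = z := by
      rw [← hZc z hz c]
      group
    rw [e1]
    exact hz
  have hZ'p : IsPGroup p Z' := by
    rw [hZ'def]
    exact (he.1.to_le inf_le_left).comap_subtype
  have hcardZ : Nat.card Z' = Nat.card (Q ⊓ Subgroup.centralizer (Q : Set G) : Subgroup G) := by
    rw [hZ'def]
    exact Nat.card_congr (Subgroup.subgroupOfEquivOfLe inf_le_right).toEquiv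
  have hdef := defect_le_of_quot hM Z' hZ'p hZc e he.2 θ hθ
    (fun z hz => h1 z ((hmemZ' z).mp hz)) (by rw [hcardZ]; exact h2)
  rw [hcardZ] at hdef
  have hle := (Defect.defect_le_of_blockCoeff hM e he.2 ⟨y, hyC⟩ hy).2
  -- the centralizer part of `R₁`
  have hS₁le : (R₁ ⊓ Subgroup.centralizer (Q : Set G)).subgroupOf
      (Subgroup.centralizer (Q : Set G))
      ≤ Subgroup.centralizer ({(⟨y, hyC⟩ : Subgroup.centralizer (Q : Set G))} :
        Set (Subgroup.centralizer (Q : Set G))) := by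
    intro s hs
    rw [Subgroup.mem_subgroupOf] at hs
    rw [Subgroup.mem_centralizer_iff]
    intro h hh
    rw [Set.mem_singleton_iff] at hh
    rw [hh]
    apply Subtype.ext
    exact (Subgroup.mem_centralizer_iff.mp hyR (s : G) hs.1).symm
  have hS₁card : Nat.card ((R₁ ⊓ Subgroup.centralizer (Q : Set G)).subgroupOf
      (Subgroup.centralizer (Q : Set G)))
      = Nat.card (R₁ ⊓ Subgroup.centralizer (Q : Set G) : Subgroup G) :=
    Nat.card_congr (Subgroup.subgroupOfEquivOfLe inf_le_right).toEquiv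
  obtain ⟨j, hj⟩ := (hR₁.to_le (inf_le_left :
    R₁ ⊓ Subgroup.centralizer (Q : Set G) ≤ R₁)).exists_card_eq
  obtain ⟨i, hi⟩ := (he.1.to_le (inf_le_left :
    Q ⊓ Subgroup.centralizer (Q : Set G) ≤ Q)).exists_card_eq
  have hdvd := Subgroup.card_dvd_of_le hS₁le
  rw [hS₁card, hj] at hdvd
  have hj' : j ≤ (Nat.card (Subgroup.centralizer
      ({(⟨y, hyC⟩ : Subgroup.centralizer (Q : Set G))} :
        Set (Subgroup.centralizer (Q : Set G))))).factorization p :=
    (hp.pow_dvd_iff_le_factorization Nat.card_pos.ne').mp hdvd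
  have hi' : (Nat.card (Q ⊓ Subgroup.centralizer (Q : Set G) : Subgroup G)).factorization p
      = i := by
    rw [hi, hp.factorization_pow]
    simp
  have hji : j ≤ i := by omega
  have hEq : Q ⊓ Subgroup.centralizer (Q : Set G) = R₁ ⊓ Subgroup.centralizer (Q : Set G) := by
    apply Subgroup.eq_of_le_of_card_ge (inf_le_inf_right _ hQR)
    rw [hi, hj]
    exact Nat.pow_le_pow_right hp.pos hji
  apply le_antisymm _ hQR
  intro x hx
  obtain ⟨kk, hkk⟩ := IsPGroup.iff_orderOf.mp hR₁ ⟨x, hx⟩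
  rw [← Subgroup.orderOf_coe] at hkk
  have hxQC := h3 x (hRN hx) (hst x hx) ⟨kk, hkk⟩
  obtain ⟨q, hq, c, hc, rfl⟩ := exists_of_mem_sup Q _ (comm_centralizer Q) hxQC
  have hcR : c ∈ R₁ := by
    have e1 : c = q⁻¹ * (q * c) := by group
    rw [e1]
    exact R₁.mul_mem (R₁.inv_mem (hQR hq)) hx
  have hcQ : c ∈ Q ⊓ Subgroup.centralizer (Q : Set G) := by
    rw [hEq]
    exact ⟨hcR, hc⟩
  exact Q.mul_mem hq hcQ.1

theorem eq_of_chain {p : ℕ} (hM : IsPModular p M) (Q : Subgroup G)
    (e : Set (IrrCharacter (Subgroup.centralizer (Q : Set G))))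
    (hmaxN : ∀ (R₁ : Subgroup G) (g : Set (IrrCharacter (Subgroup.centralizer (R₁ : Set G)))),
      IsNormalSubpair p M Q e R₁ g → R₁ = Q)
    (b : BrauerPairIdx G)
    (hb : Relation.ReflTransGen (NormalSubpairRel p M) (⟨Q, e⟩ : BrauerPairIdx G) b) :
    b = ⟨Q, e⟩ := by
  induction hb with
  | refl => rfl
  | @tail b' c _ hstep ih =>
    subst ih
    obtain ⟨R, g⟩ := c
    have hR : R = Q := hmaxN R g hstep
    subst hR
    have h1 := trivial_step hM R e g hstep
    rw [h1]

end converse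

end Cfsg.Agent.Lib.Helper25.MaxPair
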