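import Mathlib
import Cfsg.Agent.Lib.Helper25.Brauer2

/-!
Brauer induction, part 3: quasi-elementary groups and the fixed point count.
-/

set_option autoImplicit false

namespace Cfsg.Agent.Lib.Helper25.Brauer

open Cfsg Cfsg.Agent.Lib.Helper1 Cfsg.Agent.Lib.Helper24
open scoped ComplexConjugate

universe u

/-- `X` is `p`-quasi-elementary: some element `u` of order prime to `p` generates a normal
subgroup modulo which every element has `p`-power order. -/
def IsQE (p : ℕ) (X : Type u) [Group X] : Prop :=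
  ∃ u : X, (orderOf u).Coprime p ∧ (∀ x : X, x * u * x⁻¹ ∈ Subgroup.zpowers u) ∧
    ∀ x : X, ∃ k : ℕ, x ^ (p ^ k) ∈ Subgroup.zpowers u

section qe

variable {X : Type u} [Group X] {p : ℕ}

theorem conj_mem_zpowers {u : X} (h : ∀ x : X, x * u * x⁻¹ ∈ Subgroup.zpowers u) (x : X)
    {w : X} (hw : w ∈ Subgroup.zpowers u) : x * w * x⁻¹ ∈ Subgroup.zpowers u := by
  obtain ⟨j, rfl⟩ := Subgroup.mem_zpowers_iff.mp hw
  rw [← conj_zpow]
  exact Subgroup.zpow_mem _ (h x) j

theorem IsQE.of_equiv {Y : Type u} [Group Y] (h : IsQE p X) (e : X ≃* Y) : IsQE p Y := by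
  obtain ⟨u, hu, hc, hpow⟩ := h
  refine ⟨e u, ?_, ?_, ?_⟩
  · rw [MulEquiv.orderOf_eq]; exact hu
  · intro y
    obtain ⟨j, hj⟩ := Subgroup.mem_zpowers_iff.mp (hc (e.symm y))
    rw [Subgroup.mem_zpowers_iff]
    refine ⟨j, ?_⟩
    rw [← map_zpow, hj]
    simp
  · intro y
    obtain ⟨k, hk⟩ := hpow (e.symm y)
    obtain ⟨j, hj⟩ := Subgroup.mem_zpowers_iff.mp hk
    refine ⟨k, Subgroup.mem_zpowers_iff.mpr ⟨j, ?_⟩⟩
    rw [← map_zpow, hj]
    simp

theorem IsQE.subgroup (h : IsQE p X) (K : Subgroup X) : IsQE p K := by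
  obtain ⟨u, hu, hc, hpow⟩ := h
  have hcyc : IsCyclic ↥(K ⊓ Subgroup.zpowers u) := Subgroup.isCyclic_of_le inf_le_right
  obtain ⟨d, hd⟩ := (Subgroup.isCyclic_iff_exists_zpowers_eq_top _).mp hcyc
  have hdmem : d ∈ K ⊓ Subgroup.zpowers u := by rw [← hd]; exact Subgroup.mem_zpowers d
  have hmem : ∀ y : K, (y : X) ∈ Subgroup.zpowers u → y ∈ Subgroup.zpowers (⟨d, hdmem.1⟩ : K) := by
    intro y hy
    have h1 : (y : X) ∈ Subgroup.zpowers d := by rw [hd]; exact ⟨y.2, hy⟩
    obtain ⟨j, hj⟩ := Subgroup.mem_zpowers_iff.mp h1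
    exact Subgroup.mem_zpowers_iff.mpr ⟨j, Subtype.ext (by rw [Subgroup.coe_zpow]; exact hj)⟩
  refine ⟨⟨d, hdmem.1⟩, ?_, ?_, ?_⟩
  · rw [Subgroup.orderOf_mk]
    exact Nat.Coprime.coprime_dvd_left (orderOf_dvd_of_mem_zpowers hdmem.2) hu
  · intro x
    apply hmem
    exact conj_mem_zpowers hc (x : X) hdmem.2
  · intro x
    obtain ⟨k, hk⟩ := hpow (x : X)
    exact ⟨k, hmem _ (by rw [Subgroup.coe_pow]; exact hk)⟩

/-- The structure of a quasi-elementary group. -/
theorem IsQE.structure (h : IsQE p X) :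
    ∃ u : X, ∃ _ : (Subgroup.zpowers u).Normal, (orderOf u).Coprime p ∧
      IsPGroup p (X ⧸ Subgroup.zpowers u) := by
  obtain ⟨u, hu, hc, hpow⟩ := h
  have hn : (Subgroup.zpowers u).Normal := ⟨fun w hw x => conj_mem_zpowers hc x hw⟩
  refine ⟨u, hn, hu, fun q => ?_⟩
  induction q using QuotientGroup.induction_on with
  | H x =>
    obtain ⟨k, hk⟩ := hpow x
    exact ⟨k, by rw [← QuotientGroup.mk_pow]; exact (QuotientGroup.eq_one_iff _).mpr hk⟩

end qe

section local_count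

variable {N : Type u} [Group N] [Fintype N]

theorem qe_local (p : ℕ) [Fact p.Prime] (u v : N) (hn : (Subgroup.zpowers u).Normal)
    (hu : (orderOf u).Coprime p) (a : ℕ) (hv : v ^ (p ^ a) = 1) :
    ∃ H : Subgroup N, Subgroup.zpowers u ≤ H ∧ IsQE p H ∧
      (∀ w ∈ H, (orderOf w).Coprime p → w ∈ Subgroup.zpowers u) ∧
      ∃ n : ℕ, ¬ p ∣ n ∧ Nat.card {x : N // x⁻¹ * v * x ∈ H} = Nat.card H * n := by
  classical
  have hp : p.Prime := Fact.out
  have hQ : IsPGroup p (Subgroup.zpowers v) := by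
    intro q
    refine ⟨a, ?_⟩
    obtain ⟨j, hj⟩ := Subgroup.mem_zpowers_iff.mp q.2
    apply Subtype.ext
    rw [Subgroup.coe_pow, ← hj, Subgroup.coe_one, ← zpow_natCast, ← zpow_mul, mul_comm,
      zpow_mul, zpow_natCast, hv, one_zpow]
  obtain ⟨P, hP⟩ := hQ.exists_le_sylow
  obtain ⟨H, hHdef⟩ : ∃ H : Subgroup N, H = (P : Subgroup N) ⊔ Subgroup.zpowers u := ⟨_, rfl⟩
  have hBH : Subgroup.zpowers u ≤ H := by rw [hHdef]; exact le_sup_right
  have hPH : (P : Subgroup N) ≤ H := by rw [hHdef]; exact le_sup_left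
  have hpow : ∀ w ∈ H, ∃ k : ℕ, w ^ (p ^ k) ∈ Subgroup.zpowers u := by
    intro w hw
    rw [hHdef, ← SetLike.mem_coe, Subgroup.mul_normal] at hw
    obtain ⟨y, hy, b, hb, rfl⟩ := hw
    obtain ⟨k, hk⟩ := P.isPGroup' ⟨y, hy⟩
    refine ⟨k, ?_⟩
    have hk' : y ^ (p ^ k) = 1 := by
      have := congrArg Subtype.val hk
      simpa using this
    rw [← QuotientGroup.eq_one_iff, QuotientGroup.mk_pow, QuotientGroup.mk_mul,
      (QuotientGroup.eq_one_iff b).mpr hb, mul_one, ← QuotientGroup.mk_pow, hk']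
    rfl
  have hcop : ∀ w ∈ H, (orderOf w).Coprime p → w ∈ Subgroup.zpowers u := by
    intro w hw hc
    obtain ⟨k, hk⟩ := hpow w hw
    obtain ⟨t, ht⟩ := exists_pow_eq_self_of_coprime (x := w) (n := p ^ k)
      (Nat.Coprime.pow_left k hc.symm)
    rw [← ht]
    exact Subgroup.pow_mem _ hk t
  refine ⟨H, hBH, ?_, hcop, ?_⟩
  · refine ⟨⟨u, hBH (Subgroup.mem_zpowers u)⟩, ?_, ?_, ?_⟩
    · rw [Subgroup.orderOf_mk]; exact hu
    · intro x
      have h1 : (x : N) * u * (x : N)⁻¹ ∈ Subgroup.zpowers u :=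
        hn.conj_mem u (Subgroup.mem_zpowers u) x
      obtain ⟨j, hj⟩ := Subgroup.mem_zpowers_iff.mp h1
      rw [Subgroup.mem_zpowers_iff]
      refine ⟨j, Subtype.ext ?_⟩
      simp only [Subgroup.coe_zpow, Subgroup.coe_mul, Subgroup.coe_inv]
      exact hj
    · intro x
      obtain ⟨k, hk⟩ := hpow x x.2
      obtain ⟨j, hj⟩ := Subgroup.mem_zpowers_iff.mp hk
      refine ⟨k, Subgroup.mem_zpowers_iff.mpr ⟨j, Subtype.ext ?_⟩⟩
      simp only [Subgroup.coe_zpow, Subgroup.coe_pow]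
      exact hj
  · have hidx : ¬ p ∣ H.index := fun h =>
      P.not_dvd_index (dvd_trans h (Subgroup.index_dvd_of_le hPH))
    have hmod := hQ.card_modEq_card_fixedPoints (N ⧸ H)
    refine ⟨Nat.card (MulAction.fixedPoints (Subgroup.zpowers v) (N ⧸ H)), ?_, ?_⟩
    · intro hdvd
      apply hidx
      rw [Subgroup.index_eq_card]
      exact (Nat.modEq_zero_iff_dvd.mp (hmod.trans (Nat.modEq_zero_iff_dvd.mpr hdvd)))
    · have hfix : ∀ x : N, (x : N ⧸ H) ∈ MulAction.fixedPoints (Subgroup.zpowers v) (N ⧸ H)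
          ↔ x⁻¹ * v * x ∈ H := by
        intro x
        rw [MulAction.mem_fixedPoints]
        constructor
        · intro h
          have h1 := h ⟨v, Subgroup.mem_zpowers v⟩
          have h2 : ((v * x : N) : N ⧸ H) = (x : N ⧸ H) := h1
          rw [QuotientGroup.eq] at h2
          have h3 : x⁻¹ * v * x = ((v * x)⁻¹ * x)⁻¹ := by group
          rw [h3]
          exact H.inv_mem h2
        · intro h q
          obtain ⟨j, hj⟩ := Subgroup.mem_zpowers_iff.mp q.2
          show (((q : N) * x : N) : N ⧸ H) = (x : N ⧸ H)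
          rw [QuotientGroup.eq, ← hj]
          have h4 : (x⁻¹ * v * x) ^ (-j) = x⁻¹ * v ^ (-j) * x := by
            have := conj_zpow (a := x⁻¹) (b := v) (i := -j)
            simpa using this
          have h3 : (v ^ j * x)⁻¹ * x = (x⁻¹ * v * x) ^ (-j) := by
            rw [h4, zpow_neg]
            group
          rw [h3]
          exact H.zpow_mem h _
      have e1 : {x : N // x⁻¹ * v * x ∈ H}
          ≃ ↥H × (MulAction.fixedPoints (Subgroup.zpowers v) (N ⧸ H)) :=
        (Equiv.subtypeEquivRight (fun x => (hfix x).symm)).trans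
          (QuotientGroup.preimageMkEquivSubgroupProdSet H
            (MulAction.fixedPoints (Subgroup.zpowers v) (N ⧸ H)))
      rw [Nat.card_congr e1, Nat.card_prod]

end local_count

section global_count

variable {G : Type u} [Group G] [Fintype G]

/-- For every element `g` and prime `p` there is a `p`-quasi-elementary subgroup whose
permutation character does not vanish modulo `p` at `g`. -/
theorem exists_qe_fixed (p : ℕ) [Fact p.Prime] (g : G) :
    ∃ (H : Subgroup G) (n : ℕ), IsQE p H ∧ ¬ p ∣ n ∧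
      indFun H (fun _ => (1 : ℂ)) g = (n : ℂ) := by
  classical
  have hp : p.Prime := Fact.out
  obtain ⟨a, m, hm, hord⟩ := Nat.exists_eq_pow_mul_and_not_dvd (orderOf_pos g).ne' p hp.ne_one
  have hcop : Nat.Coprime (p ^ a) m :=
    Nat.Coprime.pow_left a ((Nat.Prime.coprime_iff_not_dvd hp).mpr hm)
  obtain ⟨u, hu⟩ : ∃ u : G, u = g ^ (p ^ a) := ⟨_, rfl⟩
  obtain ⟨v, hv⟩ : ∃ v : G, v = g ^ m := ⟨_, rfl⟩
  have hum : u ^ m = 1 := by rw [hu, ← pow_mul, ← hord, pow_orderOf_eq_one]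
  have hvp : v ^ (p ^ a) = 1 := by rw [hv, ← pow_mul, mul_comm, ← hord, pow_orderOf_eq_one]
  have huc : (orderOf u).Coprime p :=
    Nat.Coprime.coprime_dvd_left (orderOf_dvd_of_pow_eq_one hum)
      ((Nat.Prime.coprime_iff_not_dvd hp).mpr hm).symm
  have hg_mem : ∀ K : Subgroup G, u ∈ K → v ∈ K → g ∈ K := by
    intro K huK hvK
    have h1 : g ^ ((Nat.gcd (p ^ a) m : ℕ) : ℤ) ∈ K := by
      rw [Nat.gcd_eq_gcd_ab, zpow_add, zpow_mul, zpow_mul, zpow_natCast, zpow_natCast, ← hu, ← hv]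
      exact K.mul_mem (K.zpow_mem huK _) (K.zpow_mem hvK _)
    rw [hcop.gcd_eq_one] at h1
    simpa using h1
  obtain ⟨N, hNdef⟩ : ∃ N : Subgroup G,
      N = Subgroup.normalizer ((Subgroup.zpowers u : Subgroup G) : Set G) := ⟨_, rfl⟩
  have huN : u ∈ N := by rw [hNdef]; exact Subgroup.le_normalizer (Subgroup.mem_zpowers u)
  have hcomm : Commute u v := by rw [hu, hv]; exact Commute.pow_pow_self g _ _
  have hvN : v ∈ N := by
    rw [hNdef]
    apply Subgroup.centralizer_le_normalizer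
    rw [Subgroup.mem_centralizer_iff]
    intro h hh
    obtain ⟨j, rfl⟩ := Subgroup.mem_zpowers_iff.mp hh
    exact (hcomm.zpow_left j).eq
  have hfN : Fintype N := Fintype.ofFinite N
  obtain ⟨uN, huN'⟩ : ∃ uN : N, (uN : G) = u := ⟨⟨u, huN⟩, rfl⟩
  obtain ⟨vN, hvN'⟩ : ∃ vN : N, (vN : G) = v := ⟨⟨v, hvN⟩, rfl⟩
  have hzp : ∀ w : N, w ∈ Subgroup.zpowers uN ↔ (w : G) ∈ Subgroup.zpowers u := by
    intro w
    rw [Subgroup.mem_zpowers_iff, Subgroup.mem_zpowers_iff]
    constructor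
    · rintro ⟨j, rfl⟩
      exact ⟨j, by rw [Subgroup.coe_zpow, huN']⟩
    · rintro ⟨j, hj⟩
      exact ⟨j, Subtype.ext (by rw [Subgroup.coe_zpow, huN']; exact hj)⟩
  have hnorm : (Subgroup.zpowers uN).Normal := by
    constructor
    intro w hw x
    rw [hzp] at hw ⊢
    have hx : (x : G) ∈ Subgroup.normalizer ((Subgroup.zpowers u : Subgroup G) : Set G) := by
      rw [← hNdef]; exact x.2
    exact (Subgroup.mem_normalizer_iff.mp hx (w : G)).mp hw
  have huNc : (orderOf uN).Coprime p := by rw [← Subgroup.orderOf_coe, huN']; exact huc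
  have hvNp : vN ^ (p ^ a) = 1 := Subtype.ext (by rw [Subgroup.coe_pow, hvN']; exact hvp)
  obtain ⟨HN, hBHN, hQE, hcopN, n, hn, hcard⟩ := qe_local p uN vN hnorm huNc a hvNp
  refine ⟨HN.map N.subtype, n,
    IsQE.of_equiv hQE (HN.equivMapOfInjective N.subtype N.subtype_injective), hn, ?_⟩
  have hmemH : ∀ y : G, y ∈ HN.map N.subtype ↔ ∃ hy : y ∈ N, (⟨y, hy⟩ : N) ∈ HN := by
    intro y
    rw [Subgroup.mem_map]
    constructor
    · rintro ⟨w, hw, rfl⟩; exact ⟨w.2, hw⟩
    · rintro ⟨hy, hw⟩; exact ⟨⟨y, hy⟩, hw, rfl⟩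
  have hxN : ∀ x : G, x⁻¹ * g * x ∈ HN.map N.subtype → x ∈ N := by
    intro x hx
    have h1 : x⁻¹ * u * x ∈ HN.map N.subtype := by
      have e : x⁻¹ * u * x = (x⁻¹ * g * x) ^ (p ^ a) := by
        have := conj_pow (a := x⁻¹) (b := g) (i := p ^ a)
        rw [hu]
        simpa using this.symm
      rw [e]
      exact Subgroup.pow_mem _ hx _
    obtain ⟨hw, hwH⟩ := (hmemH _).mp h1
    have hordw : (orderOf (⟨x⁻¹ * u * x, hw⟩ : N)).Coprime p := by
      rw [Subgroup.orderOf_mk]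
      have e : orderOf (x⁻¹ * u * x) = orderOf u :=
        (SemiconjBy.orderOf_eq x⁻¹
          (show SemiconjBy x⁻¹ u (x⁻¹ * u * x) by unfold SemiconjBy; group)).symm
      rw [e]
      exact huc
    have h2 : x⁻¹ * u * x ∈ Subgroup.zpowers u := (hzp _).mp (hcopN _ hwH hordw)
    have h3 : x⁻¹ ∈ N := by
      rw [hNdef]
      apply Tr.mem_normalizer_of_conj_le
      rintro _ ⟨w, hw', rfl⟩
      obtain ⟨j, rfl⟩ := Subgroup.mem_zpowers_iff.mp hw'
      have e : (MulAut.conj x⁻¹).toMonoidHom (u ^ j) = (x⁻¹ * u * x) ^ j := by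
        have := conj_zpow (a := x⁻¹) (b := u) (i := j)
        simp only [inv_inv] at this
        rw [this]
        simp
      rw [e]
      exact Subgroup.zpow_mem _ h2 j
    have h4 := N.inv_mem h3
    simpa using h4
  have hiff : ∀ x : N, (x : G)⁻¹ * g * (x : G) ∈ HN.map N.subtype ↔ x⁻¹ * vN * x ∈ HN := by
    intro x
    have ev : ∀ hw : (x : G)⁻¹ * v * (x : G) ∈ N,
        (⟨(x : G)⁻¹ * v * (x : G), hw⟩ : N) = x⁻¹ * vN * x := by
      intro hw
      apply Subtype.ext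
      simp [hvN']
    constructor
    · intro hx
      have h1 : (x : G)⁻¹ * v * (x : G) ∈ HN.map N.subtype := by
        have e : (x : G)⁻¹ * v * (x : G) = ((x : G)⁻¹ * g * (x : G)) ^ m := by
          have := conj_pow (a := (x : G)⁻¹) (b := g) (i := m)
          rw [hv]
          simpa using this.symm
        rw [e]
        exact Subgroup.pow_mem _ hx _
      obtain ⟨hw, hwH⟩ := (hmemH _).mp h1
      rw [← ev hw]
      exact hwH
    · intro hx
      have hw : (x : G)⁻¹ * v * (x : G) ∈ N := N.mul_mem (N.mul_mem (N.inv_mem x.2) hvN) x.2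
      have h1 : (x : G)⁻¹ * v * (x : G) ∈ HN.map N.subtype :=
        (hmemH _).mpr ⟨hw, by rw [ev hw]; exact hx⟩
      have h2 : (x : G)⁻¹ * u * (x : G) ∈ HN.map N.subtype := by
        have h3 : x⁻¹ * uN * x ∈ Subgroup.zpowers uN := by
          have := hnorm.conj_mem uN (Subgroup.mem_zpowers uN) x⁻¹
          simpa using this
        have hw2 : (x : G)⁻¹ * u * (x : G) ∈ N := N.mul_mem (N.mul_mem (N.inv_mem x.2) huN) x.2
        refine (hmemH _).mpr ⟨hw2, ?_⟩
        have e2 : (⟨(x : G)⁻¹ * u * (x : G), hw2⟩ : N) = x⁻¹ * uN * x := by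
          apply Subtype.ext
          simp [huN']
        rw [e2]
        exact hBHN h3
      have h4 := hg_mem ((HN.map N.subtype).comap (MulAut.conj (x : G)⁻¹).toMonoidHom)
        (by simpa [MulAut.conj_apply] using h2) (by simpa [MulAut.conj_apply] using h1)
      simpa [MulAut.conj_apply] using h4
  rw [indFun_apply]
  have hext : ∀ x : G, extendByZero (HN.map N.subtype) (fun _ => (1 : ℂ)) (x⁻¹ * g * x)
      = if x⁻¹ * g * x ∈ HN.map N.subtype then 1 else 0 := by
    intro x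
    split_ifs with h
    · rw [extendByZero_of_mem _ _ h]
    · rw [extendByZero_of_not_mem _ _ h]
  rw [Finset.sum_congr rfl (fun x _ => hext x), Finset.sum_boole]
  have hc1 : (Finset.univ.filter (fun x : G => x⁻¹ * g * x ∈ HN.map N.subtype)).card
      = Nat.card {x : N // x⁻¹ * vN * x ∈ HN} := by
    rw [← Fintype.card_subtype, ← Nat.card_eq_fintype_card]
    apply Nat.card_congr
    exact
      { toFun := fun x => ⟨⟨x.1, hxN x.1 x.2⟩, (hiff ⟨x.1, hxN x.1 x.2⟩).mp x.2⟩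
        invFun := fun x => ⟨(x.1 : G), (hiff x.1).mpr x.2⟩
        left_inv := fun x => rfl
        right_inv := fun x => rfl }
  rw [hc1, hcard,
    Nat.card_congr (HN.equivMapOfInjective N.subtype N.subtype_injective).symm.toEquiv]
  have hne : (Nat.card HN : ℂ) ≠ 0 := by
    have := Nat.card_pos (α := HN)
    exact_mod_cast this.ne'
  push_cast
  field_simp

end global_count

end Cfsg.Agent.Lib.Helper25.Brauer
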