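import Mathlib
import Cfsg.Agent.Lib.Helper25.Brauer3

/-!
Brauer induction, part 4: elementary groups, quasi-elementary groups are spanned by monomial
characters from elementary subgroups, Solomon's theorem, Brauer's theorem.
-/

set_option autoImplicit false

namespace Cfsg.Agent.Lib.Helper25.Brauer

open Cfsg Cfsg.Agent.Lib.Helper1 Cfsg.Agent.Lib.Helper24
open scoped ComplexConjugate

universe u

section elementary

variable {E : Type u} [Group E] {p : ℕ}

theorem normal_zpowers_of_center {x : E} (hx : x ∈ Subgroup.center E) :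
    (Subgroup.zpowers x).Normal := by
  constructor
  intro n hn g
  have hnc : n ∈ Subgroup.center E := (Subgroup.zpowers_le.mpr hx) hn
  have e : g * n * g⁻¹ = n := by
    rw [Subgroup.mem_center_iff.mp hnc g]
    group
  rw [e]
  exact hn

theorem IsElementary.subgroup (hp : p.Prime) (h : IsElementary p E) (K : Subgroup E) :
    IsElementary p K := by
  obtain ⟨x, hx, hc, k, hk⟩ := h
  have hcyc : IsCyclic ↥(K ⊓ Subgroup.zpowers x) := Subgroup.isCyclic_of_le inf_le_right
  obtain ⟨d, hd⟩ := (Subgroup.isCyclic_iff_exists_zpowers_eq_top _).mp hcyc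
  have hdmem : d ∈ K ⊓ Subgroup.zpowers x := by rw [← hd]; exact Subgroup.mem_zpowers d
  refine ⟨⟨d, hdmem.1⟩, ?_, ?_, ?_⟩
  · rw [Subgroup.mem_center_iff]
    intro g
    apply Subtype.ext
    have hdc : d ∈ Subgroup.center E := (Subgroup.zpowers_le.mpr hx) hdmem.2
    exact Subgroup.mem_center_iff.mp hdc g
  · rw [Subgroup.orderOf_mk]
    exact Nat.Coprime.coprime_dvd_left (orderOf_dvd_of_mem_zpowers hdmem.2) hc
  · have hnorm : (Subgroup.zpowers x).Normal := normal_zpowers_of_center hx
    have h1 : (Subgroup.zpowers (⟨d, hdmem.1⟩ : K)) = (Subgroup.zpowers x).subgroupOf K := by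
      ext y
      rw [Subgroup.mem_subgroupOf, Subgroup.mem_zpowers_iff]
      constructor
      · rintro ⟨j, rfl⟩
        rw [Subgroup.coe_zpow]
        exact Subgroup.zpow_mem _ hdmem.2 j
      · intro hy
        have h2 : (y : E) ∈ Subgroup.zpowers d := by rw [hd]; exact ⟨y.2, hy⟩
        obtain ⟨j, hj⟩ := Subgroup.mem_zpowers_iff.mp h2
        exact ⟨j, Subtype.ext (by rw [Subgroup.coe_zpow]; exact hj)⟩
    rw [h1]
    have h3 : (Subgroup.zpowers x).relIndex K ∣ (Subgroup.zpowers x).index :=
      Subgroup.relIndex_dvd_index_of_normal _ K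
    rw [hk] at h3
    obtain ⟨j, -, hj⟩ := (Nat.dvd_prime_pow hp).mp h3
    exact ⟨j, hj⟩

theorem IsElementary.of_equiv {F : Type u} [Group F] (h : IsElementary p E) (e : E ≃* F) :
    IsElementary p F := by
  obtain ⟨x, hx, hc, k, hk⟩ := h
  refine ⟨e x, ?_, ?_, k, ?_⟩
  · rw [Subgroup.mem_center_iff] at hx ⊢
    intro g
    have h1 := hx (e.symm g)
    have h2 := congrArg e h1
    simpa using h2
  · rw [MulEquiv.orderOf_eq]; exact hc
  · have h1 := Subgroup.index_map_equiv (Subgroup.zpowers x) e
    have h2 : Subgroup.map (e : E →* F) (Subgroup.zpowers x) = Subgroup.zpowers (e x) :=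
      MonoidHom.map_zpowers (e : E →* F) x
    rw [h2] at h1
    rw [h1, hk]

theorem IsElementary.nilpotent [Finite E] [Fact p.Prime] (h : IsElementary p E) :
    Group.IsNilpotent E := by
  obtain ⟨x, hx, hc, k, hk⟩ := h
  have hnorm : (Subgroup.zpowers x).Normal := normal_zpowers_of_center hx
  have hq : IsPGroup p (E ⧸ Subgroup.zpowers x) :=
    IsPGroup.of_card (n := k) (by rw [← Subgroup.index_eq_card]; exact hk)
  have hnil : Group.IsNilpotent (E ⧸ Subgroup.zpowers x) := hq.isNilpotent
  apply Subgroup.isNilpotent_of_ker_le_center (QuotientGroup.mk' (Subgroup.zpowers x))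
  rw [QuotientGroup.ker_mk']
  exact Subgroup.zpowers_le.mpr hx

end elementary

section mon

variable {G : Type u} [Group G] [Fintype G]

/-- generators: induced linear characters of `p`-elementary subgroups -/
def monGen (p : ℕ) (G : Type u) [Group G] [Fintype G] : Set (G → ℂ) :=
  {F | ∃ (E : Subgroup G) (lam : E →* ℂˣ), IsElementary p E ∧
    F = indFun E (fun e => ((lam e : ℂˣ) : ℂ))}

/-- the additive group spanned by induced linear characters of `p`-elementary subgroups -/
def Mon (p : ℕ) (G : Type u) [Group G] [Fintype G] : AddSubgroup (G → ℂ) :=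
  AddSubgroup.closure (monGen p G)

variable {p : ℕ}

/-- Induction maps `Mon` of a subgroup into `Mon` of the group. -/
theorem ind_mem_Mon (K : Subgroup G) [Fintype K] {f : K → ℂ} (hf : f ∈ Mon p K) :
    indFun K f ∈ Mon p G := by
  unfold Mon at hf
  induction hf using AddSubgroup.closure_induction with
  | mem F hF =>
    obtain ⟨E, lam, hE, rfl⟩ := hF
    rw [indFun_map]
    apply AddSubgroup.subset_closure
    refine ⟨E.map K.subtype,
      lam.comp (E.equivMapOfInjective K.subtype K.subtype_injective).symm.toMonoidHom,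
      IsElementary.of_equiv hE (E.equivMapOfInjective K.subtype K.subtype_injective), rfl⟩
  | zero => rw [indFun_zero]; exact AddSubgroup.zero_mem _
  | add x y _ _ hx hy => rw [indFun_add]; exact AddSubgroup.add_mem _ hx hy
  | neg x _ hx => rw [indFun_neg]; exact AddSubgroup.neg_mem _ hx

/-- Characters of an elementary group lie in `Mon`. -/
theorem char_mem_Mon_of_elem [Fact p.Prime] (hE : IsElementary p G) {χ : G → ℂ}
    (hχ : IsCharacter G χ) : χ ∈ Mon p G := by
  classical
  have hp : p.Prime := Fact.out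
  have hnil : Group.IsNilpotent G := IsElementary.nilpotent hE
  have hfI : Fintype (IrrCharacter G) := irrFintype
  obtain ⟨m, -, hsum⟩ := IsCharacter.eq_sum_irr hχ
  rw [hsum]
  apply AddSubgroup.sum_mem
  intro ψ _
  rw [Nat.cast_smul_eq_nsmul]
  apply AddSubgroup.nsmul_mem
  obtain ⟨K, lam, hK⟩ := nilpotent_mgroup (ψ : G → ℂ) ψ.2
  apply AddSubgroup.subset_closure
  exact ⟨K, lam, IsElementary.subgroup hp hE K, hK⟩

theorem mul_mem_Mon [Fact p.Prime] {χ : G → ℂ} (hχ : IsCharacter G χ) {F : G → ℂ}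
    (hF : F ∈ Mon p G) : χ * F ∈ Mon p G := by
  classical
  unfold Mon at hF
  induction hF using AddSubgroup.closure_induction with
  | mem F hF =>
    obtain ⟨E, lam, hE, rfl⟩ := hF
    have hfE : Fintype E := Fintype.ofFinite E
    rw [indFun_mul E _ (IsCharacter.isClassFunction hχ)]
    apply ind_mem_Mon
    apply char_mem_Mon_of_elem hE
    exact IsCharacter.mul (IsCharacter.restrict hχ E)
      (IsIrrCharacter.isCharacter (isIrrCharacter_of_monoidHom lam))
  | zero => rw [mul_zero]; exact AddSubgroup.zero_mem _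
  | add x y _ _ hx hy => rw [mul_add]; exact AddSubgroup.add_mem _ hx hy
  | neg x _ hx => rw [mul_neg]; exact AddSubgroup.neg_mem _ hx

end mon

section qelemmas

variable {X : Type u} [Group X] [Fintype X] {p : ℕ}

theorem indFun_central (H : Subgroup X) (φ : H → ℂ) {z : X} (hz : z ∈ Subgroup.center X)
    (hzH : z ∈ H) : indFun H φ z = (H.index : ℂ) * φ ⟨z, hzH⟩ := by
  rw [indFun_apply]
  have h1 : ∀ x : X, extendByZero H φ (x⁻¹ * z * x) = φ ⟨z, hzH⟩ := by
    intro x
    have e : x⁻¹ * z * x = z := by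
      have hc := Subgroup.mem_center_iff.mp hz x
      rw [mul_assoc, ← hc]
      group
    rw [e, extendByZero_of_mem H φ hzH]
  rw [Finset.sum_congr rfl (fun x _ => h1 x), Finset.sum_const, Finset.card_univ, nsmul_eq_mul,
    ← Nat.card_eq_fintype_card, ← Subgroup.card_mul_index H]
  have hne : (Nat.card H : ℂ) ≠ 0 := by
    have := Nat.card_pos (α := H)
    exact_mod_cast this.ne'
  push_cast
  field_simp

theorem central_Z (u : X) (P : Subgroup X) (hsup : P ⊔ Subgroup.zpowers u = ⊤) :
    Subgroup.zpowers u ⊓ Subgroup.centralizer (P : Set X) ≤ Subgroup.center X := by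
  rintro z ⟨hzB, hzP⟩
  rw [Subgroup.mem_center_iff]
  intro g
  have hg : g ∈ P ⊔ Subgroup.zpowers u := by rw [hsup]; exact Subgroup.mem_top g
  have hle : P ⊔ Subgroup.zpowers u ≤ Subgroup.centralizer ({z} : Set X) := by
    apply sup_le
    · intro h hh
      rw [Subgroup.mem_centralizer_iff]
      intro w hw
      rw [Set.mem_singleton_iff] at hw
      rw [hw]
      exact ((Subgroup.mem_centralizer_iff.mp hzP) h hh).symm
    · rw [Subgroup.zpowers_le, Subgroup.mem_centralizer_iff]
      intro w hw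
      rw [Set.mem_singleton_iff] at hw
      rw [hw]
      obtain ⟨j, rfl⟩ := Subgroup.mem_zpowers_iff.mp hzB
      exact ((Commute.refl u).zpow_left j).eq
  have h1 := Subgroup.mem_centralizer_iff.mp (hle hg) z rfl
  exact h1.symm

theorem elem_of_central [Fact p.Prime] {Z : Subgroup X} (hZc : Z ≤ Subgroup.center X) {u : X}
    (hZu : Z ≤ Subgroup.zpowers u) (hu : (orderOf u).Coprime p) (P : Subgroup X)
    (hP : IsPGroup p P) : IsElementary p ↥(Z ⊔ P) := by
  classical
  have hZn : Z.Normal := by
    constructor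
    intro n hn g
    have e : g * n * g⁻¹ = n := by
      rw [Subgroup.mem_center_iff.mp (hZc hn) g]
      group
    rw [e]
    exact hn
  have hcyc : IsCyclic ↥Z := Subgroup.isCyclic_of_le hZu
  obtain ⟨z₀, hz₀⟩ := (Subgroup.isCyclic_iff_exists_zpowers_eq_top _).mp hcyc
  have hz₀Z : z₀ ∈ Z := by rw [← hz₀]; exact Subgroup.mem_zpowers z₀
  have hz₀E : z₀ ∈ Z ⊔ P := Subgroup.mem_sup_left hz₀Z
  have hxc : (⟨z₀, hz₀E⟩ : ↥(Z ⊔ P)) ∈ Subgroup.center ↥(Z ⊔ P) := by
    rw [Subgroup.mem_center_iff]
    intro g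
    apply Subtype.ext
    exact Subgroup.mem_center_iff.mp (hZc hz₀Z) g
  refine ⟨⟨z₀, hz₀E⟩, hxc, ?_, ?_⟩
  · rw [Subgroup.orderOf_mk]
    exact Nat.Coprime.coprime_dvd_left (orderOf_dvd_of_mem_zpowers (hZu hz₀Z)) hu
  · have hnorm : (Subgroup.zpowers (⟨z₀, hz₀E⟩ : ↥(Z ⊔ P))).Normal := normal_zpowers_of_center hxc
    have hq : IsPGroup p (↥(Z ⊔ P) ⧸ Subgroup.zpowers (⟨z₀, hz₀E⟩ : ↥(Z ⊔ P))) := by
      intro q
      induction q using QuotientGroup.induction_on with
      | H e =>
        have he : (e : X) ∈ Z ⊔ P := e.2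
        rw [← SetLike.mem_coe, Subgroup.normal_mul] at he
        obtain ⟨z, hz, y, hy, hzy⟩ := he
        obtain ⟨k, hk⟩ := hP ⟨y, hy⟩
        have hk' : y ^ (p ^ k) = 1 := by
          have := congrArg Subtype.val hk
          simpa using this
        refine ⟨k, ?_⟩
        rw [← QuotientGroup.mk_pow, QuotientGroup.eq_one_iff, Subgroup.mem_zpowers_iff]
        have hcomm : Commute z y := (Subgroup.mem_center_iff.mp (hZc hz) y).symm
        have h1 : (e : X) ^ (p ^ k) = z ^ (p ^ k) := by
          rw [← hzy, hcomm.mul_pow, hk', mul_one]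
        have h2 : z ^ (p ^ k) ∈ Subgroup.zpowers z₀ := by
          rw [hz₀]; exact Subgroup.pow_mem _ hz _
        obtain ⟨j, hj⟩ := Subgroup.mem_zpowers_iff.mp h2
        refine ⟨j, Subtype.ext ?_⟩
        rw [Subgroup.coe_zpow, Subgroup.coe_pow, h1]
        exact hj
    obtain ⟨k, hk⟩ := IsPGroup.iff_card.mp hq
    exact ⟨k, by rw [Subgroup.index_eq_card]; exact hk⟩

/-- The norm argument: an invariant linear character of a normal cyclic `p'`-subgroup that is
trivial on the centralizer of a `p`-subgroup is trivial. -/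
theorem norm_trivial [Fact p.Prime] (u : X) (hn : (Subgroup.zpowers u).Normal)
    (hu : (orderOf u).Coprime p) (P : Subgroup X) (hP : IsPGroup p P)
    (lam : Subgroup.zpowers u →* ℂˣ)
    (hinv : ∀ (g : X) (b : Subgroup.zpowers u), lam ⟨g * b * g⁻¹, hn.conj_mem b b.2 g⟩ = lam b)
    (hZ : ∀ z : Subgroup.zpowers u, (z : X) ∈ Subgroup.centralizer (P : Set X) → lam z = 1) :
    ∀ b : Subgroup.zpowers u, lam b = 1 := by
  classical
  intro b
  have hfP : Fintype P := Fintype.ofFinite P
  letI : CommGroup (Subgroup.zpowers u) := IsCyclic.commGroup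
  obtain ⟨Nb, hNb⟩ : ∃ Nb : Subgroup.zpowers u,
      Nb = ∏ y : P, (⟨(y : X) * b * (y : X)⁻¹, hn.conj_mem b b.2 y⟩ : Subgroup.zpowers u) :=
    ⟨_, rfl⟩
  have h1 : lam Nb = lam b ^ Nat.card P := by
    rw [hNb, map_prod]
    have h0 : ∀ y : P, lam (⟨(y : X) * b * (y : X)⁻¹, hn.conj_mem b b.2 y⟩ : Subgroup.zpowers u)
        = lam b := fun y => hinv (y : X) b
    rw [Finset.prod_congr rfl (fun y _ => h0 y), Finset.prod_const, Finset.card_univ,
      Nat.card_eq_fintype_card]
  have h2 : (Nb : X) ∈ Subgroup.centralizer (P : Set X) := by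
    rw [Subgroup.mem_centralizer_iff]
    intro y₀ hy₀
    have h3 : (MulAut.conjNormal y₀ : MulAut (Subgroup.zpowers u)) Nb = Nb := by
      rw [hNb, map_prod]
      conv_rhs => rw [← Equiv.prod_comp (Equiv.mulLeft (⟨y₀, hy₀⟩ : P))]
      refine Finset.prod_congr rfl (fun y _ => ?_)
      apply Subtype.ext
      rw [MulAut.conjNormal_apply]
      simp only [Equiv.coe_mulLeft, Subgroup.coe_mul]
      group
    have h4 := congrArg Subtype.val h3
    rw [MulAut.conjNormal_apply] at h4
    have h5 : y₀ * (Nb : X) = y₀ * (Nb : X) * y₀⁻¹ * y₀ := by group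
    rw [h5, h4]
  have h6 : lam b ^ Nat.card P = 1 := by rw [← h1]; exact hZ Nb h2
  have h7 : lam b ^ orderOf u = 1 := by
    rw [← map_pow]
    have h8 : b ^ orderOf u = 1 := by
      apply Subtype.ext
      obtain ⟨j, hj⟩ := Subgroup.mem_zpowers_iff.mp b.2
      rw [Subgroup.coe_pow, ← hj, Subgroup.coe_one, ← zpow_natCast, ← zpow_mul, mul_comm,
        zpow_mul, zpow_natCast, pow_orderOf_eq_one, one_zpow]
    rw [h8, map_one]
  obtain ⟨k, hk⟩ := IsPGroup.iff_card.mp hP
  rw [hk] at h6
  have h9 : lam b ^ (Nat.gcd (p ^ k) (orderOf u)) = 1 := pow_gcd_eq_one.mpr ⟨h6, h7⟩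
  have h10 : Nat.gcd (p ^ k) (orderOf u) = 1 := Nat.Coprime.pow_left k hu.symm
  rw [h10, pow_one] at h9
  exact h9

theorem not_trivial_ker {χ : X → ℂ} (hχ : IsIrrCharacter X χ) (hχ1 : χ ≠ fun _ => 1)
    (B E : Subgroup X) [Fintype E] (hBE : B ⊔ E = ⊤) (hB : ∀ b ∈ B, χ b = χ 1)
    (hE : classInner (fun e : E => χ e) (fun _ => 1) ≠ 0) : False := by
  classical
  have hfB : Fintype B := Fintype.ofFinite B
  have hfBE : Fintype ↥(B ⊓ E) := Fintype.ofFinite _
  refine not_generate_of_fixed_lt B E χ hχ hχ1 ?_ hBE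
  have h1 : classInner (fun x : B => χ x) (fun _ => 1) = χ 1 := by
    have hne : (Nat.card B : ℂ) ≠ 0 := by
      have := Nat.card_pos (α := B)
      exact_mod_cast this.ne'
    simp only [classInner, map_one, mul_one]
    rw [Finset.sum_congr rfl (fun (x : B) _ => hB (x : X) x.2), Finset.sum_const, Finset.card_univ,
      nsmul_eq_mul, ← Nat.card_eq_fintype_card, ← mul_assoc, inv_mul_cancel₀ hne, one_mul]
  have h2 : classInner (fun x : ↥(B ⊓ E) => χ x) (fun _ => 1) = χ 1 := by
    have hne : (Nat.card ↥(B ⊓ E) : ℂ) ≠ 0 := by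
      have := Nat.card_pos (α := ↥(B ⊓ E))
      exact_mod_cast this.ne'
    simp only [classInner, map_one, mul_one]
    rw [Finset.sum_congr rfl (fun (x : ↥(B ⊓ E)) _ => hB (x : X) x.2.1), Finset.sum_const, Finset.card_univ,
      nsmul_eq_mul, ← Nat.card_eq_fintype_card, ← mul_assoc, inv_mul_cancel₀ hne, one_mul]
  obtain ⟨m, hm⟩ := IsCharacter.classInner_irr_nat
    (IsCharacter.restrict (IsIrrCharacter.isCharacter hχ) E) (CharBasic.irr_trivial (G := E))
  have hm0 : m ≠ 0 := by
    rintro rfl
    apply hE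
    rw [hm]
    simp
  rw [h1, h2, hm]
  simp only [Complex.natCast_re]
  have : (0 : ℝ) < (m : ℝ) := by exact_mod_cast Nat.pos_of_ne_zero hm0
  linarith

end qelemmas

section qemain

variable {p : ℕ}

theorem qe_mon_aux [Fact p.Prime] : ∀ (n : ℕ) (X : Type u) [Group X] [Fintype X],
    Nat.card X = n → IsQE p X → ∀ χ : X → ℂ, IsCharacter X χ → χ ∈ Mon p X := by
  intro n
  induction n using Nat.strong_induction_on with
  | _ n ih =>
    intro X _ _ hn hqe
    classical
    have hp : p.Prime := Fact.out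
    suffices h1 : (fun _ : X => (1 : ℂ)) ∈ Mon p X by
      intro χ hχ
      have h2 := mul_mem_Mon hχ h1
      have e : χ * (fun _ : X => (1 : ℂ)) = χ := by
        funext x
        simp
      rwa [e] at h2
    obtain ⟨u, hnorm, hu, hq⟩ := IsQE.structure hqe
    obtain ⟨P⟩ : Nonempty (Sylow p X) := inferInstance
    have hsup : (P : Subgroup X) ⊔ Subgroup.zpowers u = ⊤ :=
      Cfsg.Agent.Lib.Helper16.Residual.sylow_sup_eq_top_of_isPGroup_quotient P _ hq
    obtain ⟨Z, hZdef⟩ : ∃ Z : Subgroup X,
        Z = Subgroup.zpowers u ⊓ Subgroup.centralizer ((P : Subgroup X) : Set X) := ⟨_, rfl⟩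
    have hZc : Z ≤ Subgroup.center X := by rw [hZdef]; exact central_Z u P hsup
    obtain ⟨E, hEdef⟩ : ∃ E : Subgroup X, E = Z ⊔ (P : Subgroup X) := ⟨_, rfl⟩
    have hPE : (P : Subgroup X) ≤ E := by rw [hEdef]; exact le_sup_right
    have hZE : Z ≤ E := by rw [hEdef]; exact le_sup_left
    have hEel : IsElementary p E := by
      rw [hEdef]
      exact elem_of_central hZc (by rw [hZdef]; exact inf_le_left) hu P P.isPGroup'
    have hfE : Fintype E := Fintype.ofFinite E
    obtain ⟨Φ, hΦdef⟩ : ∃ Φ : X → ℂ, Φ = indFun E (fun _ => (1 : ℂ)) := ⟨_, rfl⟩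
    have hΦmem : Φ ∈ Mon p X := by
      rw [hΦdef]
      apply AddSubgroup.subset_closure
      exact ⟨E, 1, hEel, by simp⟩
    have hΦc : IsCharacter X Φ := by
      rw [hΦdef]
      exact indFun_isCharacter E (IsIrrCharacter.isCharacter CharBasic.irr_trivial)
    have hfI : Fintype (IrrCharacter X) := irrFintype
    obtain ⟨m, hm, hsum⟩ := IsCharacter.eq_sum_irr hΦc
    obtain ⟨triv, htriv⟩ : ∃ triv : IrrCharacter X, (triv : X → ℂ) = fun _ => 1 :=
      ⟨⟨fun _ => 1, CharBasic.irr_trivial⟩, rfl⟩
    have hmtriv : m triv = 1 := by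
      have h2 := hm triv
      have h3 : classInner Φ (triv : X → ℂ) = 1 := by
        rw [hΦdef, htriv, frobenius_reciprocity E _ (fun g h => rfl)]
        have hne : (Nat.card E : ℂ) ≠ 0 := by
          have := Nat.card_pos (α := E)
          exact_mod_cast this.ne'
        simp only [classInner, map_one, mul_one, Finset.sum_const, Finset.card_univ,
          nsmul_eq_mul]
        rw [← Nat.card_eq_fintype_card, inv_mul_cancel₀ hne]
      rw [h3] at h2
      exact_mod_cast h2.symm
    have key : ∀ ψ : IrrCharacter X, ψ ≠ triv → m ψ ≠ 0 → (ψ : X → ℂ) ∈ Mon p X := by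
      intro ψ hψ hmψ
      have hne : classInner Φ (ψ : X → ℂ) ≠ 0 := by rw [hm ψ]; exact_mod_cast hmψ
      have hψ1 : (ψ : X → ℂ) ≠ fun _ => 1 := fun h => hψ (Subtype.ext (h.trans htriv.symm))
      have hψc := IsIrrCharacter.isCharacter ψ.2
      have hfB : Fintype (Subgroup.zpowers u) := Fintype.ofFinite _
      have hψB : IsCharacter (Subgroup.zpowers u)
          (fun b : Subgroup.zpowers u => (ψ : X → ℂ) b) := IsCharacter.restrict hψc _
      have hψ10 : (ψ : X → ℂ) 1 ≠ 0 := by
        have h2 := CharBasic.char_one_nat hψc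
        have h3 := (Defect.charDegree_dvd_card ψ).2
        rw [h2]
        exact_mod_cast h3.ne'
      obtain ⟨φ, hφ, hφψ⟩ := exists_irr_constituent hψB (by exact hψ10)
      have hcommB : ∀ a b : Subgroup.zpowers u, a * b = b * a := by
        intro a b
        obtain ⟨i, hi⟩ := Subgroup.mem_zpowers_iff.mp a.2
        obtain ⟨j, hj⟩ := Subgroup.mem_zpowers_iff.mp b.2
        apply Subtype.ext
        rw [Subgroup.coe_mul, Subgroup.coe_mul, ← hi, ← hj]
        exact (Commute.zpow_zpow_self u i j).eq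
      have hφ1 : φ 1 = 1 := irr_degree_one_of_comm hcommB hφ
      obtain ⟨lam, hlam⟩ := IsIrrCharacter.exists_monoidHom hφ hφ1
      by_cases hst : charStab (Subgroup.zpowers u) φ = ⊤
      · exfalso
        have hinv : ∀ g : X, conjChar (Subgroup.zpowers u) φ g = φ := fun g => by
          have : g ∈ charStab (Subgroup.zpowers u) φ := by rw [hst]; exact Subgroup.mem_top g
          exact this
        have hlaminv : ∀ (g : X) (b : Subgroup.zpowers u),
            lam ⟨g * b * g⁻¹, hnorm.conj_mem b b.2 g⟩ = lam b := by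
          intro g b
          apply Units.ext
          rw [← hlam, ← hlam]
          exact congrFun (hinv g) b
        have hΦz : ∀ z ∈ Z, Φ z = Φ 1 := by
          intro z hz
          rw [hΦdef, indFun_central E _ (hZc hz) (hZE hz), indFun_one]
        have hψz : ∀ z ∈ Z, (ψ : X → ℂ) z = (ψ : X → ℂ) 1 := fun z hz =>
          SylExt.eq_one_of_inner hΦc ψ.2 hne z (hΦz z hz)
        have hlamZ : ∀ z : Subgroup.zpowers u,
            (z : X) ∈ Subgroup.centralizer ((P : Subgroup X) : Set X) → lam z = 1 := by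
          intro z hz
          have hzZ : (z : X) ∈ Z := by rw [hZdef]; exact ⟨z.2, hz⟩
          have h5 := SylExt.eq_one_of_inner hψB hφ hφψ z (hψz _ hzZ)
          rw [hlam, hlam, map_one, Units.val_one] at h5
          exact Units.ext h5
        have hlam1 := norm_trivial u hnorm hu (P : Subgroup X) P.isPGroup' lam hlaminv hlamZ
        have hcl := clifford (Subgroup.zpowers u) ψ.2 hφ hφψ
        have hset : {ψ' : Subgroup.zpowers u → ℂ |
            ∃ g : X, ψ' = conjChar (Subgroup.zpowers u) φ g} = {φ} := by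
          ext ψ'
          simp only [Set.mem_ofPred_eq, Set.mem_singleton_iff]
          constructor
          · rintro ⟨g, rfl⟩; exact hinv g
          · rintro rfl; exact ⟨1, (hinv 1).symm⟩
        rw [hset, finsum_mem_singleton] at hcl
        have hval : ∀ b : Subgroup.zpowers u, (ψ : X → ℂ) b
            = classInner (fun b : Subgroup.zpowers u => (ψ : X → ℂ) b) φ := by
          intro b
          have h6 := congrFun hcl b
          simp only [Pi.smul_apply, smul_eq_mul] at h6
          rw [hlam, hlam1, Units.val_one, mul_one] at h6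
          exact h6
        have hψb : ∀ b ∈ Subgroup.zpowers u, (ψ : X → ℂ) b = (ψ : X → ℂ) 1 := by
          intro b hb
          have h6 := hval ⟨b, hb⟩
          have h7 := hval 1
          exact h6.trans h7.symm
        have hEin : classInner (fun e : E => (ψ : X → ℂ) e) (fun _ => 1) ≠ 0 := by
          have h8 : classInner Φ (ψ : X → ℂ)
              = classInner (fun _ : E => (1 : ℂ)) (fun e : E => (ψ : X → ℂ) e) := by
            rw [hΦdef]
            exact frobenius_reciprocity E _ (IsIrrCharacter.isClassFunction ψ.2)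
          rw [← classInner_conj_symm, ← h8]
          simpa using hne
        have hBE : Subgroup.zpowers u ⊔ E = ⊤ := by
          rw [eq_top_iff, ← hsup, sup_comm]
          exact sup_le_sup_left hPE _
        exact not_trivial_ker ψ.2 hψ1 (Subgroup.zpowers u) E hBE hψb hEin
      · obtain ⟨ψ', hψ', hψeq⟩ := clifford_corr (Subgroup.zpowers u) hφ ψ.2 hφψ
        have hlt : Nat.card (charStab (Subgroup.zpowers u) φ) < n := by
          rw [← hn]
          apply lt_of_le_of_ne (Subgroup.card_le_card_group _)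
          intro heq
          exact hst (Subgroup.eq_top_of_card_eq _ heq)
        have hfT : Fintype (charStab (Subgroup.zpowers u) φ) := Fintype.ofFinite _
        have h9 := ih _ hlt (charStab (Subgroup.zpowers u) φ) rfl (IsQE.subgroup hqe _) ψ'
          (IsIrrCharacter.isCharacter hψ')
        rw [hψeq]
        exact ind_mem_Mon _ h9
    have h4 : (fun _ : X => (1 : ℂ))
        = Φ - ∑ ψ ∈ Finset.univ.erase triv, (m ψ : ℂ) • (ψ : X → ℂ) := by
      rw [eq_sub_iff_add_eq]
      conv_rhs => rw [hsum]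
      rw [← Finset.add_sum_erase Finset.univ _ (Finset.mem_univ triv), hmtriv, htriv]
      simp
    rw [h4]
    apply AddSubgroup.sub_mem _ hΦmem
    apply AddSubgroup.sum_mem
    intro ψ hψ
    rw [Nat.cast_smul_eq_nsmul]
    by_cases h0 : m ψ = 0
    · rw [h0, zero_smul]
      exact AddSubgroup.zero_mem _
    · exact AddSubgroup.nsmul_mem _ (key ψ (Finset.ne_of_mem_erase hψ) h0) _

/-- Every character of a `p`-quasi-elementary group is an integer combination of characters
induced from linear characters of `p`-elementary subgroups. -/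
theorem qe_mon [Fact p.Prime] {X : Type u} [Group X] [Fintype X] (h : IsQE p X) {χ : X → ℂ}
    (hχ : IsCharacter X χ) : χ ∈ Mon p X :=
  qe_mon_aux _ X rfl h χ hχ

end qemain

end Cfsg.Agent.Lib.Helper25.Brauer
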