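import Mathlib
import Cfsg.Agent.Lib.Helper25.Brauer4

/-!
Brauer induction, part 5: Solomon's induction theorem (local and global), Brauer's induction
theorem and Brauer's characterisation of characters.
-/

set_option autoImplicit false

namespace Cfsg.Agent.Lib.Helper25.Brauer

open Cfsg Cfsg.Agent.Lib.Helper1 Cfsg.Agent.Lib.Helper24
open scoped ComplexConjugate

universe u

section qsp

variable {G : Type u} [Group G] [Fintype G]

/-- generators: generalized characters induced from subgroups satisfying `𝓗` -/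
def qGen (𝓗 : Subgroup G → Prop) : Set (G → ℂ) :=
  {F | ∃ (H : Subgroup G) (φ : H → ℂ), 𝓗 H ∧ IsGeneralizedCharacter H φ ∧ F = indFun H φ}

/-- the additive group spanned by generalized characters induced from subgroups in `𝓗` -/
def QSp (𝓗 : Subgroup G → Prop) : AddSubgroup (G → ℂ) := AddSubgroup.closure (qGen 𝓗)

variable {𝓗 : Subgroup G → Prop}

theorem isGen_of_mem_QSp {F : G → ℂ} (hF : F ∈ QSp 𝓗) : IsGeneralizedCharacter G F := by
  unfold QSp at hF
  induction hF using AddSubgroup.closure_induction with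
  | mem F hF =>
    obtain ⟨H, φ, -, hφ, rfl⟩ := hF
    exact isGen_indFun H hφ
  | zero => exact isGen_zero
  | add x y _ _ hx hy => exact isGen_add hx hy
  | neg x _ hx => exact isGen_neg hx

theorem mul_mem_QSp {ψ F : G → ℂ} (hψ : IsGeneralizedCharacter G ψ) (hF : F ∈ QSp 𝓗) :
    ψ * F ∈ QSp 𝓗 := by
  unfold QSp at hF
  induction hF using AddSubgroup.closure_induction with
  | mem F hF =>
    obtain ⟨H, φ, h𝓗, hφ, rfl⟩ := hF
    rw [indFun_mul H φ (isGen_isClassFunction hψ)]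
    apply AddSubgroup.subset_closure
    exact ⟨H, _, h𝓗, isGen_mul (isGen_restrict hψ H) hφ, rfl⟩
  | zero => rw [mul_zero]; exact AddSubgroup.zero_mem _
  | add x y _ _ hx hy => rw [mul_add]; exact AddSubgroup.add_mem _ hx hy
  | neg x _ hx => rw [mul_neg]; exact AddSubgroup.neg_mem _ hx

theorem QSp_mul {F F' : G → ℂ} (hF : F ∈ QSp 𝓗) (hF' : F' ∈ QSp 𝓗) : F * F' ∈ QSp 𝓗 :=
  mul_mem_QSp (isGen_of_mem_QSp hF) hF'

theorem perm_mem_QSp {H : Subgroup G} (h : 𝓗 H) : indFun H (fun _ => (1 : ℂ)) ∈ QSp 𝓗 :=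
  AddSubgroup.subset_closure
    ⟨H, _, h, isGen_of_char (IsIrrCharacter.isCharacter CharBasic.irr_trivial), rfl⟩

/-- Solomon's induction theorem, local form. -/
theorem local_solomon (p : ℕ) [Fact p.Prime] :
    ∃ m : ℤ, ¬ (p : ℤ) ∣ m ∧
      (fun _ : G => (m : ℂ)) ∈ QSp (fun H : Subgroup G => IsQE p H) := by
  classical
  have hp : p.Prime := Fact.out
  choose H n hqe hn hval using exists_qe_fixed (G := G) p
  refine ⟨∏ x, (n x : ℤ), ?_, ?_⟩
  · intro hdvd
    rw [Prime.dvd_finsetProd_iff (Nat.prime_iff_prime_int.mp hp)] at hdvd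
    obtain ⟨x, -, hx⟩ := hdvd
    exact hn x (Int.natCast_dvd_natCast.mp hx)
  · exact ban (QSp _) (fun f hf g hg => QSp_mul hf hg) (fun x => (n x : ℤ))
      (fun x => indFun (H x) (fun _ => (1 : ℂ))) (fun x => perm_mem_QSp (hqe x))
      (fun x => by rw [hval x]; simp)

/-- Solomon's induction theorem, global form. -/
theorem global_solomon :
    (fun _ : G => (1 : ℂ)) ∈ QSp (fun H : Subgroup G => ∃ p : ℕ, p.Prime ∧ IsQE p H) := by
  classical
  have key : ∀ g : G, ∃ F ∈ QSp (fun H : Subgroup G => ∃ p : ℕ, p.Prime ∧ IsQE p H),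
      F g = 1 := by
    intro g
    let I : AddSubgroup ℤ :=
      { carrier := {z | ∃ F ∈ QSp (fun H : Subgroup G => ∃ p : ℕ, p.Prime ∧ IsQE p H),
          F g = (z : ℂ)}
        zero_mem' := ⟨0, AddSubgroup.zero_mem _, by simp⟩
        add_mem' := by
          rintro a b ⟨F, hF, hFa⟩ ⟨F', hF', hFb⟩
          exact ⟨F + F', AddSubgroup.add_mem _ hF hF', by
            rw [Pi.add_apply, hFa, hFb]; push_cast; ring⟩
        neg_mem' := by
          rintro a ⟨F, hF, hFa⟩
          exact ⟨-F, AddSubgroup.neg_mem _ hF, by rw [Pi.neg_apply, hFa]; push_cast; ring⟩ }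
    have h1 : (1 : ℤ) ∈ I := by
      apply one_mem_of_primes I
      intro p hp
      haveI := Fact.mk hp
      obtain ⟨H, n, hqe, hn, hval⟩ := exists_qe_fixed p g
      exact ⟨(n : ℤ), ⟨indFun H (fun _ => (1 : ℂ)), perm_mem_QSp ⟨p, hp, hqe⟩, by
        rw [hval]; simp⟩, fun h => hn (Int.natCast_dvd_natCast.mp h)⟩
    obtain ⟨F, hF, hFg⟩ := h1
    exact ⟨F, hF, by rw [hFg]; simp⟩
  choose F hF hFg using key
  have h2 := ban (QSp (fun H : Subgroup G => ∃ p : ℕ, p.Prime ∧ IsQE p H))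
    (fun f hf g hg => QSp_mul hf hg) (fun _ => (1 : ℤ)) F hF (fun x => by rw [hFg x]; simp)
  simpa using h2

end qsp

section brauer

variable {G : Type u} [Group G] [Fintype G] {p : ℕ}

theorem ind_qe_mem_Mon [Fact p.Prime] {H : Subgroup G} (hH : IsQE p H) {φ : H → ℂ}
    (hφ : IsGeneralizedCharacter H φ) : indFun H φ ∈ Mon p G := by
  classical
  have hfH : Fintype H := Fintype.ofFinite H
  obtain ⟨χ, ψ, hχ, hψ, rfl⟩ := hφ
  apply ind_mem_Mon
  exact AddSubgroup.sub_mem _ (qe_mon hH hχ) (qe_mon hH hψ)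

/-- generators: induced linear characters of elementary subgroups (all primes) -/
def monGenAll (G : Type u) [Group G] [Fintype G] : Set (G → ℂ) :=
  {F | ∃ (E : Subgroup G) (lam : E →* ℂˣ), (∃ p : ℕ, p.Prime ∧ IsElementary p E) ∧
    F = indFun E (fun e => ((lam e : ℂˣ) : ℂ))}

/-- the additive group spanned by induced linear characters of elementary subgroups -/
def MonAll (G : Type u) [Group G] [Fintype G] : AddSubgroup (G → ℂ) :=
  AddSubgroup.closure (monGenAll G)

theorem Mon_le_MonAll (hp : p.Prime) : Mon p G ≤ MonAll G := by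
  apply AddSubgroup.closure_mono
  rintro F ⟨E, lam, hE, hF⟩
  exact ⟨E, lam, ⟨p, hp, hE⟩, hF⟩

theorem one_mem_MonAll : (fun _ : G => (1 : ℂ)) ∈ MonAll G := by
  have h := global_solomon (G := G)
  refine (AddSubgroup.closure_le _).mpr ?_ h
  rintro F ⟨H, φ, ⟨p, hp, hqe⟩, hφ, rfl⟩
  haveI := Fact.mk hp
  exact Mon_le_MonAll hp (ind_qe_mem_Mon hqe hφ)

theorem mul_mem_MonAll {χ : G → ℂ} (hχ : IsCharacter G χ) {F : G → ℂ} (hF : F ∈ MonAll G) :
    χ * F ∈ MonAll G := by
  unfold MonAll at hF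
  induction hF using AddSubgroup.closure_induction with
  | mem F hF =>
    obtain ⟨E, lam, ⟨p, hp, hE⟩, rfl⟩ := hF
    haveI := Fact.mk hp
    exact Mon_le_MonAll hp (mul_mem_Mon hχ (AddSubgroup.subset_closure ⟨E, lam, hE, rfl⟩))
  | zero => rw [mul_zero]; exact AddSubgroup.zero_mem _
  | add x y _ _ hx hy => rw [mul_add]; exact AddSubgroup.add_mem _ hx hy
  | neg x _ hx => rw [mul_neg]; exact AddSubgroup.neg_mem _ hx

/-- Brauer's induction theorem (closure form). -/
theorem char_mem_MonAll {χ : G → ℂ} (hχ : IsCharacter G χ) : χ ∈ MonAll G := by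
  have h := mul_mem_MonAll hχ (one_mem_MonAll (G := G))
  have e : χ * (fun _ : G => (1 : ℂ)) = χ := by
    funext x
    simp
  rwa [e] at h

theorem list_neg_aux (l : List ((E : Subgroup G) × ((E →* ℂˣ) × ℤ))) :
    ((l.map (fun t => (⟨t.1, t.2.1, -t.2.2⟩ : (E : Subgroup G) × ((E →* ℂˣ) × ℤ)))).map
      fun t => (t.2.2 : ℂ) • indFun t.1 (fun e => ((t.2.1 e : ℂˣ) : ℂ))).sum
    = -(l.map fun t => (t.2.2 : ℂ) • indFun t.1 (fun e => ((t.2.1 e : ℂˣ) : ℂ))).sum := by
  induction l with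
  | nil => simp
  | cons a l ih =>
    rw [List.map_cons, List.map_cons, List.sum_cons, ih, List.map_cons, List.sum_cons, neg_add]
    congr 1
    push_cast
    rw [neg_smul]

/-- Brauer's induction theorem (list form). -/
theorem list_of_MonAll {F : G → ℂ} (hF : F ∈ MonAll G) :
    ∃ l : List ((E : Subgroup G) × ((E →* ℂˣ) × ℤ)),
      (∀ t ∈ l, ∃ p : ℕ, p.Prime ∧ IsElementary p t.1) ∧
      F = (l.map fun t => (t.2.2 : ℂ) • indFun t.1 (fun e => ((t.2.1 e : ℂˣ) : ℂ))).sum := by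
  unfold MonAll at hF
  induction hF using AddSubgroup.closure_induction with
  | mem F hF =>
    obtain ⟨E, lam, hE, rfl⟩ := hF
    refine ⟨[⟨E, lam, 1⟩], ?_, ?_⟩
    · intro t ht
      rw [List.mem_singleton] at ht
      rw [ht]
      exact hE
    · simp
  | zero => exact ⟨[], by simp, by simp⟩
  | add x y _ _ hx hy =>
    obtain ⟨l1, h1, rfl⟩ := hx
    obtain ⟨l2, h2, rfl⟩ := hy
    refine ⟨l1 ++ l2, ?_, ?_⟩
    · intro t ht
      rcases List.mem_append.mp ht with h | h
      · exact h1 t h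
      · exact h2 t h
    · rw [List.map_append, List.sum_append]
  | neg x _ hx =>
    obtain ⟨l, h1, rfl⟩ := hx
    refine ⟨l.map (fun t => ⟨t.1, t.2.1, -t.2.2⟩), ?_, ?_⟩
    · intro t ht
      obtain ⟨s, hs, rfl⟩ := List.mem_map.mp ht
      exact h1 s hs
    · rw [list_neg_aux]

theorem list_neg_aux' (l : List ((E : Subgroup G) × ((E → ℂ) × ℤ))) :
    ((l.map (fun t => (⟨t.1, t.2.1, -t.2.2⟩ : (E : Subgroup G) × ((E → ℂ) × ℤ)))).map
      fun t => (t.2.2 : ℂ) • indFun t.1 t.2.1).sum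
    = -(l.map fun t => (t.2.2 : ℂ) • indFun t.1 t.2.1).sum := by
  induction l with
  | nil => simp
  | cons a l ih =>
    rw [List.map_cons, List.map_cons, List.sum_cons, ih, List.map_cons, List.sum_cons, neg_add]
    congr 1
    push_cast
    rw [neg_smul]

theorem list_of_Mon {F : G → ℂ} (hF : F ∈ Mon p G) :
    ∃ l : List ((E : Subgroup G) × ((E → ℂ) × ℤ)),
      (∀ t ∈ l, IsElementary p t.1 ∧ IsCharacter t.1 t.2.1) ∧
      F = (l.map fun t => (t.2.2 : ℂ) • indFun t.1 t.2.1).sum := by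
  unfold Mon at hF
  induction hF using AddSubgroup.closure_induction with
  | mem F hF =>
    obtain ⟨E, lam, hE, rfl⟩ := hF
    refine ⟨[⟨E, (fun e => ((lam e : ℂˣ) : ℂ)), 1⟩], ?_, ?_⟩
    · intro t ht
      rw [List.mem_singleton] at ht
      rw [ht]
      exact ⟨hE, IsIrrCharacter.isCharacter (isIrrCharacter_of_monoidHom lam)⟩
    · simp
  | zero => exact ⟨[], by simp, by simp⟩
  | add x y _ _ hx hy =>
    obtain ⟨l1, h1, rfl⟩ := hx
    obtain ⟨l2, h2, rfl⟩ := hy
    refine ⟨l1 ++ l2, ?_, ?_⟩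
    · intro t ht
      rcases List.mem_append.mp ht with h | h
      · exact h1 t h
      · exact h2 t h
    · rw [List.map_append, List.sum_append]
  | neg x _ hx =>
    obtain ⟨l, h1, rfl⟩ := hx
    refine ⟨l.map (fun t => ⟨t.1, t.2.1, -t.2.2⟩), ?_, ?_⟩
    · intro t ht
      obtain ⟨s, hs, rfl⟩ := List.mem_map.mp ht
      exact h1 s hs
    · rw [list_neg_aux']

/-- Brauer's local induction theorem (closure form). -/
theorem local_brauer (p : ℕ) [Fact p.Prime] :
    ∃ m : ℤ, ¬ (p : ℤ) ∣ m ∧ (fun _ : G => (m : ℂ)) ∈ Mon p G := by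
  obtain ⟨m, hm, h⟩ := local_solomon (G := G) p
  refine ⟨m, hm, ?_⟩
  refine (AddSubgroup.closure_le _).mpr ?_ h
  rintro F ⟨H, φ, hqe, hφ, rfl⟩
  exact ind_qe_mem_Mon hqe hφ

/-- Brauer's characterisation of characters. -/
theorem brauer_char {θ : G → ℂ} (hθ : IsClassFunction G θ)
    (hE : ∀ (E : Subgroup G) (p : ℕ), p.Prime → IsElementary p E →
      IsGeneralizedCharacter E (fun e : E => θ e)) : IsGeneralizedCharacter G θ := by
  have key : ∀ F ∈ MonAll G, IsGeneralizedCharacter G (θ * F) := by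
    intro F hF
    unfold MonAll at hF
    induction hF using AddSubgroup.closure_induction with
    | mem F hF =>
      obtain ⟨E, lam, ⟨p, hp, hEl⟩, rfl⟩ := hF
      rw [indFun_mul E _ hθ]
      exact isGen_indFun E (isGen_mul (hE E p hp hEl)
        (isGen_of_char (IsIrrCharacter.isCharacter (isIrrCharacter_of_monoidHom lam))))
    | zero => rw [mul_zero]; exact isGen_zero
    | add x y _ _ hx hy => rw [mul_add]; exact isGen_add hx hy
    | neg x _ hx => rw [mul_neg]; exact isGen_neg hx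
  have h := key _ (one_mem_MonAll (G := G))
  have e : θ * (fun _ : G => (1 : ℂ)) = θ := by
    funext x
    simp
  rwa [e] at h

end brauer

end Cfsg.Agent.Lib.Helper25.Brauer
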