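import Mathlib

set_option autoImplicit false

namespace Cfsg.Agent.Lib.Helper25.CodegreeGroup

universe u

theorem mulAut_comm_of_cyclic {P : Type u} [Group P] [IsCyclic P] (φ ψ : MulAut P) :
    φ * ψ = ψ * φ := by
  have e := IsCyclic.mulAutMulEquiv P
  apply e.injective
  rw [map_mul, map_mul, mul_comm]

theorem not_perfect_of_card {H : Type u} [Group H] [Finite H] (p d : ℕ) (hp : p.Prime)
    (hd : 0 < d) (hdp : d < p) (hcard : Nat.card H = p * d) (hperf : commutator H = ⊤) : False := by
  have hfact : Fact p.Prime := ⟨hp⟩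
  have hpd : ¬ p ∣ d := fun h => absurd (Nat.le_of_dvd hd h) (by omega)
  let P : Sylow p H := default
  have hPcard : Nat.card P = p := by
    rw [Sylow.card_eq_multiplicity, hcard, Nat.factorization_mul hp.ne_zero hd.ne',
      Finsupp.add_apply, Nat.Prime.factorization_self hp,
      Nat.factorization_eq_zero_of_not_dvd hpd, pow_one]
  have hPidx : (P : Subgroup H).index = d := by
    have h1 := (P : Subgroup H).card_mul_index
    rw [hPcard, hcard] at h1
    exact Nat.eq_of_mul_eq_mul_left hp.pos h1
  have hn1 : Nat.card (Sylow p H) = 1 := by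
    have h1 := card_sylow_modEq_one p H
    have h2 : Nat.card (Sylow p H) ∣ d := hPidx ▸ Sylow.card_dvd_index P
    have h3 : Nat.card (Sylow p H) ≤ d := Nat.le_of_dvd hd h2
    have h4 : Nat.card (Sylow p H) % p = 1 % p := h1
    rw [Nat.mod_eq_of_lt (by omega), Nat.mod_eq_of_lt hp.one_lt] at h4
    exact h4
  have hPnormal : (P : Subgroup H).Normal := by
    rw [← Subgroup.normalizer_eq_top_iff, ← Subgroup.index_eq_one]
    have h1 := Sylow.card_eq_index_normalizer P
    rw [hn1] at h1
    exact h1.symm
  have hPcyc : IsCyclic (P : Subgroup H) := isCyclic_of_prime_card hPcard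
  -- conjugation action is trivial
  have hker : (MulAut.conjNormal (H := (P : Subgroup H))).ker = ⊤ := by
    rw [eq_top_iff, ← hperf, commutator_def, Subgroup.commutator_le]
    intro a _ b _
    rw [MonoidHom.mem_ker, map_commutatorElement, commutatorElement_def]
    rw [mulAut_comm_of_cyclic (MulAut.conjNormal a) (MulAut.conjNormal b)]
    group
  have hcent : ∀ h : H, ∀ x ∈ (P : Subgroup H), h * x * h⁻¹ = x := by
    intro h x hx
    have h1 : MulAut.conjNormal (H := (P : Subgroup H)) h = 1 := by
      have : h ∈ (MulAut.conjNormal (H := (P : Subgroup H))).ker := hker ▸ Subgroup.mem_top h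
      exact this
    have h2 := congrArg (fun f : MulAut (P : Subgroup H) => ((f ⟨x, hx⟩ : (P : Subgroup H)) : H)) h1
    simpa [MulAut.conjNormal_apply] using h2
  have hP : Subgroup.normalizer ((P : Subgroup H) : Set H) ≤
      Subgroup.centralizer ((P : Subgroup H) : Set H) := by
    intro h _
    rw [Subgroup.mem_centralizer_iff]
    intro x hx
    have h1 := hcent h x hx
    calc x * h = (h * x * h⁻¹) * h := by rw [h1]
      _ = h * x := by group
  have hcompl := MonoidHom.ker_transferSylow_isComplement' P hP
  have hTker : (MonoidHom.transferSylow P hP).ker = ⊤ := by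
    rw [eq_top_iff, ← hperf, commutator_def, Subgroup.commutator_le]
    intro a _ b _
    rw [MonoidHom.mem_ker, map_commutatorElement, commutatorElement_def]
    have hcomm : ∀ x y : (P : Subgroup H), x * y = y * x := fun x y =>
      Subtype.ext (hP (Subgroup.le_normalizer y.2) x x.2)
    rw [hcomm (MonoidHom.transferSylow P hP a) (MonoidHom.transferSylow P hP b)]
    group
  rw [hTker, Subgroup.isComplement'_top_left] at hcompl
  rw [hcompl, Subgroup.card_bot] at hPcard
  exact hp.one_lt.ne hPcard

theorem exists_hom_prime_index {G : Type u} [Group G] [Finite G] (h : commutator G ≠ ⊤) :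
    ∃ (μ : G →* ℂˣ) (p : ℕ), p.Prime ∧ μ.ker.index = p := by
  -- a nontrivial linear character
  obtain ⟨g, hg⟩ : ∃ g : G, g ∉ commutator G := by
    by_contra hcon
    push Not at hcon
    exact h (eq_top_iff.mpr (fun x _ => hcon x))
  have ha : (Abelianization.of g : Abelianization G) ≠ 1 := by
    intro h1
    exact hg ((QuotientGroup.eq_one_iff g).mp h1)
  obtain ⟨φ, hφ⟩ := CommGroup.exists_apply_ne_one_of_hasEnoughRootsOfUnity (Abelianization G) ℂ ha
  let lam : G →* ℂˣ := φ.comp Abelianization.of
  have hlam : lam g ≠ 1 := hφ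
  let R : Subgroup ℂˣ := lam.range
  have hRfin : Finite R := (Set.finite_range lam).to_subtype
  have hRcyc : IsCyclic R := inferInstance
  have hm1 : Nat.card R ≠ 1 := by
    intro h1
    have h2 : R = ⊥ := Subgroup.card_eq_one.mp h1
    have h3 : lam g ∈ R := ⟨g, rfl⟩
    rw [h2, Subgroup.mem_bot] at h3
    exact hlam h3
  have hm0 : Nat.card R ≠ 0 := Nat.card_pos.ne'
  have hp : (Nat.card R).minFac.Prime := Nat.minFac_prime hm1
  have hpdvd : (Nat.card R).minFac ∣ Nat.card R := Nat.minFac_dvd _
  let ν : G →* R := (powMonoidHom (Nat.card R / (Nat.card R).minFac)).comp lam.rangeRestrict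
  refine ⟨R.subtype.comp ν, (Nat.card R).minFac, hp, ?_⟩
  have h1 : (R.subtype.comp ν).ker = ν.ker := by
    ext x
    simp only [MonoidHom.mem_ker, MonoidHom.comp_apply, Subgroup.coe_subtype]
    exact OneMemClass.coe_eq_one
  rw [h1, Subgroup.index_ker]
  have h2 : ν.range = (powMonoidHom (Nat.card R / (Nat.card R).minFac) : R →* R).range := by
    rw [MonoidHom.range_comp, MonoidHom.range_eq_top.mpr lam.rangeRestrict_surjective,
      ← MonoidHom.range_eq_map]
  rw [h2, IsCyclic.card_powMonoidHom_range,
    Nat.gcd_eq_right (Nat.div_dvd_of_dvd hpdvd), Nat.div_div_self hpdvd hm0]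

end Cfsg.Agent.Lib.Helper25.CodegreeGroup
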