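import Mathlib
import Cfsg.Agent.Lib.Helper25.Brauer5
import Cfsg.Agent.Lib.Helper10.Virt
import Cfsg.Agent.Lib.Helper1.CharComplete
import Cfsg.Agent.Lib.Helper1.CharFrobThm

/-!
The Brauer–Suzuki criterion for a normal complement of a Hall subgroup (Isaacs 8.22), via
Brauer's characterisation of characters.
-/

set_option autoImplicit false

namespace Cfsg.Agent.Lib.Helper25.BS

open Cfsg Cfsg.Agent.Lib.Helper1 Cfsg.Agent.Lib.Helper24 Cfsg.Agent.Lib.Helper25.Brauer
open scoped ComplexConjugate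

universe u

/-- On a finite nilpotent group the power map with exponent `a ≡ 1 (mod h)`, `a ≡ 0 (mod m)`
(`h`, `m` coprime with `|E|` dividing `h * m`) is multiplicative. -/
theorem pow_mul_of_nilpotent {E : Type u} [Group E] [Finite E] [hnil : Group.IsNilpotent E]
    (h m a : ℕ) (hcop : h.Coprime m) (hE : Nat.card E ∣ h * m) (ha1 : a ≡ 1 [MOD h])
    (ha0 : a ≡ 0 [MOD m]) (e f : E) : (e * f) ^ a = e ^ a * f ^ a := by
  obtain ⟨φ⟩ := ((Group.isNilpotent_of_finite_tfae (G := E)).out 0 4).mp hnil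
  have key : ∀ x y : (∀ p : (Nat.card E).primeFactors, ∀ P : Sylow p E, (↑P : Subgroup E)),
      (x * y) ^ a = x ^ a * y ^ a := by
    intro x y
    funext p P
    simp only [Pi.pow_apply, Pi.mul_apply]
    have hp : (p : ℕ).Prime := Nat.prime_of_mem_primeFactors p.2
    haveI : Fact (p : ℕ).Prime := ⟨hp⟩
    have hdvd : ∀ u : (P : Subgroup E), orderOf u ∣ h * m := fun u =>
      dvd_trans (orderOf_dvd_natCard u) (dvd_trans (Subgroup.card_subgroup_dvd_card _) hE)
    by_cases hph : (p : ℕ) ∣ h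
    · have hu : ∀ u : (P : Subgroup E), u ^ a = u := by
        intro u
        obtain ⟨k, hk⟩ := (IsPGroup.iff_orderOf.mp P.isPGroup') u
        have h2 : (orderOf u).Coprime m := by
          rw [hk]
          exact Nat.Coprime.pow_left k (Nat.Coprime.coprime_dvd_left hph hcop)
        have h3 : orderOf u ∣ h := Nat.Coprime.dvd_of_dvd_mul_right h2 (hdvd u)
        have h4 : a ≡ 1 [MOD orderOf u] := Nat.ModEq.of_dvd h3 ha1
        have h5 := pow_eq_pow_iff_modEq.mpr h4
        rw [h5, pow_one]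
      rw [hu, hu, hu]
    · have hu : ∀ u : (P : Subgroup E), u ^ a = 1 := by
        intro u
        obtain ⟨k, hk⟩ := (IsPGroup.iff_orderOf.mp P.isPGroup') u
        have h2 : (orderOf u).Coprime h := by
          rw [hk]
          exact Nat.Coprime.pow_left k ((Nat.Prime.coprime_iff_not_dvd hp).mpr hph)
        have h3 : orderOf u ∣ m := Nat.Coprime.dvd_of_dvd_mul_left h2 (hdvd u)
        have h4 : m ∣ a := (Nat.modEq_zero_iff_dvd).mp ha0
        exact orderOf_dvd_iff_pow_eq_one.mp (dvd_trans h3 h4)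
      rw [hu, hu, hu, mul_one]
  have h1 := key (φ.symm e) (φ.symm f)
  have h2 := congrArg φ h1
  simpa using h2

theorem cyclic_elementary {G : Type u} [Group G] (y : G) {p : ℕ}
    (hcop : (orderOf y).Coprime p) : IsElementary p (Subgroup.zpowers y) := by
  refine ⟨⟨y, Subgroup.mem_zpowers y⟩, ?_, ?_, 0, ?_⟩
  · rw [Subgroup.mem_center_iff]
    intro g
    obtain ⟨j, hj⟩ := Subgroup.mem_zpowers_iff.mp g.2
    apply Subtype.ext
    rw [Subgroup.coe_mul, Subgroup.coe_mul, ← hj]
    exact ((Commute.refl y).zpow_left j).eq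
  · rw [Subgroup.orderOf_mk]; exact hcop
  · rw [pow_zero, Subgroup.index_eq_one, eq_top_iff]
    rintro ⟨g, hg⟩ -
    obtain ⟨j, hj⟩ := Subgroup.mem_zpowers_iff.mp hg
    exact Subgroup.mem_zpowers_iff.mpr ⟨j, Subtype.ext (by rw [Subgroup.coe_zpow]; exact hj)⟩

section bs

variable {G : Type u} [Group G] [Fintype G] {H : Subgroup G} [Fintype H] {a : ℕ} {pt : G → H}

theorem pt_eval (hfus : ∀ x ∈ H, ∀ y ∈ H, IsConj x y → ∃ h ∈ H, h * x * h⁻¹ = y)
    (hpt : ∀ g : G, ∃ k : G, k * g ^ a * k⁻¹ = (pt g : G))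
    {θ : H → ℂ} (hθ : IsClassFunction H θ) (g : G) {w : G} (hw : w ∈ H)
    (hc : IsConj (g ^ a) w) : θ (pt g) = θ ⟨w, hw⟩ := by
  obtain ⟨k, hk⟩ := hpt g
  have h1 : IsConj ((pt g : H) : G) w := by
    have h2 : IsConj (g ^ a) ((pt g : H) : G) := isConj_iff.mpr ⟨k, hk⟩
    exact h2.symm.trans hc
  obtain ⟨h, hh, hhw⟩ := hfus _ (pt g).2 w hw h1
  have h3 : (⟨w, hw⟩ : H) = ⟨h, hh⟩ * pt g * (⟨h, hh⟩ : H)⁻¹ := Subtype.ext (by simp [hhw])
  rw [h3, hθ]

theorem pt_classFunction (hfus : ∀ x ∈ H, ∀ y ∈ H, IsConj x y → ∃ h ∈ H, h * x * h⁻¹ = y)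
    (hpt : ∀ g : G, ∃ k : G, k * g ^ a * k⁻¹ = (pt g : G))
    {θ : H → ℂ} (hθ : IsClassFunction H θ) : IsClassFunction G (θ ∘ pt) := by
  intro g k
  simp only [Function.comp_apply]
  obtain ⟨k', hk'⟩ := hpt g
  have h0 : IsConj ((k * g * k⁻¹) ^ a) ((pt g : H) : G) := by
    rw [conj_pow]
    have h1 : IsConj (g ^ a) (k * g ^ a * k⁻¹) := isConj_iff.mpr ⟨k, rfl⟩
    have h2 : IsConj (g ^ a) ((pt g : H) : G) := isConj_iff.mpr ⟨k', hk'⟩
    exact h1.symm.trans h2
  have h3 := pt_eval hfus hpt hθ (k * g * k⁻¹) (pt g).2 h0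
  simpa using h3

theorem pt_restrict (hfus : ∀ x ∈ H, ∀ y ∈ H, IsConj x y → ∃ h ∈ H, h * x * h⁻¹ = y)
    (hpt : ∀ g : G, ∃ k : G, k * g ^ a * k⁻¹ = (pt g : G)) (hH : ∀ x ∈ H, x ^ a = x)
    {θ : H → ℂ} (hθ : IsClassFunction H θ) (x : H) : θ (pt x) = θ x := by
  have h3 := pt_eval hfus hpt hθ (x : G) x.2 (w := (x : G)) (by rw [hH x x.2])
  simpa using h3

theorem pt_one (hfus : ∀ x ∈ H, ∀ y ∈ H, IsConj x y → ∃ h ∈ H, h * x * h⁻¹ = y)
    (hpt : ∀ g : G, ∃ k : G, k * g ^ a * k⁻¹ = (pt g : G))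
    {θ : H → ℂ} (hθ : IsClassFunction H θ) : θ (pt 1) = θ 1 := by
  have h3 := pt_eval hfus hpt hθ (1 : G) H.one_mem (w := 1) (by rw [one_pow])
  exact h3

theorem pt_isGen (hHall : Nat.Coprime (Nat.card H) H.index)
    (hfus : ∀ x ∈ H, ∀ y ∈ H, IsConj x y → ∃ h ∈ H, h * x * h⁻¹ = y)
    (helem : ∀ (E : Subgroup G) (p : ℕ), p.Prime → IsElementary p E →
      Nat.card E ∣ Nat.card H → ∃ g : G, E.map (MulAut.conj g).toMonoidHom ≤ H)
    (hpt : ∀ g : G, ∃ k : G, k * g ^ a * k⁻¹ = (pt g : G))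
    (ha1 : a ≡ 1 [MOD Nat.card H]) (ha0 : a ≡ 0 [MOD H.index])
    {θ : H → ℂ} (hθ : IsCharacter H θ) : IsGeneralizedCharacter G (θ ∘ pt) := by
  have hθc := IsCharacter.isClassFunction hθ
  apply brauer_char (pt_classFunction hfus hpt hθc)
  intro E p hp hE
  haveI : Fact p.Prime := ⟨hp⟩
  haveI hnil : Group.IsNilpotent E := IsElementary.nilpotent hE
  have hcardG : Nat.card G = Nat.card H * H.index := (Subgroup.card_mul_index H).symm
  have hEdvd : Nat.card E ∣ Nat.card H * H.index := by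
    rw [← hcardG]; exact Subgroup.card_subgroup_dvd_card E
  obtain ⟨ψ, hψ⟩ : ∃ ψ : E →* E, ∀ e : E, ψ e = e ^ a :=
    ⟨{ toFun := fun e => e ^ a
       map_one' := one_pow a
       map_mul' := pow_mul_of_nilpotent (Nat.card H) H.index a hHall hEdvd ha1 ha0 },
      fun e => rfl⟩
  obtain ⟨E', hE'def⟩ : ∃ E' : Subgroup G, E' = ψ.range.map E.subtype := ⟨_, rfl⟩
  have hE'el : IsElementary p E' := by
    rw [hE'def]
    exact IsElementary.of_equiv (IsElementary.subgroup hp hE ψ.range)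
      (ψ.range.equivMapOfInjective E.subtype E.subtype_injective)
  have hE'mem : ∀ e : E, E.subtype (ψ e) ∈ E' := by
    intro e
    rw [hE'def]
    exact Subgroup.mem_map_of_mem _ ⟨e, rfl⟩
  have hE'pow : ∀ y ∈ E', y ^ Nat.card H = 1 := by
    intro y hy
    rw [hE'def] at hy
    obtain ⟨_, ⟨e, rfl⟩, rfl⟩ := hy
    rw [hψ e]
    obtain ⟨t, ht⟩ := (Nat.modEq_zero_iff_dvd).mp ha0
    have e1 : a * Nat.card H = t * Nat.card G := by rw [ht, hcardG]; ring
    rw [Subgroup.coe_subtype, Subgroup.coe_pow, ← pow_mul, e1, pow_mul, pow_card_eq_one']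
  have hE'card : Nat.card E' ∣ Nat.card H := by
    have h1 : Nat.card E' ∣ Nat.card H * H.index := by
      rw [← hcardG]; exact Subgroup.card_subgroup_dvd_card E'
    refine Nat.Coprime.dvd_of_dvd_mul_right ?_ h1
    by_contra hnc
    obtain ⟨q, hq, hq1, hq2⟩ := Nat.Prime.not_coprime_iff_dvd.mp hnc
    haveI : Fact q.Prime := ⟨hq⟩
    obtain ⟨y, hy⟩ := exists_prime_orderOf_dvd_card' q hq1
    have h2 : (y : G) ^ Nat.card H = 1 := hE'pow y y.2
    have h3 : q ∣ Nat.card H := by
      rw [← hy, ← Subgroup.orderOf_coe]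
      exact orderOf_dvd_of_pow_eq_one h2
    exact (Nat.Prime.coprime_iff_not_dvd hq).mp (Nat.Coprime.coprime_dvd_left h3 hHall) hq2
  obtain ⟨g₀, hg₀⟩ := helem E' p hp hE'el hE'card
  obtain ⟨Φ, hΦ⟩ : ∃ Φ : E →* H, ∀ e : E, ((Φ e : H) : G) = g₀ * (e : G) ^ a * g₀⁻¹ :=
    ⟨((MulAut.conj g₀).toMonoidHom.comp (E.subtype.comp ψ)).codRestrict H
      (fun e => hg₀ (Subgroup.mem_map_of_mem _ (hE'mem e))),
      fun e => by
        simp only [MonoidHom.codRestrict_apply, MonoidHom.coe_comp, Function.comp_apply,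
          MulEquiv.coe_toMonoidHom, MulAut.conj_apply, Subgroup.coe_subtype, hψ e,
          Subgroup.coe_pow]⟩
  have hΦ2 : (fun e : E => (θ ∘ pt) e) = θ ∘ Φ := by
    funext e
    simp only [Function.comp_apply]
    have h3 := pt_eval hfus hpt hθc (e : G) (Φ e).2 (w := (Φ e : G))
      (isConj_iff.mpr ⟨g₀, (hΦ e).symm⟩)
    simpa using h3
  rw [hΦ2]
  exact isGen_of_char (IsCharacter.comp hθ Φ)

theorem pt_isometry (hfus : ∀ x ∈ H, ∀ y ∈ H, IsConj x y → ∃ h ∈ H, h * x * h⁻¹ = y)
    (hpt : ∀ g : G, ∃ k : G, k * g ^ a * k⁻¹ = (pt g : G)) (hH : ∀ x ∈ H, x ^ a = x)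
    (hgen : ∀ θ : IrrCharacter H, IsGeneralizedCharacter G ((θ : H → ℂ) ∘ pt))
    {β : H → ℂ} (hβ : IsClassFunction H β) :
    classInner (β ∘ pt) (fun _ : G => (1 : ℂ)) = classInner β (fun _ : H => (1 : ℂ)) := by
  classical
  haveI : Fintype (IrrCharacter H) := irrFintype
  have hneG : (Nat.card G : ℂ) ≠ 0 := by
    have := Nat.card_pos (α := G)
    exact_mod_cast this.ne'
  have hneH : (Nat.card H : ℂ) ≠ 0 := by
    have := Nat.card_pos (α := H)
    exact_mod_cast this.ne'
  have h1G : IsGeneralizedCharacter G (fun _ : G => (1 : ℂ)) :=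
    isGen_of_char (IsIrrCharacter.isCharacter CharBasic.irr_trivial)
  choose n hn using fun θ : IrrCharacter H =>
    Cfsg.Agent.Lib.Helper10.Virt.gen_classInner_int (hgen θ) h1G
  obtain ⟨c, hcdef⟩ : ∃ c : H → ℂ, c = ∑ θ : IrrCharacter H, (n θ : ℂ) • (θ : H → ℂ) :=
    ⟨_, rfl⟩
  have hcl : IsClassFunction H c := by
    rw [hcdef]
    exact isClassFunction_sum _ _
      (fun θ _ => isClassFunction_smul _ (IsIrrCharacter.isClassFunction θ.2))
  have claim1 : ∀ β : H → ℂ, IsClassFunction H β →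
      classInner (β ∘ pt) (fun _ : G => (1 : ℂ)) = classInner β c := by
    intro β hβ
    obtain ⟨b, hb⟩ : ∃ b : IrrCharacter H → ℂ, β = ∑ θ : IrrCharacter H, b θ • (θ : H → ℂ) :=
      ⟨_, classFunction_expansion hβ⟩
    have e1 : β ∘ pt = ∑ θ : IrrCharacter H, b θ • ((θ : H → ℂ) ∘ pt) := by
      funext g
      rw [hb]
      simp only [Function.comp_apply, Finset.sum_apply, Pi.smul_apply]
    rw [e1, classInner_sum_left, hb, classInner_sum_left]
    refine Finset.sum_congr rfl (fun θ _ => ?_)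
    rw [classInner_smul_left, hn θ, classInner_smul_left, hcdef, classInner_sum_right,
      Finset.sum_eq_single θ]
    · rw [classInner_smul_right, classInner_irr_self θ.2, map_intCast, mul_one]
    · intro φ _ hφ
      rw [classInner_smul_right,
        classInner_irr_ne θ.2 φ.2 (fun h => hφ (Subtype.ext h).symm), mul_zero]
    · intro h; exact absurd (Finset.mem_univ _) h
  have hint : ∀ w : H, IsIntegral ℤ (c w) := by
    intro w
    rw [hcdef, Finset.sum_apply]
    refine IsIntegral.sum _ (fun θ _ => ?_)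
    rw [Pi.smul_apply, smul_eq_mul]
    refine IsIntegral.mul ?_ (CharBasic.char_isIntegral (IsIrrCharacter.isCharacter θ.2) w)
    have h2 : IsIntegral ℤ (algebraMap ℤ ℂ (n θ)) := isIntegral_algebraMap
    simpa using h2
  have hpos : ∀ w : H, ∃ z : ℤ, 1 ≤ z ∧ c w = (z : ℂ) := by
    intro w
    obtain ⟨βw, hβw⟩ : ∃ βw : H → ℂ, βw = fun x => if IsConj x w then 1 else 0 := ⟨_, rfl⟩
    have hβcl : IsClassFunction H βw := by
      intro x k
      rw [hβw]
      have h2 : IsConj (k * x * k⁻¹) w ↔ IsConj x w := by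
        have h1 : IsConj x (k * x * k⁻¹) := isConj_iff.mpr ⟨k, rfl⟩
        exact ⟨fun h => h1.trans h, fun h => h1.symm.trans h⟩
      simp only [h2]
    have h1 := claim1 βw hβcl
    obtain ⟨N, hN⟩ : ∃ N : ℕ, N = (Finset.univ.filter (fun g : G => IsConj (pt g) w)).card :=
      ⟨_, rfl⟩
    obtain ⟨M, hM⟩ : ∃ M : ℕ, M = (Finset.univ.filter (fun x : H => IsConj x w)).card :=
      ⟨_, rfl⟩
    have hL : classInner (βw ∘ pt) (fun _ : G => (1 : ℂ)) = (Nat.card G : ℂ)⁻¹ * (N : ℂ) := by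
      rw [hβw, hN]
      simp only [classInner, Function.comp_apply, map_one, mul_one]
      rw [Finset.sum_boole]
    have hR : classInner βw c = (Nat.card H : ℂ)⁻¹ * ((M : ℂ) * conj (c w)) := by
      rw [hβw, hM]
      simp only [classInner]
      congr 1
      have h2 : ∀ x : H, (if IsConj x w then (1 : ℂ) else 0) * conj (c x)
          = if IsConj x w then conj (c w) else 0 := by
        intro x
        by_cases hx : IsConj x w
        · rw [if_pos hx, if_pos hx, one_mul, IsClassFunction.eq_of_isConj hcl hx]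
        · rw [if_neg hx, if_neg hx, zero_mul]
      rw [Finset.sum_congr rfl (fun x _ => h2 x), Finset.sum_ite, Finset.sum_const,
        Finset.sum_const_zero, add_zero, nsmul_eq_mul]
    have hNpos : 0 < N := by
      rw [hN, Finset.card_pos]
      refine ⟨(w : G), ?_⟩
      rw [Finset.mem_filter]
      refine ⟨Finset.mem_univ _, ?_⟩
      have h3 := pt_restrict hfus hpt hH hβcl w
      rw [hβw] at h3
      simp only [IsConj.refl, if_true] at h3
      by_contra hcon
      rw [if_neg hcon] at h3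
      exact zero_ne_one h3
    have hMpos : 0 < M := by
      rw [hM, Finset.card_pos]
      exact ⟨w, by rw [Finset.mem_filter]; exact ⟨Finset.mem_univ _, IsConj.refl w⟩⟩
    rw [hL, hR] at h1
    have hMne : (M : ℂ) ≠ 0 := by exact_mod_cast hMpos.ne'
    have h4 : conj (c w) = (((Nat.card H * N : ℕ) : ℚ) / ((Nat.card G * M : ℕ) : ℚ) : ℚ) := by
      push_cast
      field_simp
      field_simp at h1
      linear_combination (-1 : ℂ) * h1
    obtain ⟨q, hq⟩ : ∃ q : ℚ, q = ((Nat.card H * N : ℕ) : ℚ) / ((Nat.card G * M : ℕ) : ℚ) :=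
      ⟨_, rfl⟩
    rw [← hq] at h4
    have hqpos : 0 < q := by
      rw [hq]
      apply div_pos
      · exact_mod_cast Nat.mul_pos Nat.card_pos hNpos
      · exact_mod_cast Nat.mul_pos Nat.card_pos hMpos
    have h5 : c w = (q : ℂ) := by
      have h6 := congrArg conj h4
      rw [Complex.conj_conj] at h6
      rw [h6]
      simp
    have h7 : IsIntegral ℤ (q : ℂ) := by rw [← h5]; exact hint w
    have h8 : IsIntegral ℤ q := by
      have h9 : (q : ℂ) = algebraMap ℚ ℂ q := by simp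
      rw [h9] at h7
      exact (isIntegral_algebraMap_iff (algebraMap ℚ ℂ).injective).mp h7
    obtain ⟨y, hy⟩ := IsIntegrallyClosed.isIntegral_iff.mp h8
    have hy' : (y : ℚ) = q := by simpa using hy
    refine ⟨y, ?_, ?_⟩
    · have h10 : (0 : ℚ) < (y : ℚ) := by rw [hy']; exact hqpos
      have h11 : 0 < y := by exact_mod_cast h10
      omega
    · rw [h5, ← hy']
      simp
  choose z hz1 hz using hpos
  have hsum : ∑ w : H, (z w : ℂ) = (Nat.card H : ℂ) := by
    have h1 := claim1 (fun _ => 1) (fun _ _ => rfl)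
    have hL : classInner ((fun _ : H => (1 : ℂ)) ∘ pt) (fun _ : G => (1 : ℂ)) = 1 := by
      simp only [classInner, Function.comp_apply, map_one, mul_one, Finset.sum_const,
        Finset.card_univ, nsmul_eq_mul]
      rw [← Nat.card_eq_fintype_card, inv_mul_cancel₀ hneG]
    rw [hL] at h1
    simp only [classInner, one_mul] at h1
    have h2 : ∑ x : H, conj (c x) = ∑ w : H, (z w : ℂ) :=
      Finset.sum_congr rfl (fun x _ => by rw [hz x, map_intCast])
    rw [h2] at h1
    field_simp at h1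
    exact h1.symm
  have hsumZ : ∑ w : H, z w = (Nat.card H : ℤ) := by exact_mod_cast hsum
  have hz1' : ∀ w : H, z w = 1 := by
    have h3 : ∑ w : H, (z w - 1) = 0 := by
      rw [Finset.sum_sub_distrib, hsumZ]
      simp [Nat.card_eq_fintype_card]
    have h4 := (Finset.sum_eq_zero_iff_of_nonneg (fun w _ => by linarith [hz1 w])).mp h3
    intro w
    linarith [h4 w (Finset.mem_univ w)]
  have hc1 : c = fun _ => 1 := by
    funext w
    rw [hz w, hz1' w]
    simp
  rw [claim1 β hβ, hc1]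

end bs

section main

variable {G : Type u} [Group G] [Fintype G]

/-- The Brauer–Suzuki criterion: a Hall subgroup that controls its own fusion and contains a
conjugate of every elementary subgroup of order dividing its own has a normal complement. -/
theorem brauer_suzuki (H : Subgroup G) (hHall : Nat.Coprime (Nat.card H) H.index)
    (hfus : ∀ x ∈ H, ∀ y ∈ H, IsConj x y → ∃ h ∈ H, h * x * h⁻¹ = y)
    (helem : ∀ (E : Subgroup G) (p : ℕ), p.Prime → IsElementary p E →
      Nat.card E ∣ Nat.card H → ∃ g : G, E.map (MulAut.conj g).toMonoidHom ≤ H) :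
    ∃ K : Subgroup G, K.Normal ∧ K ⊔ H = ⊤ ∧ K ⊓ H = ⊥ := by
  classical
  haveI : Fintype H := Fintype.ofFinite H
  haveI : Fintype (IrrCharacter H) := irrFintype
  have hneG : (Nat.card G : ℂ) ≠ 0 := by
    have := Nat.card_pos (α := G)
    exact_mod_cast this.ne'
  have hneH : (Nat.card H : ℂ) ≠ 0 := by
    have := Nat.card_pos (α := H)
    exact_mod_cast this.ne'
  have hcardG : Nat.card G = Nat.card H * H.index := (Subgroup.card_mul_index H).symm
  obtain ⟨a, ha1, ha0⟩ := Nat.chineseRemainder hHall 1 0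
  have hH : ∀ x ∈ H, x ^ a = x := by
    intro x hx
    have h1 : orderOf x ∣ Nat.card H := by
      have h2 := orderOf_dvd_natCard (⟨x, hx⟩ : H)
      rwa [Subgroup.orderOf_mk] at h2
    have h2 : a ≡ 1 [MOD orderOf x] := Nat.ModEq.of_dvd h1 ha1
    have h3 := pow_eq_pow_iff_modEq.mpr h2
    rw [h3, pow_one]
  have hpowH : ∀ g : G, (g ^ a) ^ Nat.card H = 1 := by
    intro g
    obtain ⟨t, ht⟩ := (Nat.modEq_zero_iff_dvd).mp ha0
    have e1 : a * Nat.card H = t * Nat.card G := by rw [ht, hcardG]; ring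
    rw [← pow_mul, e1, pow_mul, pow_card_eq_one']
  have hex : ∀ g : G, ∃ k : G, k * g ^ a * k⁻¹ ∈ H := by
    intro g
    obtain ⟨p, hpge, hp⟩ := Nat.exists_infinite_primes (orderOf (g ^ a) + 1)
    have hcop : (orderOf (g ^ a)).Coprime p := by
      rw [Nat.coprime_comm]
      refine (Nat.Prime.coprime_iff_not_dvd hp).mpr (fun hd => ?_)
      have h1 := Nat.le_of_dvd (orderOf_pos _) hd
      omega
    have hel : IsElementary p (Subgroup.zpowers (g ^ a)) := cyclic_elementary (g ^ a) hcop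
    have hcard : Nat.card (Subgroup.zpowers (g ^ a)) ∣ Nat.card H := by
      rw [Nat.card_zpowers]
      exact orderOf_dvd_of_pow_eq_one (hpowH g)
    obtain ⟨k, hk⟩ := helem _ p hp hel hcard
    exact ⟨k, hk ⟨g ^ a, Subgroup.mem_zpowers _, rfl⟩⟩
  choose cj hcj using hex
  obtain ⟨pt, hptdef⟩ : ∃ pt : G → H, pt = fun g => ⟨cj g * g ^ a * (cj g)⁻¹, hcj g⟩ :=
    ⟨_, rfl⟩
  have hpt : ∀ g : G, ∃ k : G, k * g ^ a * k⁻¹ = (pt g : G) := by
    intro g
    exact ⟨cj g, by rw [hptdef]⟩
  have hpt1 : ∀ g : G, pt g = 1 ↔ g ^ a = 1 := by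
    intro g
    obtain ⟨k, hk⟩ := hpt g
    constructor
    · intro h
      rw [h] at hk
      have e : g ^ a = k⁻¹ * (k * g ^ a * k⁻¹) * k := by group
      rw [e, hk]
      simp
    · intro h
      apply Subtype.ext
      rw [← hk, h]
      simp
  have hgen : ∀ θ : IrrCharacter H, IsGeneralizedCharacter G ((θ : H → ℂ) ∘ pt) :=
    fun θ => pt_isGen hHall hfus helem hpt ha1 ha0 (IsIrrCharacter.isCharacter θ.2)
  have hiso : ∀ β : H → ℂ, IsClassFunction H β →
      classInner (β ∘ pt) (fun _ : G => (1 : ℂ)) = classInner β (fun _ : H => (1 : ℂ)) :=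
    fun β hβ => pt_isometry hfus hpt hH hgen hβ
  have hirr : ∀ θ : IrrCharacter H, IsIrrCharacter G ((θ : H → ℂ) ∘ pt) := by
    intro θ
    have hθcl := IsIrrCharacter.isClassFunction θ.2
    have hnorm : classInner ((θ : H → ℂ) ∘ pt) ((θ : H → ℂ) ∘ pt) = 1 := by
      have hβcl : IsClassFunction H (fun x => (θ : H → ℂ) x * conj ((θ : H → ℂ) x)) := by
        intro x k
        simp only
        rw [hθcl x k]
      have h1 := hiso _ hβcl
      have h2 : classInner ((θ : H → ℂ) ∘ pt) ((θ : H → ℂ) ∘ pt)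
          = classInner ((fun x => (θ : H → ℂ) x * conj ((θ : H → ℂ) x)) ∘ pt)
              (fun _ : G => (1 : ℂ)) := by
        simp only [classInner, Function.comp_apply, map_one, mul_one]
      have h3 : classInner (fun x => (θ : H → ℂ) x * conj ((θ : H → ℂ) x))
          (fun _ : H => (1 : ℂ)) = classInner (θ : H → ℂ) (θ : H → ℂ) := by
        simp only [classInner, map_one, mul_one]
      rw [h2, h1, h3, classInner_irr_self θ.2]
    obtain ⟨ε, ψ, hε, hψ, heq⟩ := Cfsg.Agent.Lib.Helper10.Virt.norm_one_virtual (hgen θ) hnorm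
    rcases hε with rfl | rfl
    · rw [heq, one_smul]; exact hψ
    · exfalso
      have h1 := congrFun heq 1
      simp only [Function.comp_apply, Pi.smul_apply, smul_eq_mul] at h1
      rw [pt_one hfus hpt hθcl] at h1
      obtain ⟨n1, hn1, e1⟩ := IsIrrCharacter.degree_pos θ.2
      obtain ⟨n2, hn2, e2⟩ := IsIrrCharacter.degree_pos hψ
      rw [e1, e2] at h1
      have h2 : ((n1 + n2 : ℕ) : ℂ) = 0 := by
        push_cast
        linear_combination h1
      have h3 := Nat.cast_eq_zero.mp h2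
      omega
  have hchar : ∀ θ : IrrCharacter H, IsCharacter G ((θ : H → ℂ) ∘ pt) :=
    fun θ => IsIrrCharacter.isCharacter (hirr θ)
  obtain ⟨K, hKdef⟩ : ∃ K : Subgroup G, K = ⨅ θ : IrrCharacter H, charKer _ (hchar θ) :=
    ⟨_, rfl⟩
  have hKmem : ∀ g : G, g ∈ K ↔ g ^ a = 1 := by
    intro g
    rw [hKdef, Subgroup.mem_iInf, ← hpt1]
    constructor
    · intro h
      apply eq_one_of_forall_irr_eq
      intro θ
      have h2 := (mem_charKer (hchar θ)).mp (h θ)
      simp only [Function.comp_apply] at h2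
      rw [h2, pt_one hfus hpt (IsIrrCharacter.isClassFunction θ.2)]
    · intro h θ
      rw [mem_charKer]
      simp only [Function.comp_apply]
      rw [pt_one hfus hpt (IsIrrCharacter.isClassFunction θ.2), h]
  have hKn : K.Normal := by
    rw [hKdef]
    exact Subgroup.normal_iInf_normal (fun θ => charKer_normal (hchar θ))
  have hinf : K ⊓ H = ⊥ := by
    rw [eq_bot_iff]
    rintro x ⟨hxK, hxH⟩
    rw [Subgroup.mem_bot, ← hH x hxH]
    exact (hKmem x).mp hxK
  have hcard : Nat.card K * Nat.card H = Nat.card G := by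
    obtain ⟨r, hr⟩ : ∃ r : H → ℂ, r = fun x => if x = 1 then (Nat.card H : ℂ) else 0 :=
      ⟨_, rfl⟩
    have hrcl : IsClassFunction H r := by
      intro x k
      rw [hr]
      have h2 : k * x * k⁻¹ = 1 ↔ x = 1 := by
        constructor
        · intro h
          have e : x = k⁻¹ * (k * x * k⁻¹) * k := by group
          rw [e, h]; group
        · rintro rfl; group
      simp only [h2]
    have h1 := hiso r hrcl
    have hL : classInner (r ∘ pt) (fun _ : G => (1 : ℂ))
        = (Nat.card G : ℂ)⁻¹ * ((Nat.card K : ℂ) * (Nat.card H : ℂ)) := by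
      rw [hr]
      simp only [classInner, Function.comp_apply, map_one, mul_one]
      congr 1
      have h2 : ∀ g : G, (if pt g = 1 then (Nat.card H : ℂ) else 0)
          = if g ∈ K then (Nat.card H : ℂ) else 0 := by
        intro g
        have h3 : pt g = 1 ↔ g ∈ K := by rw [hKmem, hpt1]
        simp only [h3]
      rw [Finset.sum_congr rfl (fun g _ => h2 g), Finset.sum_ite, Finset.sum_const,
        Finset.sum_const_zero, add_zero, nsmul_eq_mul]
      congr 1
      rw [Nat.card_eq_fintype_card, Fintype.card_subtype]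
    have hR : classInner r (fun _ : H => (1 : ℂ)) = 1 := by
      rw [hr]
      simp only [classInner, map_one, mul_one, Finset.sum_ite_eq', Finset.mem_univ, if_true]
      rw [inv_mul_cancel₀ hneH]
    rw [hL, hR] at h1
    have h3 : (Nat.card K : ℂ) * (Nat.card H : ℂ) = (Nat.card G : ℂ) := by
      field_simp at h1
      linear_combination h1
    exact_mod_cast h3
  refine ⟨K, hKn, ?_, hinf⟩
  have hdisj : Disjoint K H := disjoint_iff.mpr hinf
  exact (Subgroup.isComplement'_of_card_mul_and_disjoint hcard hdisj).sup_eq_top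

end main

end Cfsg.Agent.Lib.Helper25.BS
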