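import Mathlib
import Cfsg.Agent.Lib.Helper25.BrauerSuzuki

/-!
Brauer's characterisation of characters with algebraic-integer coefficients (inner product
form) and the section functions of Brauer–Suzuki.
-/

set_option autoImplicit false

namespace Cfsg.Agent.Lib.Helper25.BS

open Cfsg Cfsg.Agent.Lib.Helper1 Cfsg.Agent.Lib.Helper24 Cfsg.Agent.Lib.Helper25.Brauer
open scoped ComplexConjugate

universe u

section alg

variable {G : Type u} [Group G] [Fintype G]

/-- Brauer's characterisation with algebraic integer coefficients, in inner product form: if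
all inner products of the restrictions of a class function `ϑ` to elementary subgroups with
characters are algebraic integers, then so are the inner products of `ϑ` with characters. -/
theorem isIntegral_classInner_of_elem {ϑ : G → ℂ} (hϑ : IsClassFunction G ϑ)
    (hE : ∀ (E : Subgroup G) [Fintype E] (p : ℕ), p.Prime → IsElementary p E →
      ∀ ψ : E → ℂ, IsCharacter E ψ → IsIntegral ℤ (classInner (fun e : E => ϑ e) ψ))
    {χ : G → ℂ} (hχ : IsCharacter G χ) : IsIntegral ℤ (classInner ϑ χ) := by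
  classical
  have key : ∀ F ∈ MonAll G, ∀ χ : G → ℂ, IsCharacter G χ →
      IsIntegral ℤ (classInner (ϑ * F) χ) := by
    intro F hF
    unfold MonAll at hF
    induction hF using AddSubgroup.closure_induction with
    | mem F hF =>
      obtain ⟨E, lam, ⟨p, hp, hEl⟩, rfl⟩ := hF
      intro χ hχ
      haveI : Fintype E := Fintype.ofFinite E
      rw [indFun_mul E _ hϑ, frobenius_reciprocity E _ (IsCharacter.isClassFunction hχ)]
      have hlam : IsCharacter E (fun e => ((lam e : ℂˣ) : ℂ)) :=
        IsIrrCharacter.isCharacter (isIrrCharacter_of_monoidHom lam)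
      have hψ : IsCharacter E ((fun e => conj ((lam e : ℂˣ) : ℂ)) * (fun e : E => χ e)) :=
        IsCharacter.mul (IsCharacter.conj hlam) (IsCharacter.restrict hχ E)
      have e1 : classInner ((fun e : E => ϑ e) * (fun e => ((lam e : ℂˣ) : ℂ)))
          (fun e : E => χ e)
          = classInner (fun e : E => ϑ e)
              ((fun e => conj ((lam e : ℂˣ) : ℂ)) * (fun e : E => χ e)) := by
        simp only [classInner, Pi.mul_apply, map_mul, Complex.conj_conj]
        congr 1
        refine Finset.sum_congr rfl (fun e _ => ?_)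
        ring
      rw [e1]
      exact hE E p hp hEl _ hψ
    | zero =>
      intro χ _
      rw [mul_zero, classInner_zero_left]
      exact isIntegral_zero
    | add x y _ _ hx hy =>
      intro χ hχ
      rw [mul_add, classInner_add_left]
      exact IsIntegral.add (hx χ hχ) (hy χ hχ)
    | neg x _ hx =>
      intro χ hχ
      rw [mul_neg, Cfsg.Agent.Lib.Helper10.Virt.classInner_neg_left]
      exact IsIntegral.neg (hx χ hχ)
  have h := key _ (one_mem_MonAll (G := G)) χ hχ
  have e : ϑ * (fun _ : G => (1 : ℂ)) = ϑ := by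
    funext x
    simp
  rwa [e] at h

/-- The local computation for the section function. -/
theorem section_local (m n : ℕ) (hmn : Nat.card G = m * n) (hcop : Nat.Coprime m n) (g : G)
    (b : ℕ) (hb0 : b ≡ 0 [MOD m]) (hb1 : b ≡ 1 [MOD n])
    (ϑ : G → ℂ) (hϑ1 : ∀ x, IsConj (x ^ b) g → ϑ x = (n : ℂ))
    (hϑ0 : ∀ x, ¬ IsConj (x ^ b) g → ϑ x = 0)
    (E : Subgroup G) [Fintype E] (p : ℕ) (hp : p.Prime) (hE : IsElementary p E) (ψ : E → ℂ)
    (hψ : IsCharacter E ψ) : IsIntegral ℤ (classInner (fun e : E => ϑ e) ψ) := by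
  classical
  have hϑ : ∀ x, ϑ x = if IsConj (x ^ b) g then (n : ℂ) else 0 := by
    intro x
    by_cases hc : IsConj (x ^ b) g
    · rw [if_pos hc]; exact hϑ1 x hc
    · rw [if_neg hc]; exact hϑ0 x hc
  haveI : Fact p.Prime := ⟨hp⟩
  haveI hnil : Group.IsNilpotent E := IsElementary.nilpotent hE
  have hEdvd : Nat.card E ∣ n * m := by
    rw [mul_comm, ← hmn]; exact Subgroup.card_subgroup_dvd_card E
  have hbb : ∀ x : G, (x ^ b) ^ b = x ^ b := by
    intro x
    rw [← pow_mul]
    apply pow_eq_pow_iff_modEq.mpr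
    have h1 : b * b ≡ b [MOD m * n] := by
      apply (Nat.modEq_and_modEq_iff_modEq_mul hcop).mp
      constructor
      · have h2 := hb0.mul hb0
        exact h2.trans hb0.symm
      · have h2 := hb1.mul hb1
        exact h2.trans hb1.symm
    refine Nat.ModEq.of_dvd ?_ h1
    rw [← hmn]
    exact orderOf_dvd_natCard x
  obtain ⟨ψb, hψb⟩ : ∃ ψb : E →* E, ∀ e : E, ψb e = e ^ b :=
    ⟨{ toFun := fun e => e ^ b
       map_one' := one_pow b
       map_mul' := pow_mul_of_nilpotent n m b hcop.symm hEdvd hb1 hb0 },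
      fun e => rfl⟩
  haveI : Fintype ψb.range := Fintype.ofFinite _
  haveI : Fintype (IrrCharacter ψb.range) := irrFintype
  obtain ⟨ϑB, hϑB⟩ : ∃ ϑB : ψb.range → ℂ, ϑB = fun v : ψb.range => ϑ ((v : E) : G) := ⟨_, rfl⟩
  have hcomp : (fun e : E => ϑ e) = ϑB ∘ ψb.rangeRestrict := by
    funext e
    rw [hϑB]
    simp only [Function.comp_apply, MonoidHom.coe_rangeRestrict, hψb e, Subgroup.coe_pow]
    rw [hϑ, hϑ, hbb]
  have hcl : IsClassFunction ψb.range ϑB := by
    intro v k
    rw [hϑB]
    simp only [Subgroup.coe_mul, Subgroup.coe_inv]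
    rw [hϑ, hϑ, conj_pow]
    have h2 : IsConj (((k : E) : G) * ((v : E) : G) ^ b * ((k : E) : G)⁻¹) g
        ↔ IsConj (((v : E) : G) ^ b) g := by
      have h1 : IsConj (((v : E) : G) ^ b) (((k : E) : G) * ((v : E) : G) ^ b * ((k : E) : G)⁻¹) :=
        isConj_iff.mpr ⟨_, rfl⟩
      exact ⟨fun h => h1.trans h, fun h => h1.symm.trans h⟩
    simp only [h2]
  have hexp := classFunction_expansion hcl
  have hBpow : ∀ v : ψb.range, ((v : E) : G) ^ n = 1 := by
    intro v
    obtain ⟨e, he⟩ := v.2
    have hv : ((v : E) : G) = (e : G) ^ b := by rw [← he, hψb e, Subgroup.coe_pow]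
    obtain ⟨t, ht⟩ := (Nat.modEq_zero_iff_dvd).mp hb0
    have e1 : b * n = t * Nat.card G := by rw [ht, hmn]; ring
    rw [hv, ← pow_mul, e1, pow_mul, pow_card_eq_one']
  have hBfix : ∀ v : ψb.range, ((v : E) : G) ^ b = ((v : E) : G) := by
    intro v
    obtain ⟨e, he⟩ := v.2
    have hv : ((v : E) : G) = (e : G) ^ b := by rw [← he, hψb e, Subgroup.coe_pow]
    rw [hv, hbb]
  have hBcard : Nat.card ψb.range ∣ n := by
    have h1 : Nat.card ψb.range ∣ n * m :=
      dvd_trans (Subgroup.card_subgroup_dvd_card _) hEdvd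
    refine Nat.Coprime.dvd_of_dvd_mul_right ?_ h1
    by_contra hnc
    obtain ⟨q, hq, hq1, hq2⟩ := Nat.Prime.not_coprime_iff_dvd.mp hnc
    haveI : Fact q.Prime := ⟨hq⟩
    obtain ⟨y, hy⟩ := exists_prime_orderOf_dvd_card' q hq1
    have h3 : q ∣ n := by
      rw [← hy, ← Subgroup.orderOf_coe, ← Subgroup.orderOf_coe]
      exact orderOf_dvd_of_pow_eq_one (hBpow y)
    exact (Nat.Prime.coprime_iff_not_dvd hq).mp (Nat.Coprime.coprime_dvd_left h3 hcop.symm) hq2
  obtain ⟨t, ht⟩ := hBcard
  have hneB : (Nat.card ψb.range : ℂ) ≠ 0 := by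
    have := Nat.card_pos (α := ψb.range)
    exact_mod_cast this.ne'
  have hcoef : ∀ β : IrrCharacter ψb.range,
      IsIntegral ℤ (classInner ϑB (β : ψb.range → ℂ)) := by
    intro β
    have h1 : classInner ϑB (β : ψb.range → ℂ)
        = ∑ v : ψb.range, (if IsConj ((v : E) : G) g then (t : ℂ) else 0)
            * conj ((β : ψb.range → ℂ) v) := by
      simp only [classInner]
      rw [Finset.mul_sum]
      refine Finset.sum_congr rfl (fun v _ => ?_)
      rw [hϑB]
      simp only
      rw [hϑ, hBfix v]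
      by_cases hc : IsConj ((v : E) : G) g
      · rw [if_pos hc, if_pos hc, ht]
        push_cast
        field_simp
      · rw [if_neg hc, if_neg hc]
        ring
    rw [h1]
    refine IsIntegral.sum _ (fun v _ => ?_)
    refine IsIntegral.mul ?_ ?_
    · by_cases hc : IsConj ((v : E) : G) g
      · rw [if_pos hc]
        have h2 : IsIntegral ℤ (algebraMap ℤ ℂ (t : ℤ)) := isIntegral_algebraMap
        simpa using h2
      · rw [if_neg hc]
        exact isIntegral_zero
    · exact CharBasic.char_isIntegral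
        (IsCharacter.conj (IsIrrCharacter.isCharacter β.2)) v
  have e2 : (fun e : E => ϑ e) = ∑ β : IrrCharacter ψb.range,
      classInner ϑB (β : ψb.range → ℂ) • ((β : ψb.range → ℂ) ∘ ψb.rangeRestrict) := by
    rw [hcomp]
    funext e
    have h2 := congrFun hexp (ψb.rangeRestrict e)
    simp only [Function.comp_apply, Finset.sum_apply, Pi.smul_apply] at h2 ⊢
    exact h2
  rw [e2, classInner_sum_left]
  refine IsIntegral.sum _ (fun β _ => ?_)
  rw [classInner_smul_left]
  refine IsIntegral.mul (hcoef β) ?_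
  obtain ⟨k, hk⟩ := IsCharacter.classInner_nat
    (IsCharacter.comp (IsIrrCharacter.isCharacter β.2) ψb.rangeRestrict) hψ
  rw [hk]
  have h2 : IsIntegral ℤ (algebraMap ℤ ℂ (k : ℤ)) := isIntegral_algebraMap
  simpa using h2

/-- The section function of Brauer–Suzuki has algebraic integer inner products with all
characters. -/
theorem section_integral (m n : ℕ) (hmn : Nat.card G = m * n) (hcop : Nat.Coprime m n) (g : G)
    (b : ℕ) (hb0 : b ≡ 0 [MOD m]) (hb1 : b ≡ 1 [MOD n])
    (ϑ : G → ℂ) (hϑ1 : ∀ x, IsConj (x ^ b) g → ϑ x = (n : ℂ))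
    (hϑ0 : ∀ x, ¬ IsConj (x ^ b) g → ϑ x = 0)
    {χ : G → ℂ} (hχ : IsCharacter G χ) : IsIntegral ℤ (classInner ϑ χ) := by
  classical
  have hϑ : ∀ x, ϑ x = if IsConj (x ^ b) g then (n : ℂ) else 0 := by
    intro x
    by_cases hc : IsConj (x ^ b) g
    · rw [if_pos hc]; exact hϑ1 x hc
    · rw [if_neg hc]; exact hϑ0 x hc
  have hcl : IsClassFunction G ϑ := by
    intro x k
    rw [hϑ, hϑ, conj_pow]
    have h2 : IsConj (k * x ^ b * k⁻¹) g ↔ IsConj (x ^ b) g := by
      have h1 : IsConj (x ^ b) (k * x ^ b * k⁻¹) := isConj_iff.mpr ⟨_, rfl⟩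
      exact ⟨fun h => h1.trans h, fun h => h1.symm.trans h⟩
    simp only [h2]
  exact isIntegral_classInner_of_elem hcl
    (fun E _ p hp hE ψ hψ => section_local m n hmn hcop g b hb0 hb1 ϑ hϑ1 hϑ0 E p hp hE ψ hψ) hχ

end alg

end Cfsg.Agent.Lib.Helper25.BS
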