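import Mathlib
import Cfsg.Prelude.Def_Transfer
import Cfsg.Agent.Lib.Helper20.ESpecial
import Cfsg.Agent.Lib.Helper25.ExS5C

namespace Cfsg.Agent.Lib.Helper25.ExS5

open Cfsg
open scoped commutatorElement

variable {P : Type*} [Group P]

theorem es_of_extraspecial [Finite P] (hex : Cfsg.IsExtraspecial 2 P) : ∃ z : P, ES z := by
  obtain ⟨⟨hp, hfr, hcm⟩, hc2⟩ := hex
  haveI : Fact (Nat.Prime 2) := ⟨Nat.prime_two⟩
  obtain ⟨y, hy1, hyu⟩ := (Nat.card_eq_two_iff' (1 : Subgroup.center P)).mp hc2
  have hctr : ∀ c : P, (∀ g : P, c * g = g * c) → c = 1 ∨ c = (y : P) := by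
    intro c hc
    have hcm' : c ∈ Subgroup.center P := Subgroup.mem_center_iff.mpr (fun g => (hc g).symm)
    by_cases h1 : c = 1
    · exact Or.inl h1
    · right
      have h2 : (⟨c, hcm'⟩ : Subgroup.center P) = y :=
        hyu ⟨c, hcm'⟩ (fun h => h1 (congrArg Subtype.val h))
      exact congrArg Subtype.val h2
  have hcen : ∀ g : P, (y : P) * g = g * (y : P) :=
    fun g => (Subgroup.mem_center_iff.mp y.2 g).symm
  have hne : (y : P) ≠ 1 := fun h => hy1 (Subtype.ext h)
  have hmem : ∀ c : P, c ∈ Subgroup.center P → c = 1 ∨ c = (y : P) := fun c hc =>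
    hctr c (fun g => (Subgroup.mem_center_iff.mp hc g).symm)
  refine ⟨(y : P), hne, ?_, hcen, hctr, ?_, ?_⟩
  · rcases hmem ((y : P) * (y : P)) (Subgroup.mul_mem _ y.2 y.2) with h | h
    · exact h
    · exfalso; apply hne
      exact mul_left_cancel (a := (y : P)) (by rw [h, mul_one])
  · intro g
    have h1 : g ^ 2 ∈ frattini P := Cfsg.Agent.Lib.Helper20.ESpecial.pow_mem_frattini hp g
    rw [hfr, pow_two] at h1
    exact hmem _ h1
  · intro g h
    have h1 : ⁅g, h⁆ ∈ commutator P := by
      rw [commutator_def]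
      exact Subgroup.commutator_mem_commutator (Subgroup.mem_top g) (Subgroup.mem_top h)
    rw [hcm] at h1
    rcases hmem _ h1 with h2 | h2
    · left
      rw [commutatorElement_eq_one_iff_mul_comm] at h2
      exact h2
    · right
      rw [← h2, commutatorElement_def]; group

theorem ea_closure2 (k : Set P) (hcomm : ∀ x ∈ k, ∀ y ∈ k, x * y = y * x)
    (hexp : ∀ x ∈ k, x ^ 2 = 1) :
    Cfsg.IsElementaryAbelian 2 (Subgroup.closure k) := by
  have hc : IsMulCommutative ↥(Subgroup.closure k) := Subgroup.isMulCommutative_closure hcomm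
  refine ⟨hc, ?_⟩
  have hcl := Subgroup.le_centralizer_iff_isMulCommutative.mpr hc
  intro a ha
  induction ha using Subgroup.closure_induction with
  | mem x hx => exact hexp x hx
  | one => exact one_pow 2
  | mul x y hx hy ihx ihy =>
    have h1 : Commute x y := Subgroup.mem_centralizer_iff.mp (hcl hy) x hx
    rw [h1.mul_pow, ihx, ihy, one_mul]
  | inv x hx ih => rw [inv_pow, ih, inv_one]

theorem noE8_of_hminus [Finite P]
    (hminus : ∀ A : Subgroup P, Cfsg.IsElementaryAbelian 2 A → Nat.card ↥A ≤ 4) : NoE8 P := by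
  intro u v w hu hv hw huv huw hvw hu1 hv1 hw1 huv' huw' hvw' huvw
  classical
  have hcomm : ∀ x ∈ ({u, v, w} : Set P), ∀ y ∈ ({u, v, w} : Set P), x * y = y * x := by
    intro x hx y hy
    simp only [Set.mem_insert_iff, Set.mem_singleton_iff] at hx hy
    rcases hx with rfl | rfl | rfl <;> rcases hy with rfl | rfl | rfl
    · rfl
    · exact huv
    · exact huw
    · exact huv.symm
    · rfl
    · exact hvw
    · exact huw.symm
    · exact hvw.symm
    · rfl
  have hexp : ∀ x ∈ ({u, v, w} : Set P), x ^ 2 = 1 := by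
    intro x hx
    simp only [Set.mem_insert_iff, Set.mem_singleton_iff] at hx
    rcases hx with rfl | rfl | rfl
    · rw [pow_two]; exact hu
    · rw [pow_two]; exact hv
    · rw [pow_two]; exact hw
  have hA := hminus (Subgroup.closure ({u, v, w} : Set P)) (ea_closure2 _ hcomm hexp)
  have hu_mem : u ∈ Subgroup.closure ({u, v, w} : Set P) :=
    Subgroup.subset_closure (by simp)
  have hv_mem : v ∈ Subgroup.closure ({u, v, w} : Set P) :=
    Subgroup.subset_closure (by simp)
  have hw_mem : w ∈ Subgroup.closure ({u, v, w} : Set P) :=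
    Subgroup.subset_closure (by simp)
  have hcard5 : ({1, u, v, w, u * v} : Finset P).card = 5 := by
    have d4 : w ∉ ({u * v} : Finset P) := by
      rw [Finset.mem_singleton]; exact fun h => huvw h.symm
    have d3 : v ∉ ({w, u * v} : Finset P) := by
      rw [Finset.mem_insert, Finset.mem_singleton]
      rintro (h | h)
      · exact hvw' h
      · exact hu1 (right_eq_mul.mp h)
    have d2 : u ∉ ({v, w, u * v} : Finset P) := by
      rw [Finset.mem_insert, Finset.mem_insert, Finset.mem_singleton]
      rintro (h | h | h)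
      · exact huv' h
      · exact huw' h
      · exact hv1 (left_eq_mul.mp h)
    have d1 : (1 : P) ∉ ({u, v, w, u * v} : Finset P) := by
      rw [Finset.mem_insert, Finset.mem_insert, Finset.mem_insert, Finset.mem_singleton]
      rintro (h | h | h | h)
      · exact hu1 h.symm
      · exact hv1 h.symm
      · exact hw1 h.symm
      · apply huv'
        have h' : u * v = v * v := by rw [← h, hv]
        exact mul_right_cancel h'
    rw [Finset.card_insert_of_notMem d1, Finset.card_insert_of_notMem d2,
      Finset.card_insert_of_notMem d3, Finset.card_insert_of_notMem d4, Finset.card_singleton]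
  have hS : ∀ x ∈ ({1, u, v, w, u * v} : Finset P),
      x ∈ Subgroup.closure ({u, v, w} : Set P) := by
    intro x hx
    simp only [Finset.mem_insert, Finset.mem_singleton] at hx
    rcases hx with rfl | rfl | rfl | rfl | rfl
    · exact one_mem _
    · exact hu_mem
    · exact hv_mem
    · exact hw_mem
    · exact mul_mem hu_mem hv_mem
  have h5 : 5 ≤ Nat.card (Subgroup.closure ({u, v, w} : Set P)) := by
    have e1 : Nat.card (Subgroup.closure ({u, v, w} : Set P))
        = ((Subgroup.closure ({u, v, w} : Set P) : Subgroup P) : Set P).ncard :=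
      Nat.card_coe_set_eq _
    have e2 : ((({1, u, v, w, u * v} : Finset P) : Set P)).ncard = 5 := by
      rw [Set.ncard_coe_finset, hcard5]
    rw [e1, ← e2]
    exact Set.ncard_le_ncard (fun x hx => hS x (Finset.mem_coe.mp hx)) (Set.toFinite _)
  omega

end Cfsg.Agent.Lib.Helper25.ExS5
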