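import Mathlib
import Cfsg.Prelude.Def_Solvable

set_option autoImplicit false

namespace Cfsg.Agent.Lib.Helper25.FrobLib

universe u

open scoped Pointwise

/-- A group of order `p * d` with `0 < d < p` has a normal subgroup of order `p`. -/
theorem exists_normal_of_card {H : Type u} [Group H] [Finite H] (p d : ℕ) (hp : p.Prime)
    (hd : 0 < d) (hdp : d < p) (hcard : Nat.card H = p * d) :
    ∃ P : Subgroup H, P.Normal ∧ Nat.card P = p := by
  have hfact : Fact p.Prime := ⟨hp⟩
  have hpd : ¬ p ∣ d := fun h => absurd (Nat.le_of_dvd hd h) (by omega)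
  let P : Sylow p H := default
  have hPcard : Nat.card P = p := by
    rw [Sylow.card_eq_multiplicity, hcard, Nat.factorization_mul hp.ne_zero hd.ne',
      Finsupp.add_apply, Nat.Prime.factorization_self hp,
      Nat.factorization_eq_zero_of_not_dvd hpd, pow_one]
  have hPidx : (P : Subgroup H).index = d := by
    have h1 := (P : Subgroup H).card_mul_index
    rw [hPcard, hcard] at h1
    exact Nat.eq_of_mul_eq_mul_left hp.pos h1
  have hn1 : Nat.card (Sylow p H) = 1 := by
    have h1 := card_sylow_modEq_one p H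
    have h2 : Nat.card (Sylow p H) ∣ d := hPidx ▸ Sylow.card_dvd_index P
    have h3 : Nat.card (Sylow p H) ≤ d := Nat.le_of_dvd hd h2
    have h4 : Nat.card (Sylow p H) % p = 1 % p := h1
    rw [Nat.mod_eq_of_lt (by omega), Nat.mod_eq_of_lt hp.one_lt] at h4
    exact h4
  refine ⟨(P : Subgroup H), ?_, hPcard⟩
  rw [← Subgroup.normalizer_eq_top_iff, ← Subgroup.index_eq_one]
  have h1 := Sylow.card_eq_index_normalizer P
  rw [hn1] at h1
  exact h1.symm

theorem mem_conj_smul {G : Type u} [Group G] (H : Subgroup G) (g x : G) :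
    x ∈ MulAut.conj g • H ↔ g⁻¹ * x * g ∈ H := by
  rw [Subgroup.mem_pointwise_smul_iff_inv_smul_mem]
  simp [MulAut.smul_def]

theorem frobenius_of_complement {G : Type u} [Group G] [Finite G] (P H : Subgroup G) [hPn : P.Normal]
    (p : ℕ) (hp : p.Prime) (hPcard : Nat.card P = p) (hc : Subgroup.IsComplement' P H)
    (hH1 : H ≠ ⊥) (hQ : ∀ h ∈ H, (∀ y ∈ P, h * y = y * h) → h = 1) :
    Cfsg.IsFrobeniusComplement H ∧ Nat.card ↥(Cfsg.frobeniusKernel H) = p := by
  have hfact : Fact p.Prime := ⟨hp⟩
  have hdisj : ∀ x : G, x ∈ P → x ∈ H → x = 1 := by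
    intro x hxP hxH
    have h1 : x ∈ P ⊓ H := ⟨hxP, hxH⟩
    rw [hc.disjoint.eq_bot, Subgroup.mem_bot] at h1
    exact h1
  have hdecomp : ∀ g : G, ∃ y ∈ P, ∃ h ∈ H, g = y * h := by
    intro g
    obtain ⟨⟨y, h⟩, hyh, -⟩ := hc.existsUnique g
    exact ⟨y.1, y.2, h.1, h.2, hyh.symm⟩
  -- an element commuting with a nontrivial element of P centralizes P
  have hgen : ∀ y ∈ P, y ≠ 1 → ∀ h : G, h * y = y * h → ∀ z ∈ P, h * z = z * h := by
    intro y hy hy1 h hcomm z hz
    have h1 : Subgroup.zpowers (⟨y, hy⟩ : P) = ⊤ := by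
      apply zpowers_eq_top_of_prime_card hPcard
      intro h2
      exact hy1 (congrArg Subtype.val h2)
    have h2 : (⟨z, hz⟩ : P) ∈ Subgroup.zpowers (⟨y, hy⟩ : P) := h1 ▸ Subgroup.mem_top _
    obtain ⟨k, hk⟩ := Subgroup.mem_zpowers_iff.mp h2
    have h3 : z = y ^ k := by
      have := congrArg Subtype.val hk
      simpa using this.symm
    rw [h3]
    exact (Commute.zpow_right (show Commute h y from hcomm) k).eq
  have hcent1 : ∀ h ∈ H, ∀ y ∈ P, y ≠ 1 → h * y = y * h → h = 1 := by
    intro h hh y hy hy1 hcomm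
    exact hQ h hh (hgen y hy hy1 h hcomm)
  refine ⟨⟨hH1, ?_, ?_⟩, ?_⟩
  · intro htop
    have h1 := hc.card_mul_card
    rw [htop, Subgroup.card_top, hPcard] at h1
    have h2 : 0 < Nat.card G := Nat.card_pos
    have h3 : p * Nat.card G = 1 * Nat.card G := by rw [h1, one_mul]
    have h4 := Nat.eq_of_mul_eq_mul_right h2 h3
    exact hp.one_lt.ne' h4
  · intro g hg
    rw [eq_bot_iff]
    intro k hk
    rw [Subgroup.mem_bot]
    have hk1 : k ∈ H := hk.1
    have hk2 : k ∈ MulAut.conj g • H := hk.2
    rw [mem_conj_smul] at hk2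
    obtain ⟨y, hy, h₀, hh₀, rfl⟩ := hdecomp g
    have hy1 : y ≠ 1 := by
      rintro rfl
      apply hg
      rw [one_mul]; exact hh₀
    -- h₂ = y⁻¹ k y ∈ H
    have h2 : y⁻¹ * k * y ∈ H := by
      have h3 : y⁻¹ * k * y = h₀ * ((y * h₀)⁻¹ * k * (y * h₀)) * h₀⁻¹ := by group
      rw [h3]
      exact H.mul_mem (H.mul_mem hh₀ hk2) (H.inv_mem hh₀)
    -- k⁻¹ * (y⁻¹ k y) ∈ P ∩ H
    have h4 : k⁻¹ * (y⁻¹ * k * y) ∈ P := by
      have h5 : k⁻¹ * (y⁻¹ * k * y) = (k⁻¹ * y⁻¹ * k⁻¹⁻¹) * y := by group
      rw [h5]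
      exact P.mul_mem (hPn.conj_mem _ (P.inv_mem hy) _) hy
    have h6 := hdisj _ h4 (H.mul_mem (H.inv_mem hk1) h2)
    have h7 : k * y = y * k := by
      have h8 : y⁻¹ * k * y = k := by
        calc y⁻¹ * k * y = k * (k⁻¹ * (y⁻¹ * k * y)) := by group
          _ = k := by rw [h6, mul_one]
      calc k * y = y * (y⁻¹ * k * y) := by group
        _ = y * k := by rw [h8]
    exact hcent1 k hk1 y hy hy1 h7
  · -- the kernel is P
    have hset : Cfsg.frobeniusKernel H = (P : Set G) := by
      ext x
      constructor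
      · intro hx
        by_contra hxP
        rcases hx with rfl | hx
        · exact hxP P.one_mem
        · obtain ⟨y, hy, h, hh, rfl⟩ := hdecomp x
          have hh1 : h ≠ 1 := by
            rintro rfl
            apply hxP
            rw [mul_one]; exact hy
          -- the map z ↦ z h z⁻¹ h⁻¹ on P is injective hence surjective
          let f : P → P := fun z => ⟨z.1 * h * z.1⁻¹ * h⁻¹, by
            have h1 : z.1 * h * z.1⁻¹ * h⁻¹ = z.1 * (h * z.1⁻¹ * h⁻¹) := by group
            rw [h1]
            exact P.mul_mem z.2 (hPn.conj_mem _ (P.inv_mem z.2) _)⟩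
          have hfinj : Function.Injective f := by
            intro z z' hzz
            have h1 : z.1 * h * z.1⁻¹ * h⁻¹ = z'.1 * h * z'.1⁻¹ * h⁻¹ := congrArg Subtype.val hzz
            have h2 : h * (z'.1⁻¹ * z.1) = (z'.1⁻¹ * z.1) * h := by
              have h3 : z.1 * h * z.1⁻¹ = z'.1 * h * z'.1⁻¹ := mul_right_cancel h1
              calc h * (z'.1⁻¹ * z.1) = z'.1⁻¹ * (z'.1 * h * z'.1⁻¹) * z.1 := by group
                _ = z'.1⁻¹ * (z.1 * h * z.1⁻¹) * z.1 := by rw [h3]
                _ = (z'.1⁻¹ * z.1) * h := by group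
            by_contra hne
            have h4 : z'.1⁻¹ * z.1 ≠ 1 := by
              intro h5
              apply hne
              apply Subtype.ext
              have : z.1 = z'.1 := by
                calc z.1 = z'.1 * (z'.1⁻¹ * z.1) := by group
                  _ = z'.1 := by rw [h5, mul_one]
              exact this
            exact hh1 (hcent1 h hh _ (P.mul_mem (P.inv_mem z'.2) z.2) h4 h2)
          have hfsurj : Function.Surjective f := Finite.surjective_of_injective hfinj
          obtain ⟨z, hz⟩ := hfsurj ⟨y, hy⟩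
          have hz' : z.1 * h * z.1⁻¹ * h⁻¹ = y := congrArg Subtype.val hz
          apply hx z.1
          rw [mem_conj_smul]
          have h5 : z.1⁻¹ * (y * h) * z.1 = h := by
            rw [← hz']; group
          rw [h5]
          exact hh
      · intro hx
        by_cases hx1 : x = 1
        · exact Or.inl hx1
        · right
          intro g hg
          rw [mem_conj_smul] at hg
          have h1 : g⁻¹ * x * g ∈ P := by
            have := hPn.conj_mem x hx g⁻¹
            simpa using this
          have h2 := hdisj _ h1 hg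
          apply hx1
          calc x = g * (g⁻¹ * x * g) * g⁻¹ := by group
            _ = 1 := by rw [h2]; group
    rw [hset]
    exact hPcard

end Cfsg.Agent.Lib.Helper25.FrobLib
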