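import Mathlib
import Cfsg.Agent.Lib.Helper25.GalConj

/-!
# Galois conjugate characters of `p`-groups: group-theoretic part

Quotients `G ⧸ K` by a central subgroup `K` of order `p`:

* `card_map_mk`, `commutator_quot`, `map_center_le`, `pow_mem_map_center`, `card_center_quot`;
* `index_centralizer_dvd` : centralisers of elements with central commutators;
* `index_center_quot_le` : if `|G'| = p²`, `G'` is not central and `(G ⧸ K)'` is central, then
  `|G ⧸ K : Z(G ⧸ K)| ≤ p²`.
-/

set_option autoImplicit false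
set_option linter.unusedSectionVars false
set_option linter.unusedVariables false

namespace Cfsg.Agent.Lib.Helper25.GalConj

open Cfsg Cfsg.Agent.Lib.Helper1
open scoped ComplexConjugate commutatorElement

universe u

section quot

variable {G : Type u} [Group G] [Fintype G] {p : ℕ} [Fact p.Prime]

theorem zpowers_normal_of_center {x : G} (hx : x ∈ Subgroup.center G) :
    (Subgroup.zpowers x).Normal := by
  constructor
  intro n hn g
  have hnc : n ∈ Subgroup.center G := (Subgroup.zpowers_le.mpr hx) hn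
  have e : g * n * g⁻¹ = n := by
    rw [Subgroup.mem_center_iff.mp hnc g]
    group
  rw [e]
  exact hn

theorem card_map_mk (K : Subgroup G) [K.Normal] (H : Subgroup G) (hKH : K ≤ H) :
    Nat.card (H.map (QuotientGroup.mk' K)) * Nat.card K = Nat.card H := by
  have h1 : (H.map (QuotientGroup.mk' K)).index = H.index := by
    rw [Subgroup.index_map, QuotientGroup.ker_mk', sup_eq_left.mpr hKH,
      MonoidHom.range_eq_top.mpr (QuotientGroup.mk'_surjective K), Subgroup.index_top, mul_one]
  have h2 := Subgroup.card_mul_index (H.map (QuotientGroup.mk' K))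
  have h3 := Subgroup.card_mul_index H
  have h4 := Subgroup.card_eq_card_quotient_mul_card_subgroup K
  have h5 : H.index ≠ 0 := Subgroup.index_ne_zero_of_finite
  rw [h1] at h2
  have h6 : Nat.card (H.map (QuotientGroup.mk' K)) * Nat.card K * H.index
      = Nat.card H * H.index := by
    rw [h3, h4, ← h2]
    ring
  exact Nat.eq_of_mul_eq_mul_right (Nat.pos_of_ne_zero h5) h6

theorem commutator_quot (K : Subgroup G) [K.Normal] :
    commutator (G ⧸ K) = (commutator G).map (QuotientGroup.mk' K) := by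
  rw [commutator_def, commutator_def, Subgroup.map_commutator,
    Subgroup.map_top_of_surjective _ (QuotientGroup.mk'_surjective K)]

theorem map_center_le (K : Subgroup G) [K.Normal] :
    (Subgroup.center G).map (QuotientGroup.mk' K) ≤ Subgroup.center (G ⧸ K) := by
  rintro _ ⟨z, hz, rfl⟩
  rw [Subgroup.mem_center_iff]
  intro q
  obtain ⟨g, rfl⟩ := QuotientGroup.mk_surjective q
  show (g : G ⧸ K) * (z : G ⧸ K) = (z : G ⧸ K) * (g : G ⧸ K)
  rw [← QuotientGroup.mk_mul, ← QuotientGroup.mk_mul, Subgroup.mem_center_iff.mp hz g]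

/-- `p`-th powers of central elements of `G ⧸ K` lift to central elements -/
theorem pow_mem_map_center (K : Subgroup G) [K.Normal] (hKz : K ≤ Subgroup.center G)
    (hKc : Nat.card K = p) {y : G ⧸ K} (hy : y ∈ Subgroup.center (G ⧸ K)) :
    y ^ p ∈ (Subgroup.center G).map (QuotientGroup.mk' K) := by
  obtain ⟨g, rfl⟩ := QuotientGroup.mk_surjective y
  refine ⟨g ^ p, ?_, rfl⟩
  show g ^ p ∈ Subgroup.center G
  rw [Subgroup.mem_center_iff]
  intro h
  have hc : g⁻¹ * h⁻¹ * g * h ∈ K := by
    rw [← QuotientGroup.eq_one_iff]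
    have h1 := Subgroup.mem_center_iff.mp hy (h : G ⧸ K)
    have e : ((g⁻¹ * h⁻¹ * g * h : G) : G ⧸ K)
        = (g : G ⧸ K)⁻¹ * (h : G ⧸ K)⁻¹ * ((g : G ⧸ K) * (h : G ⧸ K)) := by
      simp [mul_assoc]
    rw [e, ← h1]
    group
  have hcp : (g⁻¹ * h⁻¹ * g * h) ^ p = 1 := by
    have h1 : (⟨g⁻¹ * h⁻¹ * g * h, hc⟩ : K) ^ p = 1 := by rw [← hKc]; exact pow_card_eq_one'
    have := congrArg Subtype.val h1
    simpa using this
  have hcomm : Commute g (g⁻¹ * h⁻¹ * g * h) := Subgroup.mem_center_iff.mp (hKz hc) g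
  have e1 : (h⁻¹ * g * h) ^ p = h⁻¹ * g ^ p * h := by
    have := conj_pow (i := p) (a := h⁻¹) (b := g)
    simpa using this
  have e2 : h⁻¹ * g * h = g * (g⁻¹ * h⁻¹ * g * h) := by group
  have e3 : h⁻¹ * g ^ p * h = g ^ p := by
    rw [← e1, e2, hcomm.mul_pow, hcp, mul_one]
  calc h * g ^ p = h * (h⁻¹ * g ^ p * h) := by rw [e3]
    _ = g ^ p * h := by group

/-- a cyclic subgroup whose `p`-th powers lie in `I` has order at most `p |I|` -/
theorem cyc_pow_bound {X : Type*} [Group X] [Finite X] (A I : Subgroup X) (hA : IsCyclic A)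
    (h : ∀ y ∈ A, y ^ p ∈ I) : Nat.card A ≤ p * Nat.card I := by
  have hp := (Fact.out : p.Prime)
  obtain ⟨y₀, hy₀⟩ := hA.exists_generator
  have h1 : orderOf (y₀ : X) = Nat.card A := by
    rw [Subgroup.orderOf_coe]
    exact orderOf_eq_card_of_forall_mem_zpowers hy₀
  have h2 : orderOf ((y₀ : X) ^ p) ≤ Nat.card I := by
    rw [← Nat.card_zpowers]
    exact Subgroup.card_le_of_le (Subgroup.zpowers_le.mpr (h _ y₀.2))
  rw [orderOf_pow, h1] at h2
  have h3 : (Nat.card A).gcd p ≤ p := Nat.le_of_dvd hp.pos (Nat.gcd_dvd_right _ _)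
  calc Nat.card A = (Nat.card A / (Nat.card A).gcd p) * (Nat.card A).gcd p :=
        (Nat.div_mul_cancel (Nat.gcd_dvd_left _ _)).symm
    _ ≤ Nat.card I * p := Nat.mul_le_mul h2 h3
    _ = p * Nat.card I := mul_comm _ _

theorem card_center_quot (K : Subgroup G) [K.Normal] (hKz : K ≤ Subgroup.center G)
    (hKc : Nat.card K = p) (hcyc : IsCyclic (Subgroup.center (G ⧸ K))) :
    Nat.card (Subgroup.center (G ⧸ K)) ≤ Nat.card (Subgroup.center G) ∧
      Nat.card (Subgroup.center G) ≤ p * Nat.card (Subgroup.center (G ⧸ K)) := by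
  have hI := card_map_mk K (Subgroup.center G) hKz
  rw [hKc] at hI
  constructor
  · have h1 := cyc_pow_bound (p := p) (Subgroup.center (G ⧸ K))
      ((Subgroup.center G).map (QuotientGroup.mk' K)) hcyc
      (fun y hy => pow_mem_map_center K hKz hKc hy)
    rw [← hI, mul_comm]
    exact h1
  · have h1 := Subgroup.card_le_of_le (map_center_le K)
    rw [← hI, mul_comm]
    exact Nat.mul_le_mul_left p h1

/-- the centraliser of an element whose commutators lie in a central subgroup `B` -/
theorem index_centralizer_dvd {X : Type*} [Group X] [Finite X] (B : Subgroup X)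
    (hB : B ≤ Subgroup.center X) (b : X) (hb : ∀ g : X, g * b * g⁻¹ * b⁻¹ ∈ B) :
    (Subgroup.centralizer ({b} : Set X)).index ∣ Nat.card B := by
  let f : X →* B := MonoidHom.mk' (fun g => ⟨g * b * g⁻¹ * b⁻¹, hb g⟩) (by
    intro g h
    apply Subtype.ext
    show g * h * b * (g * h)⁻¹ * b⁻¹ = (g * b * g⁻¹ * b⁻¹) * (h * b * h⁻¹ * b⁻¹)
    have hk : ∀ x, x * (h * b * h⁻¹ * b⁻¹) = (h * b * h⁻¹ * b⁻¹) * x :=
      fun x => Subgroup.mem_center_iff.mp (hB (hb h)) x
    calc g * h * b * (g * h)⁻¹ * b⁻¹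
        = (g * (h * b * h⁻¹ * b⁻¹)) * (b * g⁻¹ * b⁻¹) := by group
      _ = ((h * b * h⁻¹ * b⁻¹) * g) * (b * g⁻¹ * b⁻¹) := by rw [hk g]
      _ = (h * b * h⁻¹ * b⁻¹) * (g * b * g⁻¹ * b⁻¹) := by group
      _ = _ := (hk _).symm)
  have hker : f.ker = Subgroup.centralizer ({b} : Set X) := by
    ext g
    rw [MonoidHom.mem_ker, Subgroup.mem_centralizer_singleton_iff]
    constructor
    · intro h
      have h1 : g * b * g⁻¹ * b⁻¹ = 1 := congrArg Subtype.val h
      calc g * b = (g * b * g⁻¹ * b⁻¹) * b * g := by group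
        _ = b * g := by rw [h1, one_mul]
    · intro h
      apply Subtype.ext
      show g * b * g⁻¹ * b⁻¹ = 1
      rw [h]
      group
  rw [← hker, Subgroup.index_ker]
  exact Subgroup.card_subgroup_dvd_card f.range

/-- if `|G'| = p²`, `G'` is not central and `(G ⧸ K)'` is central of order `p`, then the centre of
`G ⧸ K` has index at most `p²` -/
theorem index_center_quot_le (hP : IsPGroup p G) (K : Subgroup G) [K.Normal]
    (hKz : K ≤ Subgroup.center G) (hKc : Nat.card K = p) (hKD : K ≤ commutator G)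
    (hD : Nat.card (commutator G) = p ^ 2)
    (hQ : commutator (G ⧸ K) ≤ Subgroup.center (G ⧸ K))
    (hQc : Nat.card (commutator (G ⧸ K)) = p)
    (hDZ : commutator G ⊓ Subgroup.center G = K) :
    (Subgroup.center (G ⧸ K)).index ≤ p ^ 2 := by
  classical
  have hp := (Fact.out : p.Prime)
  have hDK : ∀ u ∈ commutator G, ∀ g : G, g * u * g⁻¹ * u⁻¹ ∈ K := by
    intro u hu g
    rw [← QuotientGroup.eq_one_iff]
    have hu' : (u : G ⧸ K) ∈ Subgroup.center (G ⧸ K) := by
      apply hQ
      rw [commutator_quot]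
      exact ⟨u, hu, rfl⟩
    have h1 := Subgroup.mem_center_iff.mp hu' (g : G ⧸ K)
    have e : ((g * u * g⁻¹ * u⁻¹ : G) : G ⧸ K)
        = ((g : G ⧸ K) * (u : G ⧸ K)) * (g : G ⧸ K)⁻¹ * (u : G ⧸ K)⁻¹ := by simp
    rw [e, h1]
    group
  obtain ⟨a, haD, haK⟩ : ∃ a ∈ commutator G, a ∉ K := by
    by_contra hcon
    push Not at hcon
    have h1 : commutator G ≤ K := hcon
    have h2 := Subgroup.card_le_of_le h1
    rw [hD, hKc] at h2
    nlinarith [hp.one_lt]
  have haZ : a ∉ Subgroup.center G :=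
    fun h => haK (by rw [← hDZ]; exact Subgroup.mem_inf.mpr ⟨haD, h⟩)
  obtain ⟨C, hCdef⟩ : ∃ C : Subgroup G, C = Subgroup.centralizer ({a} : Set G) := ⟨_, rfl⟩
  have hCmem : ∀ g, g ∈ C ↔ g * a = a * g := by
    intro g
    rw [hCdef, Subgroup.mem_centralizer_singleton_iff]
  have hCne : ∃ t, t ∉ C := by
    by_contra hcon
    push Not at hcon
    apply haZ
    rw [Subgroup.mem_center_iff]
    intro g
    exact (hCmem g).mp (hcon g)
  obtain ⟨t, ht⟩ := hCne
  have hCidx : C.index = p := by
    have h1 : C.index ∣ Nat.card K := by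
      rw [hCdef]
      exact index_centralizer_dvd K hKz a (hDK a haD)
    rw [hKc] at h1
    rcases (Nat.dvd_prime hp).mp h1 with h | h
    · exact absurd (Subgroup.index_eq_one.mp h ▸ Subgroup.mem_top t) ht
    · exact h
  have hDC : ∀ u ∈ commutator G, ∀ c ∈ C, c * u = u * c := by
    have hE : commutator G ⊓ Subgroup.centralizer (C : Set G) = commutator G := by
      have hKE : K ≤ commutator G ⊓ Subgroup.centralizer (C : Set G) := by
        intro k hk
        refine Subgroup.mem_inf.mpr ⟨hKD hk, ?_⟩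
        rw [Subgroup.mem_centralizer_iff]
        intro c _
        exact Subgroup.mem_center_iff.mp (hKz hk) c
      have haE : a ∈ commutator G ⊓ Subgroup.centralizer (C : Set G) := by
        refine Subgroup.mem_inf.mpr ⟨haD, ?_⟩
        rw [Subgroup.mem_centralizer_iff]
        intro c hc
        exact (hCmem c).mp hc
      have hdvd : Nat.card (commutator G ⊓ Subgroup.centralizer (C : Set G) : Subgroup G)
          ∣ p ^ 2 := by
        rw [← hD]
        exact Subgroup.card_dvd_of_le inf_le_left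
      obtain ⟨j, hj, hcard⟩ := (Nat.dvd_prime_pow hp).mp hdvd
      apply Subgroup.eq_of_le_of_card_ge inf_le_left
      rw [hD, hcard]
      by_contra hlt
      have hj1 : j ≤ 1 := by
        by_contra h2
        have h3 : j = 2 := by omega
        rw [h3] at hlt
        exact hlt le_rfl
      have h3 : Nat.card (commutator G ⊓ Subgroup.centralizer (C : Set G) : Subgroup G)
          ≤ Nat.card K := by
        rw [hcard, hKc]
        calc p ^ j ≤ p ^ 1 := Nat.pow_le_pow_right hp.pos hj1
          _ = p := pow_one p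
      have h4 := Subgroup.eq_of_le_of_card_ge hKE h3
      exact haK (by rw [h4]; exact haE)
    intro u hu c hc
    rw [← hE] at hu
    exact (Subgroup.mem_centralizer_iff.mp (Subgroup.mem_inf.mp hu).2) c hc
  have hCC : ∀ c ∈ C, ∀ c' ∈ C, c * c' * c⁻¹ * c'⁻¹ ∈ K := by
    have h1 : ⁅⁅C, (⊤ : Subgroup G)⁆, C⁆ = ⊥ := by
      rw [Subgroup.commutator_eq_bot_iff_le_centralizer]
      intro u hu
      have huD : u ∈ commutator G := by
        rw [commutator_def]
        exact Subgroup.commutator_mono le_top le_rfl hu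
      rw [Subgroup.mem_centralizer_iff]
      intro c hc
      exact hDC u huD c hc
    have h2 : ⁅⁅(⊤ : Subgroup G), C⁆, C⁆ = ⊥ := by
      rw [Subgroup.commutator_comm ⊤ C]
      exact h1
    have h3 : ⁅⁅C, C⁆, (⊤ : Subgroup G)⁆ = ⊥ :=
      Subgroup.commutator_commutator_eq_bot_of_rotate h1 h2
    intro c hc c' hc'
    have hw : ⁅c, c'⁆ ∈ ⁅C, C⁆ := Subgroup.commutator_mem_commutator hc hc'
    have hwD : ⁅c, c'⁆ ∈ commutator G := by
      rw [commutator_def]
      exact Subgroup.commutator_mono le_top le_top hw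
    have hwZ : ⁅c, c'⁆ ∈ Subgroup.center G := by
      rw [Subgroup.mem_center_iff]
      intro g
      have h4 : ⁅⁅c, c'⁆, g⁆ ∈ ⁅⁅C, C⁆, (⊤ : Subgroup G)⁆ :=
        Subgroup.commutator_mem_commutator hw (Subgroup.mem_top g)
      rw [h3, Subgroup.mem_bot, commutatorElement_eq_one_iff_mul_comm] at h4
      exact h4.symm
    have h5 : ⁅c, c'⁆ ∈ commutator G ⊓ Subgroup.center G := Subgroup.mem_inf.mpr ⟨hwD, hwZ⟩
    rw [hDZ] at h5
    exact h5
  obtain ⟨T, hTdef⟩ : ∃ T : Subgroup G, T = (Subgroup.centralizer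
      ({(t : G ⧸ K)} : Set (G ⧸ K))).comap (QuotientGroup.mk' K) := ⟨_, rfl⟩
  have hTidx : T.index ≤ p := by
    have h1 : (Subgroup.centralizer ({(t : G ⧸ K)} : Set (G ⧸ K))).index
        ∣ Nat.card (commutator (G ⧸ K)) :=
      index_centralizer_dvd (commutator (G ⧸ K)) hQ (t : G ⧸ K)
        (fun q => comm_mem_commutator q _)
    rw [hTdef, Subgroup.index_comap_of_surjective _ (QuotientGroup.mk'_surjective K)]
    rw [hQc] at h1
    exact Nat.le_of_dvd hp.pos h1
  have hsub : C ⊓ T ≤ (Subgroup.center (G ⧸ K)).comap (QuotientGroup.mk' K) := by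
    intro c hc
    obtain ⟨hcC, hcT⟩ := Subgroup.mem_inf.mp hc
    rw [Subgroup.mem_comap, Subgroup.mem_center_iff]
    obtain ⟨S, hSdef⟩ : ∃ S : Subgroup G, S = (Subgroup.centralizer
        ({(c : G ⧸ K)} : Set (G ⧸ K))).comap (QuotientGroup.mk' K) := ⟨_, rfl⟩
    have hSmem : ∀ g, g ∈ S ↔ (g : G ⧸ K) * (c : G ⧸ K) = (c : G ⧸ K) * (g : G ⧸ K) := by
      intro g
      rw [hSdef, Subgroup.mem_comap, Subgroup.mem_centralizer_singleton_iff]
      rfl
    have hCS : C ≤ S := by
      intro c' hc'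
      rw [hSmem]
      have h1 := hCC c' hc' c hcC
      rw [← QuotientGroup.eq_one_iff] at h1
      have e : ((c' * c * c'⁻¹ * c⁻¹ : G) : G ⧸ K)
          = (c' : G ⧸ K) * (c : G ⧸ K) * ((c : G ⧸ K) * (c' : G ⧸ K))⁻¹ := by
        simp [mul_assoc]
      rw [e] at h1
      exact mul_inv_eq_one.mp h1
    have htS : t ∈ S := by
      rw [hSmem]
      rw [hTdef, Subgroup.mem_comap, Subgroup.mem_centralizer_singleton_iff] at hcT
      exact hcT.symm
    have hStop : S = ⊤ := by
      have h1 := Subgroup.relIndex_mul_index hCS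
      rw [hCidx] at h1
      have h2 : S.index ∣ p := ⟨C.relIndex S, by rw [mul_comm]; exact h1.symm⟩
      rcases (Nat.dvd_prime hp).mp h2 with h | h
      · exact Subgroup.index_eq_one.mp h
      · rw [h] at h1
        have h3 : C.relIndex S = 1 := by
          have h4 : C.relIndex S * p = 1 * p := by rw [h1, one_mul]
          exact Nat.eq_of_mul_eq_mul_right hp.pos h4
        exact absurd (Subgroup.relIndex_eq_one.mp h3 htS) ht
    intro q
    obtain ⟨g, rfl⟩ := QuotientGroup.mk_surjective q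
    exact (hSmem g).mp (by rw [hStop]; trivial)
  have h1 : (Subgroup.center (G ⧸ K)).index
      = ((Subgroup.center (G ⧸ K)).comap (QuotientGroup.mk' K)).index :=
    (Subgroup.index_comap_of_surjective _ (QuotientGroup.mk'_surjective K)).symm
  rw [h1]
  have h2 := Subgroup.index_dvd_of_le hsub
  have h3 : (C ⊓ T).index ≤ C.index * T.index := Subgroup.index_inf_le
  have h4 : (C ⊓ T).index ≠ 0 := Subgroup.index_ne_zero_of_finite
  calc ((Subgroup.center (G ⧸ K)).comap (QuotientGroup.mk' K)).index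
      ≤ (C ⊓ T).index := Nat.le_of_dvd (Nat.pos_of_ne_zero h4) h2
    _ ≤ C.index * T.index := h3
    _ ≤ p * p := by rw [hCidx]; exact Nat.mul_le_mul_left p hTidx
    _ = p ^ 2 := (sq p).symm

end quot

end Cfsg.Agent.Lib.Helper25.GalConj
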