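import Mathlib

set_option autoImplicit false

namespace Cfsg.Agent.Lib.Helper25.NilCover

open Equiv Equiv.Perm

/-- replacing the members of a cover inside a proper subgroup `B` by `B` itself -/
theorem absorb {Γ : Type*} [Group Γ] (B : Subgroup Γ) (hB : B ≠ ⊤) (c c' : Γ)
    (𝓐 : Finset (Subgroup Γ)) (hprop : ∀ A ∈ 𝓐, A ≠ ⊤) (hcov : ∀ g : Γ, ∃ A ∈ 𝓐, g ∈ A)
    (h1 : ∀ A ∈ 𝓐, c ∈ A → A ≤ B) (h2 : ∀ A ∈ 𝓐, c' ∈ A → A ≤ B)
    (h3 : ∀ A ∈ 𝓐, c ∈ A → c' ∉ A) :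
    ∃ 𝓑 : Finset (Subgroup Γ), ((∀ A ∈ 𝓑, A ≠ ⊤) ∧ (∀ g : Γ, ∃ A ∈ 𝓑, g ∈ A)) ∧
      𝓑.card < 𝓐.card := by
  classical
  obtain ⟨A₁, hA₁, hu⟩ := hcov c
  obtain ⟨A₂, hA₂, hd⟩ := hcov c'
  have hA₁B := h1 A₁ hA₁ hu
  have hA₂B := h2 A₂ hA₂ hd
  have hne : A₁ ≠ A₂ := fun h => h3 A₁ hA₁ hu (h ▸ hd)
  refine ⟨insert B (𝓐.filter (fun A => ¬ A ≤ B)), ⟨?_, ?_⟩, ?_⟩
  · intro A hA
    rcases Finset.mem_insert.mp hA with rfl | hA
    · exact hB
    · exact hprop A (Finset.mem_filter.mp hA).1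
  · intro g
    obtain ⟨A, hA, hg⟩ := hcov g
    by_cases hAB : A ≤ B
    · exact ⟨B, Finset.mem_insert_self _ _, hAB hg⟩
    · exact ⟨A, Finset.mem_insert_of_mem (Finset.mem_filter.mpr ⟨hA, hAB⟩), hg⟩
  · have h4 : (insert B (𝓐.filter (fun A => ¬ A ≤ B))).card ≤
        (𝓐.filter (fun A => ¬ A ≤ B)).card + 1 := Finset.card_insert_le _ _
    have h5 : (𝓐.filter (fun A => ¬ A ≤ B)).card + (𝓐.filter (fun A => A ≤ B)).card = 𝓐.card := by
      rw [add_comm]; exact Finset.card_filter_add_card_filter_not (s := 𝓐) (fun A => A ≤ B)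
    have h6 : ({A₁, A₂} : Finset (Subgroup Γ)) ⊆ 𝓐.filter (fun A => A ≤ B) := by
      intro A hA
      rcases Finset.mem_insert.mp hA with rfl | hA
      · exact Finset.mem_filter.mpr ⟨hA₁, hA₁B⟩
      · rw [Finset.mem_singleton] at hA
        rw [hA]; exact Finset.mem_filter.mpr ⟨hA₂, hA₂B⟩
    have h7 := Finset.card_le_card h6
    rw [Finset.card_pair hne] at h7
    omega

theorem nilp_sylow {H : Type*} [Group H] [Finite H] [hn : Group.IsNilpotent H] (p : ℕ)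
    [hp : Fact p.Prime] (hp2 : ¬ p ^ 2 ∣ Nat.card H) (c : H) (hc : orderOf c = p) :
    (Subgroup.zpowers c).Normal ∧ ∀ d : H, orderOf d = p → d ∈ Subgroup.zpowers c := by
  obtain ⟨P⟩ : Nonempty (Sylow p H) := inferInstance
  have h03 : Group.IsNilpotent H ↔ ∀ (p : ℕ) (_hp : Fact p.Prime) (P : Sylow p H),
      (P : Subgroup H).Normal := (Group.isNilpotent_of_finite_tfae (G := H)).out 0 3
  have hPn : (P : Subgroup H).Normal := h03.mp hn p hp P
  have hmem : ∀ d : H, orderOf d = p → d ∈ (P : Subgroup H) := by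
    intro d hd
    have hpg : IsPGroup p (Subgroup.zpowers d) := by
      apply IsPGroup.of_card (n := 1)
      rw [Nat.card_zpowers, hd, pow_one]
    obtain ⟨Q, hQ⟩ := hpg.exists_le_sylow
    obtain ⟨g, hg⟩ := MulAction.exists_smul_eq H P Q
    haveI := hPn
    rw [Sylow.smul_eq_of_normal] at hg
    rw [hg]; exact hQ (Subgroup.mem_zpowers d)
  have hle : Subgroup.zpowers c ≤ (P : Subgroup H) := by
    rw [Subgroup.zpowers_le]; exact hmem c hc
  have hcard : Nat.card (P : Subgroup H) = p := by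
    obtain ⟨k, hk⟩ := P.isPGroup'.exists_card_eq
    have h1 : p ^ k ∣ Nat.card H := hk ▸ Subgroup.card_subgroup_dvd_card _
    have hk1 : k ≤ 1 := by
      by_contra hcon
      push Not at hcon
      exact hp2 ((pow_dvd_pow p hcon).trans h1)
    have h2 : p ≤ p ^ k := by
      rw [← hk]
      have := Subgroup.card_le_of_le hle
      rwa [Nat.card_zpowers, hc] at this
    interval_cases k
    · have := hp.out.two_le
      simp at h2
      omega
    · rw [hk, pow_one]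
  have heq : Subgroup.zpowers c = (P : Subgroup H) := by
    apply Subgroup.eq_of_le_of_card_ge hle
    rw [hcard, Nat.card_zpowers, hc]
  rw [heq]; exact ⟨hPn, hmem⟩

theorem nilp_central {H : Type*} [Group H] [Finite H] [hn : Group.IsNilpotent H] (p : ℕ)
    [hp : Fact p.Prime] (c : H) (hc : orderOf c = p) (hN : (Subgroup.zpowers c).Normal) :
    c ∈ Subgroup.center H := by
  obtain ⟨k, hk⟩ := hn.nilpotent
  have key : ∀ i : ℕ, c ∈ Subgroup.upperCentralSeries H i → c ∈ Subgroup.center H := by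
    intro i
    induction i with
    | zero =>
      intro h
      rw [Subgroup.upperCentralSeries_zero, Subgroup.mem_bot] at h
      rw [h]; exact Subgroup.one_mem _
    | succ i ih =>
      intro h
      by_cases hall : ∀ y : H, (c * y * c⁻¹ * y⁻¹) = 1
      · rw [Subgroup.mem_center_iff]
        intro y
        have h0 := hall y
        have e0 : y * c = (c * y * c⁻¹ * y⁻¹)⁻¹ * (c * y) := by group
        rw [e0, h0]; simp
      · push Not at hall
        obtain ⟨y, hy⟩ := hall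
        have hw1 : (c * y * c⁻¹ * y⁻¹) ∈ Subgroup.upperCentralSeries H i :=
          Subgroup.mem_upperCentralSeries_succ_iff.mp h y
        have hw2 : (c * y * c⁻¹ * y⁻¹) ∈ Subgroup.zpowers c := by
          have h1 := hN.conj_mem c⁻¹ (Subgroup.inv_mem _ (Subgroup.mem_zpowers c)) y
          have := Subgroup.mul_mem _ (Subgroup.mem_zpowers c) h1
          have e : c * (y * c⁻¹ * y⁻¹) = c * y * c⁻¹ * y⁻¹ := by group
          rwa [e] at this
        have hord : orderOf (c * y * c⁻¹ * y⁻¹) = p := by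
          have hdvd : orderOf (c * y * c⁻¹ * y⁻¹) ∣ p := by
            rw [← hc]; exact orderOf_dvd_of_mem_zpowers hw2
          rcases (Nat.dvd_prime hp.out).mp hdvd with h1 | h1
          · exact absurd (orderOf_eq_one_iff.mp h1) hy
          · exact h1
        have heq : Subgroup.zpowers (c * y * c⁻¹ * y⁻¹) = Subgroup.zpowers c := by
          apply Subgroup.eq_of_le_of_card_ge (Subgroup.zpowers_le.mpr hw2)
          rw [Nat.card_zpowers, Nat.card_zpowers, hord, hc]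
        apply ih
        have h3 : c ∈ Subgroup.zpowers (c * y * c⁻¹ * y⁻¹) := by rw [heq]; exact Subgroup.mem_zpowers c
        exact (Subgroup.zpowers_le.mpr hw1) h3
  exact key k (by rw [hk]; exact Subgroup.mem_top c)

theorem sub_nilp {Γ : Type*} [Group Γ] [Finite Γ] (A : Subgroup Γ) (hA : Group.IsNilpotent ↥A)
    (p : ℕ) [Fact p.Prime] (hp2 : ¬ p ^ 2 ∣ Nat.card Γ) (c : Γ) (hcA : c ∈ A)
    (hc : orderOf c = p) :
    (∀ d ∈ A, orderOf d = p → d ∈ Subgroup.zpowers c) ∧ (∀ g ∈ A, g * c = c * g) := by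
  haveI := hA
  have hp2' : ¬ p ^ 2 ∣ Nat.card A := fun h => hp2 (h.trans (Subgroup.card_subgroup_dvd_card A))
  have hc' : orderOf (⟨c, hcA⟩ : A) = p := by rw [Subgroup.orderOf_mk]; exact hc
  obtain ⟨hN, hall⟩ := nilp_sylow p hp2' (⟨c, hcA⟩ : A) hc'
  constructor
  · intro d hd hdp
    have h1 := hall ⟨d, hd⟩ (by rw [Subgroup.orderOf_mk]; exact hdp)
    obtain ⟨k, hk⟩ := Subgroup.mem_zpowers_iff.mp h1
    refine Subgroup.mem_zpowers_iff.mpr ⟨k, ?_⟩
    have := congrArg Subtype.val hk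
    simpa using this
  · intro g hg
    have h1 := nilp_central p (⟨c, hcA⟩ : A) hc' hN
    rw [Subgroup.mem_center_iff] at h1
    have := h1 ⟨g, hg⟩
    exact congrArg Subtype.val this

/-- the absorber criterion through centralizers of two elements of prime order -/
theorem abs_of_cent {Γ : Type*} [Group Γ] [Finite Γ] (p : ℕ) [Fact p.Prime]
    (hp2 : ¬ p ^ 2 ∣ Nat.card Γ) (B : Subgroup Γ) (hB : B ≠ ⊤) (c c' : Γ)
    (hc : orderOf c = p) (hc' : orderOf c' = p)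
    (hcen : ∀ g : Γ, g * c = c * g → g ∈ B) (hcen' : ∀ g : Γ, g * c' = c' * g → g ∈ B)
    (hnot : c' ∉ Subgroup.zpowers c)
    (𝓐 : Finset (Subgroup Γ)) (hprop : ∀ A ∈ 𝓐, A ≠ ⊤) (hcov : ∀ g : Γ, ∃ A ∈ 𝓐, g ∈ A)
    (hnil : ∀ A ∈ 𝓐, Group.IsNilpotent ↥A) :
    ∃ 𝓑 : Finset (Subgroup Γ), ((∀ A ∈ 𝓑, A ≠ ⊤) ∧ (∀ g : Γ, ∃ A ∈ 𝓑, g ∈ A)) ∧
      𝓑.card < 𝓐.card := by
  apply absorb B hB c c' 𝓐 hprop hcov
  · intro A hA hcA g hg
    exact hcen g ((sub_nilp A (hnil A hA) p hp2 c hcA hc).2 g hg)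
  · intro A hA hcA g hg
    exact hcen' g ((sub_nilp A (hnil A hA) p hp2 c' hcA hc').2 g hg)
  · intro A hA hcA hc'A
    exact hnot ((sub_nilp A (hnil A hA) p hp2 c hcA hc).1 c' hc'A hc')

theorem comm_support {α : Type*} (g c : Perm α) (h : g * c = c * g) (x : α) (hx : c x ≠ x) :
    c (g x) ≠ g x := by
  intro h1
  apply hx
  have h2 : g (c x) = c (g x) := by
    have := congrArg (fun f : Perm α => f x) h
    simpa using this
  rw [h1] at h2
  exact g.injective h2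

theorem fix_eq_one {n : ℕ} (p : ℕ) [hp : Fact p.Prime] (c z : Perm (Fin n))
    (hc : orderOf c = p) (hz : z ∈ Subgroup.zpowers c) (x : Fin n) (hzx : z x = x)
    (hcx : c x ≠ x) : z = 1 := by
  by_contra hz1
  have hdvd : orderOf z ∣ p := by rw [← hc]; exact orderOf_dvd_of_mem_zpowers hz
  have hord : orderOf z = p := by
    rcases (Nat.dvd_prime hp.out).mp hdvd with h1 | h1
    · exact absurd (orderOf_eq_one_iff.mp h1) hz1
    · exact h1
  have heq : Subgroup.zpowers z = Subgroup.zpowers c := by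
    apply Subgroup.eq_of_le_of_card_ge (Subgroup.zpowers_le.mpr hz)
    rw [Nat.card_zpowers, Nat.card_zpowers, hord, hc]
  have h3 : c ∈ Subgroup.zpowers z := by rw [heq]; exact Subgroup.mem_zpowers c
  obtain ⟨k, hk⟩ := Subgroup.mem_zpowers_iff.mp h3
  apply hcx
  rw [← hk]
  exact Equiv.Perm.zpow_apply_eq_self_of_apply_eq_self hzx k

/-- the setwise stabiliser of `S` under an action through `ι` -/
def stab {Γ : Type*} [Group Γ] {α : Type*} (ι : Γ →* Perm α) (S : Set α) : Subgroup Γ where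
  carrier := {g | ∀ x, ι g x ∈ S ↔ x ∈ S}
  mul_mem' := by
    intro a b ha hb x
    rw [map_mul, Perm.mul_apply]
    exact (ha _).trans (hb x)
  one_mem' := by intro x; simp
  inv_mem' := by
    intro a ha x
    have h := ha ((ι a)⁻¹ x)
    rw [map_inv]
    have e : (ι a) ((ι a)⁻¹ x) = x := by simp
    rw [e] at h
    exact h.symm

theorem mem_stab {Γ : Type*} [Group Γ] {α : Type*} (ι : Γ →* Perm α) (S : Set α) (g : Γ) :
    g ∈ stab ι S ↔ ∀ x, ι g x ∈ S ↔ x ∈ S := Iff.rfl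

theorem cent_stab {Γ : Type*} [Group Γ] {α : Type*} (ι : Γ →* Perm α) (c g : Γ)
    (h : g * c = c * g) : g ∈ stab ι {x | ι c x ≠ x} := by
  rw [mem_stab]
  intro x
  have h1 : ι g * ι c = ι c * ι g := by rw [← map_mul, ← map_mul, h]
  have h2 : (ι g)⁻¹ * ι c = ι c * (ι g)⁻¹ := by
    rw [inv_mul_eq_iff_eq_mul, ← mul_assoc, h1]; simp
  constructor
  · intro hx
    have := comm_support _ _ h2 _ hx
    simpa using this
  · intro hx
    exact comm_support _ _ h1 x hx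

theorem not_sq_dvd_factorial (p n : ℕ) (hp : p.Prime) (hn : n < 2 * p) :
    ¬ p ^ 2 ∣ n.factorial := by
  intro h
  have hlog : Nat.log p n < 2 := by
    rcases Nat.eq_zero_or_pos n with rfl | hpos
    · simp
    · apply Nat.log_lt_of_lt_pow (by omega)
      have := hp.two_le
      nlinarith
  rw [hp.pow_dvd_factorial_iff hlog] at h
  simp at h
  have : n / p < 2 := Nat.div_lt_of_lt_mul (by omega)
  omega

theorem big_case {Γ : Type*} [Group Γ] [Finite Γ] (n : ℕ) (ι : Γ →* Perm (Fin n))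
    (hι : Function.Injective ι) (p : ℕ) [hp : Fact p.Prime] (hp5 : 5 ≤ p) (hpn : p < n)
    (hn2p : n < 2 * p)
    (hmem : ∀ σ : Perm (Fin n), σ.cycleType = {p} → ∃ g, ι g = σ)
    (htr : ∀ x y : Fin n, x ≠ y → ∃ g, ι g x = y)
    (𝓐 : Finset (Subgroup Γ)) (hprop : ∀ A ∈ 𝓐, A ≠ ⊤) (hcov : ∀ g : Γ, ∃ A ∈ 𝓐, g ∈ A)
    (hnil : ∀ A ∈ 𝓐, Group.IsNilpotent ↥A) :
    ∃ 𝓑 : Finset (Subgroup Γ), ((∀ A ∈ 𝓑, A ≠ ⊤) ∧ (∀ g : Γ, ∃ A ∈ 𝓑, g ∈ A)) ∧
      𝓑.card < 𝓐.card := by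
  classical
  have hp2 : ¬ p ^ 2 ∣ Nat.card Γ := by
    intro h
    have h1 : Nat.card Γ ∣ Nat.card (Perm (Fin n)) := Subgroup.card_dvd_of_injective ι hι
    rw [Nat.card_perm, Nat.card_fin] at h1
    exact not_sq_dvd_factorial p n hp.out hn2p (h.trans h1)
  obtain ⟨σ, hσ⟩ : ∃ σ : Perm (Fin n), σ.cycleType = {p} := by
    rw [Equiv.Perm.exists_with_cycleType_iff]
    constructor
    · simp; omega
    · intro a ha; simp at ha; omega
  have hσord : orderOf σ = p := by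
    rw [← Equiv.Perm.lcm_cycleType, hσ]; simp
  have hσsupp : σ.support.card = p := by
    rw [← Equiv.Perm.sum_cycleType, hσ]; simp
  obtain ⟨a, ha⟩ : ∃ a, a ∈ σ.support := by
    apply Finset.card_pos.mp; omega
  rw [Equiv.Perm.mem_support] at ha
  obtain ⟨b, hb⟩ : ∃ b, b = σ a := ⟨_, rfl⟩
  obtain ⟨d, hd⟩ : ∃ d, d = σ b := ⟨_, rfl⟩
  have hba : b ≠ a := by rw [hb]; exact ha
  have hdb : d ≠ b := by
    rw [hd]; intro h; apply hba; apply σ.injective; rw [h, hb]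
  have hσb : σ b ≠ b := by rw [← hd]; exact hdb
  have hda : d ≠ a := by
    intro h
    have h1 : σ ^ 2 = 1 := by
      apply fix_eq_one p σ (σ ^ 2) hσord (Subgroup.pow_mem _ (Subgroup.mem_zpowers σ) 2) a _ ha
      rw [pow_two, Perm.mul_apply, ← hb, ← hd]; exact h
    have h2 := orderOf_dvd_of_pow_eq_one h1
    rw [hσord] at h2
    have := Nat.le_of_dvd (by norm_num) h2
    omega
  obtain ⟨τ, hτ⟩ : ∃ τ : Perm (Fin n), τ = swap a b := ⟨_, rfl⟩
  obtain ⟨σ', hσ'⟩ : ∃ σ' : Perm (Fin n), σ' = τ * σ * τ⁻¹ := ⟨_, rfl⟩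
  have hσ'cyc : σ'.cycleType = {p} := by
    rw [hσ', Equiv.Perm.cycleType_conj, hσ]
  have hσ'ord : orderOf σ' = p := by
    rw [← Equiv.Perm.lcm_cycleType, hσ'cyc]; simp
  have hσ'a : σ' a = d := by
    rw [hσ', Perm.mul_apply, Perm.mul_apply, hτ, swap_inv, swap_apply_left, ← hd,
      swap_apply_of_ne_of_ne hda hdb]
  have hσ'b : σ' b = a := by
    rw [hσ', Perm.mul_apply, Perm.mul_apply, hτ, swap_inv, swap_apply_right, ← hb,
      swap_apply_right]
  have hnot : σ' ∉ Subgroup.zpowers σ := by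
    intro hmemz
    have h1 : (σ ^ 2)⁻¹ * σ' = 1 := by
      apply fix_eq_one p σ _ hσord (Subgroup.mul_mem _ (Subgroup.inv_mem _
        (Subgroup.pow_mem _ (Subgroup.mem_zpowers σ) 2)) hmemz) a _ ha
      rw [Perm.mul_apply, hσ'a, Perm.inv_eq_iff_eq, pow_two, Perm.mul_apply, ← hb, ← hd]
    have h2 : σ' = σ ^ 2 := by
      rw [inv_mul_eq_one] at h1; exact h1.symm
    have h3 : (σ ^ 2) b = a := by rw [← h2]; exact hσ'b
    have h4 : σ ^ 3 = 1 := by
      apply fix_eq_one p σ (σ ^ 3) hσord (Subgroup.pow_mem _ (Subgroup.mem_zpowers σ) 3) a _ ha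
      rw [pow_succ, Perm.mul_apply, ← hb]; exact h3
    have h5 := orderOf_dvd_of_pow_eq_one h4
    rw [hσord] at h5
    have := Nat.le_of_dvd (by norm_num) h5
    omega
  have hsuppeq : ∀ x, σ' x ≠ x ↔ σ x ≠ x := by
    intro x
    have hkey : σ' x ≠ x ↔ σ (τ x) ≠ τ x := by
      rw [hσ', Perm.mul_apply, Perm.mul_apply, hτ, swap_inv]
      rw [not_iff_not]
      constructor
      · intro h
        have := congrArg (swap a b) h
        simpa using this
      · intro h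
        rw [h]; simp
    rw [hkey]
    by_cases hxa : x = a
    · rw [hxa, hτ, swap_apply_left]
      exact ⟨fun _ => ha, fun _ => hσb⟩
    · by_cases hxb : x = b
      · rw [hxb, hτ, swap_apply_right]
        exact ⟨fun _ => hσb, fun _ => ha⟩
      · rw [hτ, swap_apply_of_ne_of_ne hxa hxb]
  obtain ⟨c, hc⟩ := hmem σ hσ
  obtain ⟨c', hc'⟩ := hmem σ' hσ'cyc
  have hcord : orderOf c = p := by rw [← orderOf_injective ι hι c, hc]; exact hσord
  have hc'ord : orderOf c' = p := by rw [← orderOf_injective ι hι c', hc']; exact hσ'ord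
  have hB : stab ι {x | σ x ≠ x} ≠ ⊤ := by
    intro htop
    obtain ⟨y, hy⟩ : ∃ y, y ∉ σ.support := by
      by_contra hcon
      push Not at hcon
      have : σ.support = Finset.univ := Finset.eq_univ_iff_forall.mpr hcon
      rw [this, Finset.card_univ, Fintype.card_fin] at hσsupp
      omega
    rw [Equiv.Perm.mem_support, not_not] at hy
    have hay : a ≠ y := fun h => ha (h ▸ hy)
    obtain ⟨g, hg⟩ := htr a y hay
    have hgm : g ∈ stab ι {x | σ x ≠ x} := by rw [htop]; exact Subgroup.mem_top g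
    have := ((mem_stab _ _ _).mp hgm a).mpr ha
    rw [hg] at this
    exact this hy
  apply abs_of_cent p hp2 (stab ι {x | σ x ≠ x}) hB c c' hcord hc'ord
  · intro g hg
    have := cent_stab ι c g hg
    rw [hc] at this; exact this
  · intro g hg
    have := cent_stab ι c' g hg
    rw [hc'] at this
    have e : {x | σ' x ≠ x} = {x | σ x ≠ x} := Set.ext hsuppeq
    rw [e] at this; exact this
  · intro hmz
    apply hnot
    obtain ⟨k, hk⟩ := Subgroup.mem_zpowers_iff.mp hmz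
    rw [← hc', ← hk, map_zpow, hc]
    exact Subgroup.zpow_mem _ (Subgroup.mem_zpowers σ) k
  all_goals assumption

theorem bertrand6 (n : ℕ) (hn : 6 ≤ n) : ∃ p : ℕ, p.Prime ∧ 5 ≤ p ∧ p < n ∧ n < 2 * p := by
  obtain ⟨p, hp, h1, h2⟩ := Nat.exists_prime_lt_and_le_two_mul (n / 2) (by omega)
  refine ⟨p, hp, ?_, ?_, ?_⟩
  · have h3 : 4 ≤ p := by omega
    rcases Nat.lt_or_ge 4 p with h | h
    · omega
    · have h4 : p = 4 := by omega
      rw [h4] at hp; exact absurd hp (by norm_num)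
  · have h3 : p ≤ n := by omega
    rcases Nat.lt_or_ge p n with h | h
    · exact h
    · have h5 : p = 2 * (n / 2) := by omega
      have h6 : 2 ∣ p := ⟨n / 2, h5⟩
      have h7 := (Nat.prime_dvd_prime_iff_eq Nat.prime_two hp).mp h6
      omega
  · omega

theorem sym_big (n : ℕ) (hn : 6 ≤ n) (𝓐 : Finset (Subgroup (Perm (Fin n))))
    (hprop : ∀ A ∈ 𝓐, A ≠ ⊤) (hcov : ∀ g : Perm (Fin n), ∃ A ∈ 𝓐, g ∈ A)
    (hnil : ∀ A ∈ 𝓐, Group.IsNilpotent ↥A) :
    ∃ 𝓑 : Finset (Subgroup (Perm (Fin n))),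
      ((∀ A ∈ 𝓑, A ≠ ⊤) ∧ (∀ g : Perm (Fin n), ∃ A ∈ 𝓑, g ∈ A)) ∧ 𝓑.card < 𝓐.card := by
  obtain ⟨p, hp, hp5, hpn, hn2p⟩ := bertrand6 n hn
  haveI : Fact p.Prime := ⟨hp⟩
  apply big_case n (MonoidHom.id _) (fun _ _ h => h) p hp5 hpn hn2p _ _ 𝓐 hprop hcov hnil
  · intro σ _; exact ⟨σ, rfl⟩
  · intro x y _; exact ⟨swap x y, swap_apply_left x y⟩

theorem alt_big (n : ℕ) (hn : 6 ≤ n) (𝓐 : Finset (Subgroup (alternatingGroup (Fin n))))
    (hprop : ∀ A ∈ 𝓐, A ≠ ⊤) (hcov : ∀ g : alternatingGroup (Fin n), ∃ A ∈ 𝓐, g ∈ A)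
    (hnil : ∀ A ∈ 𝓐, Group.IsNilpotent ↥A) :
    ∃ 𝓑 : Finset (Subgroup (alternatingGroup (Fin n))),
      ((∀ A ∈ 𝓑, A ≠ ⊤) ∧ (∀ g : alternatingGroup (Fin n), ∃ A ∈ 𝓑, g ∈ A)) ∧
        𝓑.card < 𝓐.card := by
  obtain ⟨p, hp, hp5, hpn, hn2p⟩ := bertrand6 n hn
  haveI : Fact p.Prime := ⟨hp⟩
  apply big_case n (alternatingGroup (Fin n)).subtype (Subgroup.subtype_injective _) p hp5 hpn
    hn2p _ _ 𝓐 hprop hcov hnil
  · intro σ hσ
    have hodd : Odd p := hp.odd_of_ne_two (by omega)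
    have hs : Equiv.Perm.sign σ = 1 := by
      rw [Equiv.Perm.sign_of_cycleType, hσ]
      simp only [Multiset.sum_singleton, Multiset.card_singleton]
      exact Even.neg_one_pow (hodd.add_one)
    exact ⟨⟨σ, Equiv.Perm.mem_alternatingGroup.mpr hs⟩, rfl⟩
  · intro x y hxy
    obtain ⟨z, hzx, hzy⟩ : ∃ z : Fin n, z ≠ x ∧ z ≠ y := by
      by_contra hcon
      push Not at hcon
      have hsub : (Finset.univ : Finset (Fin n)) ⊆ {x, y} := by
        intro z _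
        by_cases hz : z = x
        · simp [hz]
        · simp [hcon z hz]
      have h1 := Finset.card_le_card hsub
      have h2 : ({x, y} : Finset (Fin n)).card ≤ 2 := Finset.card_le_two
      rw [Finset.card_univ, Fintype.card_fin] at h1
      omega
    refine ⟨⟨swap x y * swap y z, ?_⟩, ?_⟩
    · rw [Equiv.Perm.mem_alternatingGroup, map_mul, Equiv.Perm.sign_swap hxy,
        Equiv.Perm.sign_swap (Ne.symm hzy)]
      simp
    · show (swap x y * swap y z) x = y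
      rw [Perm.mul_apply, swap_apply_of_ne_of_ne hxy (Ne.symm hzx), swap_apply_left]

set_option maxRecDepth 100000 in
theorem sym4 (𝓐 : Finset (Subgroup (Perm (Fin 4))))
    (hprop : ∀ A ∈ 𝓐, A ≠ ⊤) (hcov : ∀ g : Perm (Fin 4), ∃ A ∈ 𝓐, g ∈ A)
    (hnil : ∀ A ∈ 𝓐, Group.IsNilpotent ↥A) :
    ∃ 𝓑 : Finset (Subgroup (Perm (Fin 4))),
      ((∀ A ∈ 𝓑, A ≠ ⊤) ∧ (∀ g : Perm (Fin 4), ∃ A ∈ 𝓑, g ∈ A)) ∧ 𝓑.card < 𝓐.card := by
  haveI : Fact (Nat.Prime 3) := ⟨Nat.prime_three⟩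
  have hp2 : ¬ 3 ^ 2 ∣ Nat.card (Perm (Fin 4)) := by
    rw [Nat.card_perm, Nat.card_fin]; decide
  have hB : alternatingGroup (Fin 4) ≠ ⊤ := by
    intro h
    have h1 : (swap 0 1 : Perm (Fin 4)) ∈ alternatingGroup (Fin 4) := by
      rw [h]; exact Subgroup.mem_top _
    rw [Equiv.Perm.mem_alternatingGroup] at h1
    revert h1; decide
  have hc : orderOf (swap 0 1 * swap 1 2 : Perm (Fin 4)) = 3 :=
    orderOf_eq_prime (by decide) (by decide)
  have hc' : orderOf (swap 0 1 * swap 1 3 : Perm (Fin 4)) = 3 :=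
    orderOf_eq_prime (by decide) (by decide)
  have hcen : ∀ g : Perm (Fin 4), g * (swap 0 1 * swap 1 2 : Perm (Fin 4)) =
      (swap 0 1 * swap 1 2 : Perm (Fin 4)) * g → Equiv.Perm.sign g = 1 := by decide
  have hcen' : ∀ g : Perm (Fin 4), g * (swap 0 1 * swap 1 3 : Perm (Fin 4)) =
      (swap 0 1 * swap 1 3 : Perm (Fin 4)) * g → Equiv.Perm.sign g = 1 := by decide
  apply abs_of_cent 3 hp2 (alternatingGroup (Fin 4)) hB _ _ hc hc'
    (fun g hg => Equiv.Perm.mem_alternatingGroup.mpr (hcen g hg))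
    (fun g hg => Equiv.Perm.mem_alternatingGroup.mpr (hcen' g hg)) _ 𝓐 hprop hcov hnil
  intro h
  obtain ⟨k, hk⟩ := Subgroup.mem_zpowers_iff.mp h
  have h1 : (swap 0 1 * swap 1 3 : Perm (Fin 4)) * (swap 0 1 * swap 1 2 : Perm (Fin 4)) =
      (swap 0 1 * swap 1 2 : Perm (Fin 4)) * (swap 0 1 * swap 1 3 : Perm (Fin 4)) := by
    rw [← hk]; exact ((Commute.refl _).zpow_left k).eq
  revert h1; decide

set_option maxRecDepth 100000 in
theorem sym5 (𝓐 : Finset (Subgroup (Perm (Fin 5))))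
    (hprop : ∀ A ∈ 𝓐, A ≠ ⊤) (hcov : ∀ g : Perm (Fin 5), ∃ A ∈ 𝓐, g ∈ A)
    (hnil : ∀ A ∈ 𝓐, Group.IsNilpotent ↥A) :
    ∃ 𝓑 : Finset (Subgroup (Perm (Fin 5))),
      ((∀ A ∈ 𝓑, A ≠ ⊤) ∧ (∀ g : Perm (Fin 5), ∃ A ∈ 𝓑, g ∈ A)) ∧ 𝓑.card < 𝓐.card := by
  haveI : Fact (Nat.Prime 5) := ⟨Nat.prime_five⟩
  have hp2 : ¬ 5 ^ 2 ∣ Nat.card (Perm (Fin 5)) := by
    rw [Nat.card_perm, Nat.card_fin]; decide
  have hB : alternatingGroup (Fin 5) ≠ ⊤ := by
    intro h
    have h1 : (swap 0 1 : Perm (Fin 5)) ∈ alternatingGroup (Fin 5) := by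
      rw [h]; exact Subgroup.mem_top _
    rw [Equiv.Perm.mem_alternatingGroup] at h1
    revert h1; decide
  have hc : orderOf (swap 0 1 * swap 1 2 * swap 2 3 * swap 3 4 : Perm (Fin 5)) = 5 :=
    orderOf_eq_prime (by decide) (by decide)
  have hc' : orderOf (swap 0 2 * swap 2 1 * swap 1 3 * swap 3 4 : Perm (Fin 5)) = 5 :=
    orderOf_eq_prime (by decide) (by decide)
  have hcen : ∀ g : Perm (Fin 5), g * (swap 0 1 * swap 1 2 * swap 2 3 * swap 3 4 : Perm (Fin 5)) =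
      (swap 0 1 * swap 1 2 * swap 2 3 * swap 3 4 : Perm (Fin 5)) * g →
        Equiv.Perm.sign g = 1 := by decide
  have hcen' : ∀ g : Perm (Fin 5),
      g * (swap 0 2 * swap 2 1 * swap 1 3 * swap 3 4 : Perm (Fin 5)) =
      (swap 0 2 * swap 2 1 * swap 1 3 * swap 3 4 : Perm (Fin 5)) * g →
        Equiv.Perm.sign g = 1 := by decide
  apply abs_of_cent 5 hp2 (alternatingGroup (Fin 5)) hB _ _ hc hc'
    (fun g hg => Equiv.Perm.mem_alternatingGroup.mpr (hcen g hg))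
    (fun g hg => Equiv.Perm.mem_alternatingGroup.mpr (hcen' g hg)) _ 𝓐 hprop hcov hnil
  intro h
  obtain ⟨k, hk⟩ := Subgroup.mem_zpowers_iff.mp h
  have h1 : (swap 0 2 * swap 2 1 * swap 1 3 * swap 3 4 : Perm (Fin 5)) *
      (swap 0 1 * swap 1 2 * swap 2 3 * swap 3 4 : Perm (Fin 5)) =
      (swap 0 1 * swap 1 2 * swap 2 3 * swap 3 4 : Perm (Fin 5)) *
      (swap 0 2 * swap 2 1 * swap 1 3 * swap 3 4 : Perm (Fin 5)) := by
    rw [← hk]; exact ((Commute.refl _).zpow_left k).eq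
  revert h1; decide

set_option maxRecDepth 100000 in
theorem alt5 (𝓐 : Finset (Subgroup (alternatingGroup (Fin 5))))
    (hprop : ∀ A ∈ 𝓐, A ≠ ⊤) (hcov : ∀ g : alternatingGroup (Fin 5), ∃ A ∈ 𝓐, g ∈ A)
    (hnil : ∀ A ∈ 𝓐, Group.IsNilpotent ↥A) :
    ∃ 𝓑 : Finset (Subgroup (alternatingGroup (Fin 5))),
      ((∀ A ∈ 𝓑, A ≠ ⊤) ∧ (∀ g : alternatingGroup (Fin 5), ∃ A ∈ 𝓑, g ∈ A)) ∧
        𝓑.card < 𝓐.card := by
  haveI : Fact (Nat.Prime 3) := ⟨Nat.prime_three⟩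
  have hp2 : ¬ 3 ^ 2 ∣ Nat.card (alternatingGroup (Fin 5)) := by
    intro h
    have h1 := h.trans (Subgroup.card_subgroup_dvd_card (alternatingGroup (Fin 5)))
    rw [Nat.card_perm, Nat.card_fin] at h1
    revert h1; decide
  have hm1 : (swap 0 1 * swap 1 2 : Perm (Fin 5)) ∈ alternatingGroup (Fin 5) := by
    rw [Equiv.Perm.mem_alternatingGroup]; decide
  have hm2 : (swap 0 1 * swap 1 3 : Perm (Fin 5)) ∈ alternatingGroup (Fin 5) := by
    rw [Equiv.Perm.mem_alternatingGroup]; decide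
  have hm3 : (swap 0 1 * swap 1 4 : Perm (Fin 5)) ∈ alternatingGroup (Fin 5) := by
    rw [Equiv.Perm.mem_alternatingGroup]; decide
  have hB : stab (alternatingGroup (Fin 5)).subtype {(4 : Fin 5)} ≠ ⊤ := by
    intro h
    have h1 : (⟨_, hm3⟩ : alternatingGroup (Fin 5)) ∈
        stab (alternatingGroup (Fin 5)).subtype {(4 : Fin 5)} := by
      rw [h]; exact Subgroup.mem_top _
    have h2 := ((mem_stab _ _ _).mp h1 4).mpr rfl
    have h3 : (swap 0 1 * swap 1 4 : Perm (Fin 5)) 4 = 4 := h2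
    revert h3; decide
  have hc : orderOf (⟨_, hm1⟩ : alternatingGroup (Fin 5)) = 3 := by
    rw [← Subgroup.orderOf_coe]
    show orderOf (swap 0 1 * swap 1 2 : Perm (Fin 5)) = 3
    exact orderOf_eq_prime (by decide) (by decide)
  have hc' : orderOf (⟨_, hm2⟩ : alternatingGroup (Fin 5)) = 3 := by
    rw [← Subgroup.orderOf_coe]
    show orderOf (swap 0 1 * swap 1 3 : Perm (Fin 5)) = 3
    exact orderOf_eq_prime (by decide) (by decide)
  have hcen : ∀ g : Perm (Fin 5), Equiv.Perm.sign g = 1 →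
      g * (swap 0 1 * swap 1 2 : Perm (Fin 5)) = (swap 0 1 * swap 1 2 : Perm (Fin 5)) * g →
        g 4 = 4 := by decide
  have hcen' : ∀ g : Perm (Fin 5), Equiv.Perm.sign g = 1 →
      g * (swap 0 1 * swap 1 3 : Perm (Fin 5)) = (swap 0 1 * swap 1 3 : Perm (Fin 5)) * g →
        g 4 = 4 := by decide
  have hst : ∀ g : alternatingGroup (Fin 5), (g : Perm (Fin 5)) 4 = 4 →
      g ∈ stab (alternatingGroup (Fin 5)).subtype {(4 : Fin 5)} := by
    intro g hg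
    rw [mem_stab]
    intro x
    simp only [Set.mem_singleton_iff, Subgroup.coe_subtype]
    constructor
    · intro h
      apply (g : Perm (Fin 5)).injective
      rw [h, hg]
    · intro h
      rw [h, hg]
  apply abs_of_cent 3 hp2 (stab (alternatingGroup (Fin 5)).subtype {(4 : Fin 5)}) hB _ _ hc hc'
    (fun g hg => hst g (hcen g (Equiv.Perm.mem_alternatingGroup.mp g.2)
      (congrArg Subtype.val hg)))
    (fun g hg => hst g (hcen' g (Equiv.Perm.mem_alternatingGroup.mp g.2)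
      (congrArg Subtype.val hg))) _ 𝓐 hprop hcov hnil
  intro h
  obtain ⟨k, hk⟩ := Subgroup.mem_zpowers_iff.mp h
  have h0 : (⟨_, hm2⟩ : alternatingGroup (Fin 5)) * ⟨_, hm1⟩ = ⟨_, hm1⟩ * ⟨_, hm2⟩ := by
    rw [← hk]; exact ((Commute.refl _).zpow_left k).eq
  have h1 : (swap 0 1 * swap 1 3 : Perm (Fin 5)) * (swap 0 1 * swap 1 2 : Perm (Fin 5)) =
      (swap 0 1 * swap 1 2 : Perm (Fin 5)) * (swap 0 1 * swap 1 3 : Perm (Fin 5)) :=
    congrArg Subtype.val h0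
  revert h1; decide

theorem sym_case (n : ℕ) (hn : 4 ≤ n) (𝓐 : Finset (Subgroup (Perm (Fin n))))
    (hprop : ∀ A ∈ 𝓐, A ≠ ⊤) (hcov : ∀ g : Perm (Fin n), ∃ A ∈ 𝓐, g ∈ A)
    (hnil : ∀ A ∈ 𝓐, Group.IsNilpotent ↥A) :
    ∃ 𝓑 : Finset (Subgroup (Perm (Fin n))),
      ((∀ A ∈ 𝓑, A ≠ ⊤) ∧ (∀ g : Perm (Fin n), ∃ A ∈ 𝓑, g ∈ A)) ∧ 𝓑.card < 𝓐.card := by
  rcases Nat.lt_or_ge n 6 with h | h
  · interval_cases n
    · exact sym4 𝓐 hprop hcov hnil
    · exact sym5 𝓐 hprop hcov hnil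
  · exact sym_big n h 𝓐 hprop hcov hnil

theorem alt_case (n : ℕ) (hn : 5 ≤ n) (𝓐 : Finset (Subgroup (alternatingGroup (Fin n))))
    (hprop : ∀ A ∈ 𝓐, A ≠ ⊤) (hcov : ∀ g : alternatingGroup (Fin n), ∃ A ∈ 𝓐, g ∈ A)
    (hnil : ∀ A ∈ 𝓐, Group.IsNilpotent ↥A) :
    ∃ 𝓑 : Finset (Subgroup (alternatingGroup (Fin n))),
      ((∀ A ∈ 𝓑, A ≠ ⊤) ∧ (∀ g : alternatingGroup (Fin n), ∃ A ∈ 𝓑, g ∈ A)) ∧
        𝓑.card < 𝓐.card := by
  rcases Nat.lt_or_ge n 6 with h | h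
  · interval_cases n
    exact alt5 𝓐 hprop hcov hnil
  · exact alt_big n h 𝓐 hprop hcov hnil

end Cfsg.Agent.Lib.Helper25.NilCover
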