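import Mathlib
import Cfsg.Agent.Lib.Helper25.NilCover

set_option autoImplicit false

namespace Cfsg.Agent.Lib.Helper25.NilCoverB

open Matrix

/-- iterated commutators with a fixed element of a nilpotent subgroup become trivial -/
theorem chain_trivial {Γ : Type*} [Group Γ] (S : Subgroup Γ) (hS : Group.IsNilpotent ↥S)
    (g : Γ) (hg : g ∈ S) (φ : ℕ → Γ) (h0 : φ 0 ∈ S)
    (hstep : ∀ k, φ (k + 1) = φ k * g * (φ k)⁻¹ * g⁻¹) : ∃ k, φ k = 1 := by
  obtain ⟨K, hK⟩ := (Subgroup.isNilpotent_iff_lowerCentralSeries S).mp hS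
  have key : ∀ k, φ k ∈ S.lowerCentralSeries k := by
    intro k
    induction k with
    | zero => exact h0
    | succ k ih =>
      rw [hstep k, Subgroup.lowerCentralSeries_succ]
      exact Subgroup.commutator_mem_commutator ih hg
  refine ⟨K, ?_⟩
  have h := key K
  rw [hK] at h
  exact Subgroup.mem_bot.mp h

/-- replacing an injective family of members by proper subgroups containing them, and dropping
one more member covered by the family -/
theorem absorb_family {Γ : Type*} [Group Γ] {I : Type*} [Fintype I] (D : I → Subgroup Γ)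
    (hD : ∀ i, D i ≠ ⊤)
    (𝓐 : Finset (Subgroup Γ)) (hprop : ∀ A ∈ 𝓐, A ≠ ⊤) (hcov : ∀ g : Γ, ∃ A ∈ 𝓐, g ∈ A)
    (m : I → Subgroup Γ) (hm : ∀ i, m i ∈ 𝓐) (hminj : Function.Injective m)
    (hmD : ∀ i, m i ≤ D i)
    (Astar : Subgroup Γ) (hA : Astar ∈ 𝓐) (hAm : ∀ i, Astar ≠ m i)
    (hAD : ∀ g ∈ Astar, ∃ i, g ∈ D i) :
    ∃ 𝓑 : Finset (Subgroup Γ), ((∀ A ∈ 𝓑, A ≠ ⊤) ∧ (∀ g : Γ, ∃ A ∈ 𝓑, g ∈ A)) ∧
      𝓑.card < 𝓐.card := by
  classical
  obtain ⟨R, hR⟩ : ∃ R : Finset (Subgroup Γ), R = insert Astar (Finset.univ.image m) := ⟨_, rfl⟩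
  refine ⟨(𝓐 \ R) ∪ Finset.univ.image D, ⟨?_, ?_⟩, ?_⟩
  · intro A hA'
    rcases Finset.mem_union.mp hA' with h | h
    · exact hprop A (Finset.mem_sdiff.mp h).1
    · obtain ⟨i, _, rfl⟩ := Finset.mem_image.mp h; exact hD i
  · intro g
    obtain ⟨A, hA', hg⟩ := hcov g
    by_cases hAR : A ∈ R
    · rw [hR] at hAR
      rcases Finset.mem_insert.mp hAR with rfl | h
      · obtain ⟨i, hi⟩ := hAD g hg
        exact ⟨D i, Finset.mem_union_right _ (Finset.mem_image_of_mem _ (Finset.mem_univ i)), hi⟩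
      · obtain ⟨i, _, rfl⟩ := Finset.mem_image.mp h
        exact ⟨D i, Finset.mem_union_right _ (Finset.mem_image_of_mem _ (Finset.mem_univ i)),
          hmD i hg⟩
    · exact ⟨A, Finset.mem_union_left _ (Finset.mem_sdiff.mpr ⟨hA', hAR⟩), hg⟩
  · have hRsub : R ⊆ 𝓐 := by
      intro A hA'
      rw [hR] at hA'
      rcases Finset.mem_insert.mp hA' with rfl | h
      · exact hA
      · obtain ⟨i, _, rfl⟩ := Finset.mem_image.mp h; exact hm i
    have hRcard : R.card = Fintype.card I + 1 := by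
      rw [hR, Finset.card_insert_of_notMem, Finset.card_image_of_injective _ hminj,
        Finset.card_univ]
      intro h
      obtain ⟨i, _, hi⟩ := Finset.mem_image.mp h
      exact hAm i hi.symm
    have h1 : (𝓐 \ R).card = 𝓐.card - R.card := Finset.card_sdiff_of_subset hRsub
    have h2 : (Finset.univ.image D).card ≤ Fintype.card I :=
      Finset.card_image_le.trans (by simp)
    have h3 := Finset.card_union_le (𝓐 \ R) (Finset.univ.image D)
    have h4 := Finset.card_le_card hRsub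
    omega

/-- in a finite nilpotent group the `p`-elements lie in a normal `p`-subgroup -/
theorem exists_normal_pgroup {Γ : Type*} [Group Γ] [Finite Γ] [hn : Group.IsNilpotent Γ]
    (p : ℕ) [hp : Fact p.Prime] :
    ∃ P : Subgroup Γ, P.Normal ∧ IsPGroup p P ∧
      ∀ g : Γ, (∃ k : ℕ, g ^ (p ^ k) = 1) → g ∈ P := by
  obtain ⟨P⟩ : Nonempty (Sylow p Γ) := inferInstance
  have h03 : Group.IsNilpotent Γ ↔ ∀ (p : ℕ) (_hp : Fact p.Prime) (P : Sylow p Γ),
      (P : Subgroup Γ).Normal := (Group.isNilpotent_of_finite_tfae (G := Γ)).out 0 3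
  have hPn : (P : Subgroup Γ).Normal := h03.mp hn p hp P
  refine ⟨P, hPn, P.isPGroup', ?_⟩
  rintro g ⟨k, hk⟩
  have hpg : IsPGroup p (Subgroup.zpowers g) := by
    rintro ⟨x, hx⟩
    obtain ⟨m, rfl⟩ := Subgroup.mem_zpowers_iff.mp hx
    refine ⟨k, ?_⟩
    apply Subtype.ext
    show (g ^ m) ^ (p ^ k) = 1
    rw [← zpow_natCast, ← _root_.zpow_mul, mul_comm, _root_.zpow_mul, zpow_natCast, hk, _root_.one_zpow]
  obtain ⟨Q, hQ⟩ := hpg.exists_le_sylow
  obtain ⟨x, hx⟩ := MulAction.exists_smul_eq Γ P Q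
  haveI := hPn
  rw [Sylow.smul_eq_of_normal] at hx
  rw [hx]; exact hQ (Subgroup.mem_zpowers g)

section GLsec

variable {n : ℕ} {F : Type*} [Field F]

/-- the natural action on column vectors -/
@[reducible] def colAct (P : Subgroup (GL (Fin n) F)) : MulAction P (Fin n → F) where
  smul g v := (g.1 : Matrix (Fin n) (Fin n) F) *ᵥ v
  one_smul v := by
    show ((1 : GL (Fin n) F) : Matrix (Fin n) (Fin n) F) *ᵥ v = v
    simp
  mul_smul g h v := by
    show ((g.1 * h.1 : GL (Fin n) F) : Matrix (Fin n) (Fin n) F) *ᵥ v =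
      (g.1 : Matrix (Fin n) (Fin n) F) *ᵥ ((h.1 : Matrix (Fin n) (Fin n) F) *ᵥ v)
    rw [Matrix.mulVec_mulVec]; rfl

/-- the natural action on row vectors -/
@[reducible] def rowAct (P : Subgroup (GL (Fin n) F)) : MulAction P (Fin n → F) where
  smul g w := w ᵥ* ((g.1⁻¹ : GL (Fin n) F) : Matrix (Fin n) (Fin n) F)
  one_smul w := by
    show w ᵥ* (((1 : GL (Fin n) F)⁻¹ : GL (Fin n) F) : Matrix (Fin n) (Fin n) F) = w
    simp
  mul_smul g h w := by
    show w ᵥ* (((g.1 * h.1)⁻¹ : GL (Fin n) F) : Matrix (Fin n) (Fin n) F) =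
      (w ᵥ* ((h.1⁻¹ : GL (Fin n) F) : Matrix (Fin n) (Fin n) F)) ᵥ*
        ((g.1⁻¹ : GL (Fin n) F) : Matrix (Fin n) (Fin n) F)
    rw [Matrix.vecMul_vecMul, _root_.mul_inv_rev]; rfl

theorem exists_fixed_col [NeZero n] [Fintype F] (p : ℕ) [hp : Fact p.Prime] [CharP F p]
    (P : Subgroup (GL (Fin n) F)) (hP : IsPGroup p P) :
    ∃ v : Fin n → F, v ≠ 0 ∧ ∀ h ∈ P, (h : Matrix (Fin n) (Fin n) F) *ᵥ v = v := by
  have hcard : p ∣ Nat.card (Fin n → F) := by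
    obtain ⟨m, _, hm⟩ := FiniteField.card F p
    rw [Nat.card_fun, Nat.card_eq_fintype_card, hm, Nat.card_fin]
    exact dvd_pow (dvd_pow_self p m.pos.ne') (NeZero.ne n)
  have h0 : (0 : Fin n → F) ∈ @MulAction.fixedPoints P (Fin n → F) _ (colAct P) := by
    intro g
    show (g.1 : Matrix (Fin n) (Fin n) F) *ᵥ 0 = 0
    simp
  obtain ⟨b, hb, hne⟩ := @IsPGroup.exists_fixed_point_of_prime_dvd_card_of_fixed_point p P _ hP
    hp (Fin n → F) (colAct P) _ hcard 0 h0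
  refine ⟨b, Ne.symm hne, ?_⟩
  intro h hh
  exact hb ⟨h, hh⟩

theorem exists_fixed_row [NeZero n] [Fintype F] (p : ℕ) [hp : Fact p.Prime] [CharP F p]
    (P : Subgroup (GL (Fin n) F)) (hP : IsPGroup p P) :
    ∃ w : Fin n → F, w ≠ 0 ∧ ∀ h ∈ P, w ᵥ* (h : Matrix (Fin n) (Fin n) F) = w := by
  have hcard : p ∣ Nat.card (Fin n → F) := by
    obtain ⟨m, _, hm⟩ := FiniteField.card F p
    rw [Nat.card_fun, Nat.card_eq_fintype_card, hm, Nat.card_fin]
    exact dvd_pow (dvd_pow_self p m.pos.ne') (NeZero.ne n)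
  have h0 : (0 : Fin n → F) ∈ @MulAction.fixedPoints P (Fin n → F) _ (rowAct P) := by
    intro g
    show (0 : Fin n → F) ᵥ* ((g.1⁻¹ : GL (Fin n) F) : Matrix (Fin n) (Fin n) F) = 0
    simp
  obtain ⟨b, hb, hne⟩ := @IsPGroup.exists_fixed_point_of_prime_dvd_card_of_fixed_point p P _ hP
    hp (Fin n → F) (rowAct P) _ hcard 0 h0
  refine ⟨b, Ne.symm hne, ?_⟩
  intro h hh
  have h1 : b ᵥ* (((h⁻¹)⁻¹ : GL (Fin n) F) : Matrix (Fin n) (Fin n) F) = b :=
    hb ⟨h⁻¹, Subgroup.inv_mem _ hh⟩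
  rwa [inv_inv] at h1

theorem exists_pel_sub [Fintype F] (p : ℕ) [hp : Fact p.Prime]
    (S : Subgroup (GL (Fin n) F)) (hS : Group.IsNilpotent ↥S) :
    ∃ P : Subgroup (GL (Fin n) F), IsPGroup p P ∧
      (∀ u ∈ S, (∃ k : ℕ, u ^ (p ^ k) = 1) → u ∈ P) ∧
      (∀ g ∈ S, ∀ h ∈ P, g⁻¹ * h * g ∈ P) := by
  haveI := hS
  obtain ⟨P, hPn, hPp, hPall⟩ := exists_normal_pgroup (Γ := ↥S) p
  refine ⟨P.map S.subtype, hPp.map _, ?_, ?_⟩
  · rintro u hu ⟨k, hk⟩
    exact ⟨⟨u, hu⟩, hPall ⟨u, hu⟩ ⟨k, Subtype.ext (by simpa using hk)⟩, rfl⟩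
  · rintro g hg h ⟨h', hh', rfl⟩
    refine ⟨(⟨g, hg⟩ : S)⁻¹ * h' * ⟨g, hg⟩, ?_, by simp⟩
    have := hPn.conj_mem h' hh' (⟨g, hg⟩ : S)⁻¹
    simpa using this

/-- the stabiliser of the line spanned by `e` -/
def lineStab (e : Fin n → F) : Subgroup (GL (Fin n) F) where
  carrier := {g | ∃ c : F, (g : Matrix (Fin n) (Fin n) F) *ᵥ e = c • e}
  mul_mem' := by
    rintro a b ⟨c, hc⟩ ⟨d, hd⟩
    refine ⟨d * c, ?_⟩
    rw [Units.val_mul, ← Matrix.mulVec_mulVec, hd, Matrix.mulVec_smul, hc, smul_smul]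
  one_mem' := ⟨1, by simp⟩
  inv_mem' := by
    rintro a ⟨c, hc⟩
    have h1 : ((a⁻¹ : GL (Fin n) F) : Matrix (Fin n) (Fin n) F) *ᵥ
        ((a : Matrix (Fin n) (Fin n) F) *ᵥ e) = e := by
      rw [Matrix.mulVec_mulVec, ← Units.val_mul, inv_mul_cancel]; simp
    rw [hc, Matrix.mulVec_smul] at h1
    by_cases hc0 : c = 0
    · have he : e = 0 := by
        rw [hc0] at h1; simpa using h1.symm
      exact ⟨0, by rw [he]; simp⟩
    · refine ⟨c⁻¹, ?_⟩
      have h2 := congrArg (fun x => c⁻¹ • x) h1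
      simp only [smul_smul, inv_mul_cancel₀ hc0, one_smul] at h2
      exact h2

theorem mem_lineStab (e : Fin n → F) (g : GL (Fin n) F) :
    g ∈ lineStab e ↔ ∃ c : F, (g : Matrix (Fin n) (Fin n) F) *ᵥ e = c • e := Iff.rfl

theorem center_le_lineStab (e : Fin n → F) :
    Subgroup.center (GL (Fin n) F) ≤ lineStab e := by
  intro z hz
  obtain ⟨a, ha⟩ := Matrix.GeneralLinearGroup.mem_center_iff_val_mem_range_scalar.mp hz
  refine ⟨a, ?_⟩
  rw [← ha, Matrix.scalar_apply]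
  ext i
  simp [Matrix.mulVec_diagonal]

theorem le_lineStab [NeZero n] [Fintype F] (p : ℕ) [hp : Fact p.Prime] [CharP F p]
    (S : Subgroup (GL (Fin n) F)) (hS : Group.IsNilpotent ↥S)
    (u : GL (Fin n) F) (hu : u ∈ S) (hup : ∃ k : ℕ, u ^ (p ^ k) = 1) (e : Fin n → F)
    (hfix : ∀ v : Fin n → F, (u : Matrix (Fin n) (Fin n) F) *ᵥ v = v → ∃ c : F, v = c • e) :
    S ≤ lineStab e := by
  obtain ⟨P, hPp, hPall, hPn⟩ := exists_pel_sub p S hS
  obtain ⟨v, hv0, hv⟩ := exists_fixed_col p P hPp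
  have huP := hPall u hu hup
  obtain ⟨c, hc⟩ := hfix v (hv u huP)
  have hc0 : c ≠ 0 := by rintro rfl; apply hv0; rw [hc]; simp
  intro g hg
  have hgv : (u : Matrix (Fin n) (Fin n) F) *ᵥ ((g : Matrix (Fin n) (Fin n) F) *ᵥ v) =
      (g : Matrix (Fin n) (Fin n) F) *ᵥ v := by
    have h1 := hv _ (hPn g hg u huP)
    have h2 : u * g = g * (g⁻¹ * u * g) := by group
    rw [Matrix.mulVec_mulVec, ← Units.val_mul, h2, Units.val_mul, ← Matrix.mulVec_mulVec, h1]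
  obtain ⟨c', hc'⟩ := hfix _ hgv
  refine ⟨c⁻¹ * c', ?_⟩
  subst hc
  rw [Matrix.mulVec_smul] at hc'
  have h2 := congrArg (fun x => c⁻¹ • x) hc'
  simp only [smul_smul, inv_mul_cancel₀ hc0, one_smul] at h2
  exact h2

theorem conj_fix_col (g u : GL (Fin n) F) (e : Fin n → F)
    (hfix : ∀ v : Fin n → F, (u : Matrix (Fin n) (Fin n) F) *ᵥ v = v → ∃ c : F, v = c • e)
    (v : Fin n → F) (h : ((g * u * g⁻¹ : GL (Fin n) F) : Matrix (Fin n) (Fin n) F) *ᵥ v = v) :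
    ∃ c : F, v = c • ((g : Matrix (Fin n) (Fin n) F) *ᵥ e) := by
  have h1 : (u : Matrix (Fin n) (Fin n) F) *ᵥ
      (((g⁻¹ : GL (Fin n) F) : Matrix (Fin n) (Fin n) F) *ᵥ v) =
      ((g⁻¹ : GL (Fin n) F) : Matrix (Fin n) (Fin n) F) *ᵥ v := by
    have h2 : u * g⁻¹ = g⁻¹ * (g * u * g⁻¹) := by group
    rw [Matrix.mulVec_mulVec, ← Units.val_mul, h2, Units.val_mul, ← Matrix.mulVec_mulVec, h]
  obtain ⟨c, hc⟩ := hfix _ h1
  refine ⟨c, ?_⟩
  have h3 : (g : Matrix (Fin n) (Fin n) F) *ᵥ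
      (((g⁻¹ : GL (Fin n) F) : Matrix (Fin n) (Fin n) F) *ᵥ v) = v := by
    rw [Matrix.mulVec_mulVec, ← Units.val_mul, mul_inv_cancel]; simp
  rw [← h3, hc, Matrix.mulVec_smul]

theorem conj_fix_row (g u : GL (Fin n) F) (w : Fin n → F)
    (h : w ᵥ* ((g * u * g⁻¹ : GL (Fin n) F) : Matrix (Fin n) (Fin n) F) = w) :
    (w ᵥ* (g : Matrix (Fin n) (Fin n) F)) ᵥ* (u : Matrix (Fin n) (Fin n) F) =
      w ᵥ* (g : Matrix (Fin n) (Fin n) F) := by
  have h2 : g * u = (g * u * g⁻¹) * g := by group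
  rw [Matrix.vecMul_vecMul, ← Units.val_mul, h2, Units.val_mul, ← Matrix.vecMul_vecMul, h]

theorem conj_pow_one (g u : GL (Fin n) F) (m : ℕ) (h : u ^ m = 1) : (g * u * g⁻¹) ^ m = 1 := by
  rw [conj_pow, h]; group

variable (G : Subgroup (GL (Fin n) F ⧸ Subgroup.center (GL (Fin n) F)))

/-- the stabiliser of a line inside a subgroup of the projective group -/
def stabG (e : Fin n → F) : Subgroup ↥G :=
  ((lineStab e).map (QuotientGroup.mk' (Subgroup.center (GL (Fin n) F)))).comap G.subtype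

theorem mem_stabG_of (e : Fin n → F) (x : G) (g : GL (Fin n) F)
    (hg : QuotientGroup.mk' (Subgroup.center (GL (Fin n) F)) g = x.1) (hgs : g ∈ lineStab e) :
    x ∈ stabG G e := ⟨g, hgs, hg⟩

theorem lineStab_of_mem_stabG (e : Fin n → F) (x : G) (hx : x ∈ stabG G e) (g : GL (Fin n) F)
    (hg : QuotientGroup.mk' (Subgroup.center (GL (Fin n) F)) g = x.1) : g ∈ lineStab e := by
  obtain ⟨g', hg', hgx⟩ := hx
  have h1 : g'⁻¹ * g ∈ Subgroup.center (GL (Fin n) F) := by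
    rw [← QuotientGroup.eq]
    exact hgx.trans hg.symm
  have h2 := Subgroup.mul_mem _ hg' (center_le_lineStab e h1)
  simpa using h2

/-- the full preimage in `GL` of a subgroup of `G` -/
def lift (A : Subgroup ↥G) : Subgroup (GL (Fin n) F) :=
  (A.map G.subtype).comap (QuotientGroup.mk' (Subgroup.center (GL (Fin n) F)))

theorem mem_lift_of (A : Subgroup ↥G) (x : G) (hx : x ∈ A) (g : GL (Fin n) F)
    (hg : QuotientGroup.mk' (Subgroup.center (GL (Fin n) F)) g = x.1) : g ∈ lift G A :=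
  ⟨x, hx, hg.symm⟩

theorem exists_of_mem_lift (A : Subgroup ↥G) (g : GL (Fin n) F) (hg : g ∈ lift G A) :
    ∃ x ∈ A, (x : G).1 = QuotientGroup.mk' (Subgroup.center (GL (Fin n) F)) g := hg

theorem center_le_lift (A : Subgroup ↥G) : Subgroup.center (GL (Fin n) F) ≤ lift G A := by
  intro z hz
  refine ⟨1, Subgroup.one_mem _, ?_⟩
  show (1 : GL (Fin n) F ⧸ Subgroup.center (GL (Fin n) F)) = _
  exact ((QuotientGroup.eq_one_iff z).mpr hz).symm

theorem lift_nilpotent (A : Subgroup ↥G) (hA : Group.IsNilpotent ↥A) :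
    Group.IsNilpotent ↥(lift G A) := by
  have h1 : ∀ g : lift G A,
      (QuotientGroup.mk' (Subgroup.center (GL (Fin n) F))).comp (lift G A).subtype g ∈ G := by
    intro g
    obtain ⟨a, ha, hag⟩ := exists_of_mem_lift G A g.1 g.2
    show QuotientGroup.mk' (Subgroup.center (GL (Fin n) F)) g.1 ∈ G
    rw [← hag]; exact a.2
  have h2 : ∀ g : lift G A,
      ((QuotientGroup.mk' (Subgroup.center (GL (Fin n) F))).comp
        (lift G A).subtype).codRestrict G h1 g ∈ A := by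
    intro g
    obtain ⟨a, ha, hag⟩ := exists_of_mem_lift G A g.1 g.2
    have h3 : a = ((QuotientGroup.mk' (Subgroup.center (GL (Fin n) F))).comp
        (lift G A).subtype).codRestrict G h1 g := Subtype.ext hag
    rw [← h3]; exact ha
  haveI := hA
  apply Subgroup.isNilpotent_of_ker_le_center
    ((((QuotientGroup.mk' (Subgroup.center (GL (Fin n) F))).comp
        (lift G A).subtype).codRestrict G h1).codRestrict A h2)
  intro g hg
  rw [MonoidHom.mem_ker] at hg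
  have h3 : QuotientGroup.mk' (Subgroup.center (GL (Fin n) F)) g.1 = 1 := by
    have := congrArg (fun a : A => (a : G).1) hg
    exact this
  have h4 : g.1 ∈ Subgroup.center (GL (Fin n) F) := (QuotientGroup.eq_one_iff _).mp h3
  rw [Subgroup.mem_center_iff]
  intro x
  apply Subtype.ext
  exact (Subgroup.mem_center_iff.mp h4) x.1

theorem le_stabG_of_unip [NeZero n] [Fintype F] (p : ℕ) [Fact p.Prime] [CharP F p]
    (A : Subgroup ↥G) (hA : Group.IsNilpotent ↥A) (s : GL (Fin n) F)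
    (hs : QuotientGroup.mk' (Subgroup.center (GL (Fin n) F)) s ∈ G)
    (hsA : (⟨_, hs⟩ : G) ∈ A) (hsp : ∃ k : ℕ, s ^ (p ^ k) = 1) (e : Fin n → F)
    (hfix : ∀ v : Fin n → F, (s : Matrix (Fin n) (Fin n) F) *ᵥ v = v → ∃ c : F, v = c • e) :
    A ≤ stabG G e := by
  have h1 := le_lineStab p (lift G A) (lift_nilpotent G A hA) s (mem_lift_of G A _ hsA s rfl)
    hsp e hfix
  intro x hx
  obtain ⟨g, hg⟩ := QuotientGroup.mk'_surjective (Subgroup.center (GL (Fin n) F)) x.1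
  exact mem_stabG_of G e x g hg (h1 (mem_lift_of G A x hx g hg))

theorem common_col [NeZero n] [Fintype F] (p : ℕ) [Fact p.Prime] [CharP F p]
    (A : Subgroup ↥G) (hA : Group.IsNilpotent ↥A) (s s' : GL (Fin n) F)
    (hs : QuotientGroup.mk' (Subgroup.center (GL (Fin n) F)) s ∈ G)
    (hs' : QuotientGroup.mk' (Subgroup.center (GL (Fin n) F)) s' ∈ G)
    (hsA : (⟨_, hs⟩ : G) ∈ A) (hs'A : (⟨_, hs'⟩ : G) ∈ A)
    (hsp : ∃ k : ℕ, s ^ (p ^ k) = 1) (hs'p : ∃ k : ℕ, s' ^ (p ^ k) = 1) :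
    ∃ v : Fin n → F, v ≠ 0 ∧ (s : Matrix (Fin n) (Fin n) F) *ᵥ v = v ∧
      (s' : Matrix (Fin n) (Fin n) F) *ᵥ v = v := by
  obtain ⟨P, hPp, hPall, _⟩ := exists_pel_sub p (lift G A) (lift_nilpotent G A hA)
  obtain ⟨v, hv0, hv⟩ := exists_fixed_col p P hPp
  exact ⟨v, hv0, hv s (hPall s (mem_lift_of G A _ hsA s rfl) hsp),
    hv s' (hPall s' (mem_lift_of G A _ hs'A s' rfl) hs'p)⟩

theorem common_row [NeZero n] [Fintype F] (p : ℕ) [Fact p.Prime] [CharP F p]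
    (A : Subgroup ↥G) (hA : Group.IsNilpotent ↥A) (s s' : GL (Fin n) F)
    (hs : QuotientGroup.mk' (Subgroup.center (GL (Fin n) F)) s ∈ G)
    (hs' : QuotientGroup.mk' (Subgroup.center (GL (Fin n) F)) s' ∈ G)
    (hsA : (⟨_, hs⟩ : G) ∈ A) (hs'A : (⟨_, hs'⟩ : G) ∈ A)
    (hsp : ∃ k : ℕ, s ^ (p ^ k) = 1) (hs'p : ∃ k : ℕ, s' ^ (p ^ k) = 1) :
    ∃ w : Fin n → F, w ≠ 0 ∧ w ᵥ* (s : Matrix (Fin n) (Fin n) F) = w ∧
      w ᵥ* (s' : Matrix (Fin n) (Fin n) F) = w := by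
  obtain ⟨P, hPp, hPall, _⟩ := exists_pel_sub p (lift G A) (lift_nilpotent G A hA)
  obtain ⟨w, hw0, hw⟩ := exists_fixed_row p P hPp
  exact ⟨w, hw0, hw s (hPall s (mem_lift_of G A _ hsA s rfl) hsp),
    hw s' (hPall s' (mem_lift_of G A _ hs'A s' rfl) hs'p)⟩

theorem stabG_ne_top (e : Fin n → F) (t : GL (Fin n) F)
    (ht : QuotientGroup.mk' (Subgroup.center (GL (Fin n) F)) t ∈ G)
    (hte : ∀ c : F, (t : Matrix (Fin n) (Fin n) F) *ᵥ e ≠ c • e) : stabG G e ≠ ⊤ := by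
  intro h
  have h1 : (⟨_, ht⟩ : G) ∈ stabG G e := by rw [h]; exact Subgroup.mem_top _
  obtain ⟨c, hc⟩ := lineStab_of_mem_stabG G e _ h1 t rfl
  exact hte c hc

end GLsec

/-- a unipotent matrix in characteristic `p` has `p`-power order -/
theorem unip_pow {n : ℕ} [NeZero n] {F : Type*} [Field F] (p : ℕ) [hp : Fact p.Prime]
    [CharP F p] (M : Matrix (Fin n) (Fin n) F) (m : ℕ) (hM : (M - 1) ^ m = 0) :
    M ^ (p ^ m) = 1 := by
  haveI : CharP (Matrix (Fin n) (Fin n) F) p := Matrix.charP p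
  have h1 : M ^ (p ^ m) = ((M - 1) + 1) ^ (p ^ m) := by rw [sub_add_cancel]
  rw [h1, add_pow_char_pow_of_commute p m (Commute.one_right _), one_pow]
  have h2 : m ≤ p ^ m := (Nat.lt_pow_self hp.out.one_lt).le
  rw [← Nat.sub_add_cancel h2, pow_add, hM, mul_zero, zero_add]

end Cfsg.Agent.Lib.Helper25.NilCoverB
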