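import Mathlib
import Cfsg.Agent.Lib.Helper25.NilCoverB

set_option autoImplicit false

namespace Cfsg.Agent.Lib.Helper25.NilCoverC

open Matrix Cfsg.Agent.Lib.Helper25.NilCoverB

variable {n : ℕ} {F : Type*} [Field F]

/-- the nilpotent shift matrix -/
def Nmat (n : ℕ) (F : Type*) [Field F] : Matrix (Fin n) (Fin n) F :=
  Matrix.of fun i j => if j.val = i.val + 1 then 1 else 0

theorem Nmat_mulVec (v : Fin n → F) (i : Fin n) :
    (Nmat n F *ᵥ v) i = if h : i.val + 1 < n then v ⟨i.val + 1, h⟩ else 0 := by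
  simp only [Matrix.mulVec, dotProduct, Nmat, Matrix.of_apply]
  split_ifs with h
  · rw [Finset.sum_eq_single (⟨i.val + 1, h⟩ : Fin n)]
    · simp
    · intro j _ hj
      have : j.val ≠ i.val + 1 := fun h' => hj (Fin.ext h')
      simp [this]
    · intro h'; exact absurd (Finset.mem_univ _) h'
  · apply Finset.sum_eq_zero
    intro j _
    have : j.val ≠ i.val + 1 := by have := j.2; omega
    simp [this]

theorem vecMul_Nmat (w : Fin n → F) (j : Fin n) :
    (w ᵥ* Nmat n F) j =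
      if 1 ≤ j.val then w ⟨j.val - 1, lt_of_le_of_lt (Nat.sub_le _ _) j.2⟩ else 0 := by
  simp only [Matrix.vecMul, dotProduct, Nmat, Matrix.of_apply]
  split_ifs with h
  · rw [Finset.sum_eq_single (⟨j.val - 1, lt_of_le_of_lt (Nat.sub_le _ _) j.2⟩ : Fin n)]
    · have : j.val = j.val - 1 + 1 := by omega
      simp [← this]
    · intro i _ hi
      have : j.val ≠ i.val + 1 := fun h' => hi (Fin.ext (by simp only; omega))
      simp [this]
    · intro h'; exact absurd (Finset.mem_univ _) h'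
  · apply Finset.sum_eq_zero
    intro i _
    have : j.val ≠ i.val + 1 := by omega
    simp [this]

/-- a regular unipotent matrix -/
def umat (n : ℕ) (F : Type*) [Field F] : Matrix (Fin n) (Fin n) F := 1 + Nmat n F

theorem umat_upper : (umat n F).IsUpperTriangular := by
  intro i j hij
  have h0 : j < i := hij
  simp only [umat, Nmat, Matrix.add_apply, Matrix.one_apply, Matrix.of_apply]
  have h1 : i ≠ j := by rintro rfl; exact lt_irrefl _ h0
  have h2 : j.val ≠ i.val + 1 := by have : j.val < i.val := h0; omega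
  simp [h1, h2]

theorem umat_diag (i : Fin n) : umat n F i i = 1 := by
  simp [umat, Nmat]

theorem det_umat : (umat n F).det = 1 := by
  rw [Matrix.det_of_isUpperTriangular umat_upper]
  apply Finset.prod_eq_one
  intro i _
  exact umat_diag i

theorem umat_sub_one : umat n F - 1 = Nmat n F := by simp [umat]

theorem Nmat_pow : (Nmat n F) ^ n = 0 := by
  have h1 := Matrix.aeval_self_charpoly (umat n F)
  rw [Matrix.charpoly_of_isUpperTriangular _ umat_upper] at h1
  simp only [umat_diag, map_one, Finset.prod_const, Finset.card_univ, Fintype.card_fin] at h1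
  rw [map_pow, map_sub, Polynomial.aeval_X, map_one, umat_sub_one] at h1
  exact h1

/-- the regular unipotent element of `SL` -/
def sU (n : ℕ) (F : Type*) [Field F] : Matrix.SpecialLinearGroup (Fin n) F :=
  ⟨umat n F, det_umat⟩

theorem sU_pow [NeZero n] (p : ℕ) [Fact p.Prime] [CharP F p] :
    (Matrix.SpecialLinearGroup.toGL (sU n F)) ^ (p ^ n) = 1 := by
  apply Units.ext
  rw [Units.val_pow_eq_pow_val]
  show (umat n F) ^ (p ^ n) = 1
  apply unip_pow p _ n
  rw [umat_sub_one]; exact Nmat_pow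

theorem umat_fix_col (hn : 1 ≤ n) (v : Fin n → F) (h : umat n F *ᵥ v = v) :
    ∃ c : F, v = c • (Pi.single ⟨0, hn⟩ 1 : Fin n → F) := by
  have hN : Nmat n F *ᵥ v = 0 := by
    have h1 : umat n F *ᵥ v = v + Nmat n F *ᵥ v := by
      rw [umat, Matrix.add_mulVec, Matrix.one_mulVec]
    rw [h1] at h
    simpa using h
  have hz : ∀ j : Fin n, 1 ≤ j.val → v j = 0 := by
    intro j hj
    have h1 := congrFun hN ⟨j.val - 1, lt_of_le_of_lt (Nat.sub_le _ _) j.2⟩
    rw [Nmat_mulVec] at h1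
    have h2 : j.val - 1 + 1 < n := by have := j.2; omega
    simp only [h2, dif_pos] at h1
    have h3 : (⟨j.val - 1 + 1, h2⟩ : Fin n) = j := Fin.ext (by simp only; omega)
    rw [h3] at h1; exact h1
  refine ⟨v ⟨0, hn⟩, ?_⟩
  ext j
  by_cases hj : j = ⟨0, hn⟩
  · subst hj; simp
  · have h1 : 1 ≤ j.val := by
      by_contra hcon; apply hj; apply Fin.ext; simp only; omega
    rw [hz j h1]; simp [hj]

theorem umat_fix_row (w : Fin n → F) (h : w ᵥ* umat n F = w) :
    ∀ i : Fin n, i.val + 1 < n → w i = 0 := by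
  have hN : w ᵥ* Nmat n F = 0 := by
    have h1 : w ᵥ* umat n F = w + w ᵥ* Nmat n F := by
      rw [umat, Matrix.vecMul_add, Matrix.vecMul_one]
    rw [h1] at h
    simpa using h
  intro i hi
  have h1 := congrFun hN ⟨i.val + 1, hi⟩
  rw [vecMul_Nmat] at h1
  simpa using h1

theorem transv_mulVec (a b : Fin n) (c : F) (v : Fin n → F) (k : Fin n) :
    (Matrix.transvection a b c *ᵥ v) k = v k + if k = a then c * v b else 0 := by
  rw [Matrix.transvection, Matrix.add_mulVec, Matrix.one_mulVec, Pi.add_apply]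
  congr 1
  simp only [Matrix.mulVec, dotProduct, Matrix.single_apply]
  split_ifs with h
  · subst h
    rw [Finset.sum_eq_single b]
    · simp
    · intro j _ hj
      simp [Ne.symm hj]
    · intro h'; exact absurd (Finset.mem_univ _) h'
  · apply Finset.sum_eq_zero
    intro j _
    simp [Ne.symm h]

theorem vecMul_transv (a b : Fin n) (c : F) (w : Fin n → F) (k : Fin n) :
    (w ᵥ* Matrix.transvection a b c) k = w k + if k = b then w a * c else 0 := by
  rw [Matrix.transvection, Matrix.vecMul_add, Matrix.vecMul_one, Pi.add_apply]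
  congr 1
  simp only [Matrix.vecMul, dotProduct, Matrix.single_apply]
  split_ifs with h
  · subst h
    rw [Finset.sum_eq_single a]
    · simp
    · intro j _ hj
      simp [Ne.symm hj]
    · intro h'; exact absurd (Finset.mem_univ _) h'
  · apply Finset.sum_eq_zero
    intro j _
    simp [Ne.symm h]

theorem case_ge3 [Fintype F] (hn : 3 ≤ n)
    (G : Subgroup (GL (Fin n) F ⧸ Subgroup.center (GL (Fin n) F)))
    (hG : ((Matrix.SpecialLinearGroup.toGL :
      Matrix.SpecialLinearGroup (Fin n) F →* GL (Fin n) F).range).map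
      (QuotientGroup.mk' (Subgroup.center (GL (Fin n) F))) ≤ G)
    (𝓐 : Finset (Subgroup ↥G)) (hprop : ∀ A ∈ 𝓐, A ≠ ⊤) (hcov : ∀ g : ↥G, ∃ A ∈ 𝓐, g ∈ A)
    (hnil : ∀ A ∈ 𝓐, Group.IsNilpotent ↥A) :
    ∃ 𝓑 : Finset (Subgroup ↥G), ((∀ A ∈ 𝓑, A ≠ ⊤) ∧ (∀ g : ↥G, ∃ A ∈ 𝓑, g ∈ A)) ∧
      𝓑.card < 𝓐.card := by
  obtain ⟨p, hchar⟩ := CharP.exists F
  haveI := hchar
  obtain ⟨_, hpp, _⟩ := FiniteField.card F p
  haveI : Fact p.Prime := ⟨hpp⟩
  haveI : NeZero n := ⟨by omega⟩
  have hmemG : ∀ s : Matrix.SpecialLinearGroup (Fin n) F,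
      QuotientGroup.mk' (Subgroup.center (GL (Fin n) F))
        (Matrix.SpecialLinearGroup.toGL s) ∈ G :=
    fun s => hG (Subgroup.mem_map_of_mem _ ⟨s, rfl⟩)
  have h1n : 1 ≤ n := by omega
  obtain ⟨e, he⟩ : ∃ e : Fin n → F, e = Pi.single ⟨0, h1n⟩ 1 := ⟨_, rfl⟩
  obtain ⟨a, ha⟩ : ∃ a : Fin n, a.val = n - 1 := ⟨⟨n - 1, by omega⟩, rfl⟩
  obtain ⟨b, hb⟩ : ∃ b : Fin n, b.val = n - 2 := ⟨⟨n - 2, by omega⟩, rfl⟩
  have hab : a ≠ b := by intro h; rw [h] at ha; omega
  obtain ⟨st, hst⟩ : ∃ st : Matrix.SpecialLinearGroup (Fin n) F,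
      (st : Matrix (Fin n) (Fin n) F) = Matrix.transvection a b 1 :=
    ⟨⟨Matrix.transvection a b 1, Matrix.det_transvection_of_ne a b hab 1⟩, rfl⟩
  have hg2 : Matrix.SpecialLinearGroup.toGL (st * sU n F * st⁻¹) =
      Matrix.SpecialLinearGroup.toGL st * Matrix.SpecialLinearGroup.toGL (sU n F) *
        (Matrix.SpecialLinearGroup.toGL st)⁻¹ := by
    rw [map_mul, map_mul, map_inv]
  have hp1 : ∃ k : ℕ, (Matrix.SpecialLinearGroup.toGL (sU n F)) ^ (p ^ k) = 1 := ⟨n, sU_pow p⟩
  have hp2 : ∃ k : ℕ, (Matrix.SpecialLinearGroup.toGL (st * sU n F * st⁻¹)) ^ (p ^ k) = 1 := by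
    rw [hg2]; exact ⟨n, conj_pow_one _ _ _ (sU_pow p)⟩
  have hfix1 : ∀ v : Fin n → F,
      ((Matrix.SpecialLinearGroup.toGL (sU n F) : GL (Fin n) F) :
        Matrix (Fin n) (Fin n) F) *ᵥ v = v → ∃ c : F, v = c • e := by
    intro v hv
    rw [he]; exact umat_fix_col h1n v hv
  have hte : ((Matrix.SpecialLinearGroup.toGL st : GL (Fin n) F) :
      Matrix (Fin n) (Fin n) F) *ᵥ e = e := by
    show (st : Matrix (Fin n) (Fin n) F) *ᵥ e = e
    rw [hst]
    ext k
    rw [transv_mulVec, he]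
    have hb0 : ¬ b = 0 := by
      intro h
      have h' := congrArg Fin.val h
      rw [hb, Fin.val_zero] at h'
      omega
    simp [Pi.single_apply, hb0]
  have hfix2 : ∀ v : Fin n → F,
      ((Matrix.SpecialLinearGroup.toGL (st * sU n F * st⁻¹) : GL (Fin n) F) :
        Matrix (Fin n) (Fin n) F) *ᵥ v = v → ∃ c : F, v = c • e := by
    rw [hg2]
    intro v hv
    have h1 := conj_fix_col _ _ e hfix1 v hv
    rwa [hte] at h1
  have hB : stabG G e ≠ ⊤ := by
    obtain ⟨i1, hi1⟩ : ∃ i1 : Fin n, i1.val = 1 := ⟨⟨1, by omega⟩, rfl⟩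
    have hi10 : i1 ≠ ⟨0, h1n⟩ := by intro h; rw [h] at hi1; simp at hi1
    apply stabG_ne_top G e (Matrix.SpecialLinearGroup.toGL
      ⟨Matrix.transvection i1 ⟨0, h1n⟩ 1, Matrix.det_transvection_of_ne _ _ hi10 1⟩) (hmemG _)
    intro c hc
    have h1 := congrFun hc i1
    change (Matrix.transvection i1 ⟨0, h1n⟩ (1 : F) *ᵥ e) i1 = (c • e) i1 at h1
    rw [transv_mulVec, he] at h1
    have hi10' : ¬ i1 = 0 := by
      intro h
      have h' := congrArg Fin.val h
      rw [hi1, Fin.val_zero] at h'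
      omega
    simp [hi10'] at h1
  apply NilCover.absorb (stabG G e) hB ⟨_, hmemG (sU n F)⟩ ⟨_, hmemG (st * sU n F * st⁻¹)⟩
    𝓐 hprop hcov
  · intro A hA hcA
    exact le_stabG_of_unip G p A (hnil A hA) _ (hmemG _) hcA hp1 e hfix1
  · intro A hA hcA
    exact le_stabG_of_unip G p A (hnil A hA) _ (hmemG _) hcA hp2 e hfix2
  · intro A hA hcA hc'A
    obtain ⟨w, hw0, hw1, hw2⟩ := common_row G p A (hnil A hA) _ _ (hmemG _) (hmemG _) hcA hc'A
      hp1 hp2
    have hz1 := umat_fix_row w hw1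
    rw [hg2] at hw2
    have h3 := conj_fix_row _ _ w hw2
    have hz2 := umat_fix_row _ h3
    have hbn : b.val + 1 < n := by omega
    have h4 := hz2 b hbn
    change (w ᵥ* (st : Matrix (Fin n) (Fin n) F)) b = 0 at h4
    rw [hst, vecMul_transv, hz1 b hbn] at h4
    have hwa : w a = 0 := by simpa using h4
    apply hw0
    ext i
    by_cases hi : i.val + 1 < n
    · exact hz1 i hi
    · have hia : i = a := Fin.ext (by have := i.2; omega)
      rw [hia]; exact hwa

end Cfsg.Agent.Lib.Helper25.NilCoverC
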