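import Mathlib
import Cfsg.Agent.Lib.Helper25.NilCoverB

set_option autoImplicit false

namespace Cfsg.Agent.Lib.Helper25.NilCoverD

open Matrix Cfsg.Agent.Lib.Helper25.NilCoverB

variable {F : Type*} [Field F]

/-- upper unitriangular -/
def uS (s : F) : Matrix.SpecialLinearGroup (Fin 2) F :=
  ⟨!![1, s; 0, 1], by simp [Matrix.det_fin_two]⟩

/-- lower unitriangular -/
def lS (s : F) : Matrix.SpecialLinearGroup (Fin 2) F :=
  ⟨!![1, 0; s, 1], by simp [Matrix.det_fin_two]⟩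

/-- an element moving the first basis vector to `(s, 1)` -/
def gS (s : F) : Matrix.SpecialLinearGroup (Fin 2) F :=
  ⟨!![s, -1; 1, 0], by simp [Matrix.det_fin_two]⟩

/-- diagonal -/
def dS (a : F) (ha : a ≠ 0) : Matrix.SpecialLinearGroup (Fin 2) F :=
  ⟨!![a, 0; 0, a⁻¹], by simp [Matrix.det_fin_two, ha]⟩

theorem uS_pow (p : ℕ) [Fact p.Prime] [CharP F p] (s : F) :
    (Matrix.SpecialLinearGroup.toGL (uS s)) ^ (p ^ 2) = 1 := by
  apply Units.ext
  rw [Units.val_pow_eq_pow_val]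
  show (!![1, s; 0, 1] : Matrix (Fin 2) (Fin 2) F) ^ (p ^ 2) = 1
  apply unip_pow p _ 2
  ext i j
  fin_cases i <;> fin_cases j <;> simp [pow_two, Matrix.mul_apply, Fin.sum_univ_two]

theorem lS_pow (p : ℕ) [Fact p.Prime] [CharP F p] (s : F) :
    (Matrix.SpecialLinearGroup.toGL (lS s)) ^ (p ^ 2) = 1 := by
  apply Units.ext
  rw [Units.val_pow_eq_pow_val]
  show (!![1, 0; s, 1] : Matrix (Fin 2) (Fin 2) F) ^ (p ^ 2) = 1
  apply unip_pow p _ 2
  ext i j
  fin_cases i <;> fin_cases j <;> simp [pow_two, Matrix.mul_apply, Fin.sum_univ_two]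

theorem mulVec2 (M : Matrix (Fin 2) (Fin 2) F) (v : Fin 2 → F) :
    M *ᵥ v = ![M 0 0 * v 0 + M 0 1 * v 1, M 1 0 * v 0 + M 1 1 * v 1] := by
  ext i
  fin_cases i <;> simp [Matrix.mulVec, dotProduct, Fin.sum_univ_two]

theorem mul2 (A B : Matrix (Fin 2) (Fin 2) F) (i j : Fin 2) :
    (A * B) i j = A i 0 * B 0 j + A i 1 * B 1 j := by
  rw [Matrix.mul_apply, Fin.sum_univ_two]

theorem uS_fix (v : Fin 2 → F)
    (h : ((Matrix.SpecialLinearGroup.toGL (uS (1 : F)) : GL (Fin 2) F) :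
      Matrix (Fin 2) (Fin 2) F) *ᵥ v = v) : ∃ c : F, v = c • ![1, 0] := by
  change (!![1, 1; 0, 1] : Matrix (Fin 2) (Fin 2) F) *ᵥ v = v at h
  rw [mulVec2] at h
  have h0 := congrFun h 0
  simp at h0
  refine ⟨v 0, ?_⟩
  ext i
  fin_cases i <;> simp [h0]

theorem lS_fix (v : Fin 2 → F)
    (h : ((Matrix.SpecialLinearGroup.toGL (lS (1 : F)) : GL (Fin 2) F) :
      Matrix (Fin 2) (Fin 2) F) *ᵥ v = v) : ∃ c : F, v = c • ![0, 1] := by
  change (!![1, 0; 1, 1] : Matrix (Fin 2) (Fin 2) F) *ᵥ v = v at h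
  rw [mulVec2] at h
  have h1 := congrFun h 1
  simp at h1
  refine ⟨v 1, ?_⟩
  ext i
  fin_cases i <;> simp [h1]

/-- representatives of the points of the projective line -/
def vI : Option F → (Fin 2 → F)
  | none => ![1, 0]
  | some s => ![s, 1]

/-- elements of `SL₂` moving the first basis vector to the representatives -/
def gI : Option F → Matrix.SpecialLinearGroup (Fin 2) F
  | none => 1
  | some s => gS s

/-- unipotent elements with prescribed fixed line -/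
def uI (i : Option F) : Matrix.SpecialLinearGroup (Fin 2) F := gI i * uS 1 * (gI i)⁻¹

theorem gI_e0 (i : Option F) :
    ((Matrix.SpecialLinearGroup.toGL (gI i) : GL (Fin 2) F) :
      Matrix (Fin 2) (Fin 2) F) *ᵥ ![1, 0] = vI i := by
  cases i with
  | none =>
    show ((1 : Matrix.SpecialLinearGroup (Fin 2) F) : Matrix (Fin 2) (Fin 2) F) *ᵥ ![1, 0] = _
    simp [vI]
  | some s =>
    show (!![s, -1; 1, 0] : Matrix (Fin 2) (Fin 2) F) *ᵥ ![1, 0] = _
    rw [mulVec2]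
    simp [vI]

theorem uI_toGL (i : Option F) : Matrix.SpecialLinearGroup.toGL (uI i) =
    Matrix.SpecialLinearGroup.toGL (gI i) * Matrix.SpecialLinearGroup.toGL (uS (1 : F)) *
      (Matrix.SpecialLinearGroup.toGL (gI i))⁻¹ := by
  rw [uI, map_mul, map_mul, map_inv]

theorem uI_fix (i : Option F) (v : Fin 2 → F)
    (h : ((Matrix.SpecialLinearGroup.toGL (uI i) : GL (Fin 2) F) :
      Matrix (Fin 2) (Fin 2) F) *ᵥ v = v) : ∃ c : F, v = c • vI i := by
  rw [uI_toGL] at h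
  have h1 := conj_fix_col _ _ _ uS_fix v h
  rwa [gI_e0] at h1

theorem uI_pow (p : ℕ) [Fact p.Prime] [CharP F p] (i : Option F) :
    (Matrix.SpecialLinearGroup.toGL (uI i)) ^ (p ^ 2) = 1 := by
  rw [uI_toGL]
  exact conj_pow_one _ _ _ (uS_pow p 1)

theorem uI_none_val : ((uI (none : Option F)) : Matrix (Fin 2) (Fin 2) F) = !![1, 1; 0, 1] := by
  show (((1 : Matrix.SpecialLinearGroup (Fin 2) F) * uS 1 *
    (1 : Matrix.SpecialLinearGroup (Fin 2) F)⁻¹ : Matrix.SpecialLinearGroup (Fin 2) F) :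
      Matrix (Fin 2) (Fin 2) F) = !![1, 1; 0, 1]
  rw [one_mul, inv_one, mul_one]
  rfl

theorem uI_some_val (s : F) :
    ((uI (some s)) : Matrix (Fin 2) (Fin 2) F) = !![1 - s, s ^ 2; -1, 1 + s] := by
  show ((gS s * uS 1 * (gS s)⁻¹ : Matrix.SpecialLinearGroup (Fin 2) F) :
    Matrix (Fin 2) (Fin 2) F) = !![1 - s, s ^ 2; -1, 1 + s]
  rw [Matrix.SpecialLinearGroup.coe_mul, Matrix.SpecialLinearGroup.coe_mul,
    Matrix.SpecialLinearGroup.coe_inv]
  simp only [uS, gS, Matrix.adjugate_fin_two]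
  ext i j
  fin_cases i <;> fin_cases j <;> simp [Matrix.mul_apply, Fin.sum_univ_two] <;> ring

theorem uI_not_diag (i : Option F) :
    ¬ (((uI i) : Matrix (Fin 2) (Fin 2) F) 0 1 = 0 ∧ ((uI i) : Matrix (Fin 2) (Fin 2) F) 1 0 = 0) := by
  cases i with
  | none => rw [uI_none_val]; simp
  | some s => rw [uI_some_val]; simp

theorem uI_antidiag (i : Option F)
    (h : ((uI i) : Matrix (Fin 2) (Fin 2) F) 0 0 = 0 ∧ ((uI i) : Matrix (Fin 2) (Fin 2) F) 1 1 = 0) :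
    (2 : F) = 0 := by
  cases i with
  | none => rw [uI_none_val] at h; simp at h
  | some s =>
    rw [uI_some_val] at h
    simp at h
    linear_combination h.1 + h.2

theorem vI_moved (i : Option F) : ∃ t : Matrix.SpecialLinearGroup (Fin 2) F, ∀ c : F,
    ((Matrix.SpecialLinearGroup.toGL t : GL (Fin 2) F) : Matrix (Fin 2) (Fin 2) F) *ᵥ vI i ≠
      c • vI i := by
  cases i with
  | none =>
    refine ⟨lS 1, ?_⟩
    intro c hc
    change (!![1, 0; 1, 1] : Matrix (Fin 2) (Fin 2) F) *ᵥ ![1, 0] = c • ![1, 0] at hc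
    rw [mulVec2] at hc
    have h1 := congrFun hc 1
    simp at h1
  | some s =>
    refine ⟨uS 1, ?_⟩
    intro c hc
    change (!![1, 1; 0, 1] : Matrix (Fin 2) (Fin 2) F) *ᵥ ![s, 1] = c • ![s, 1] at hc
    rw [mulVec2] at hc
    have h1 := congrFun hc 1
    have h0 := congrFun hc 0
    simp at h1 h0
    rw [← h1] at h0
    simp at h0

theorem vI_inj (i j : Option F) (c c' : F) (hc : c ≠ 0) (h : c • vI i = c' • vI j) : i = j := by
  have h0 := congrFun h 0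
  have h1 := congrFun h 1
  cases i with
  | none =>
    cases j with
    | none => rfl
    | some t =>
      simp [vI] at h0 h1
      rw [← h1] at h0
      simp at h0
      exact absurd h0 hc
  | some s =>
    cases j with
    | none =>
      simp [vI] at h0 h1
      exact absurd h1 hc
    | some t =>
      simp [vI] at h0 h1
      rw [← h1] at h0
      congr 1
      exact mul_left_cancel₀ hc h0

theorem exists_line (g : GL (Fin 2) F) (v : Fin 2 → F) (hv : v ≠ 0) (l : F)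
    (h : (g : Matrix (Fin 2) (Fin 2) F) *ᵥ v = l • v) : ∃ i : Option F, g ∈ lineStab (vI i) := by
  by_cases h1 : v 1 = 0
  · have h0 : v 0 ≠ 0 := by
      intro h0; apply hv; ext i; fin_cases i <;> simp [h0, h1]
    refine ⟨none, l, ?_⟩
    have hv' : vI (none : Option F) = (v 0)⁻¹ • v := by
      ext i; fin_cases i <;> simp [vI, h0, h1]
    rw [hv', Matrix.mulVec_smul, h, smul_comm]
  · refine ⟨some (v 0 / v 1), l, ?_⟩
    have hv' : vI (some (v 0 / v 1)) = (v 1)⁻¹ • v := by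
      ext i; fin_cases i <;> simp [vI, h1, div_eq_inv_mul]
    rw [hv', Matrix.mulVec_smul, h, smul_comm]

theorem mk_eq_of_smul {n : ℕ} (g g' : GL (Fin n) F) (c : F)
    (h : (g : Matrix (Fin n) (Fin n) F) = c • (g' : Matrix (Fin n) (Fin n) F)) :
    QuotientGroup.mk' (Subgroup.center (GL (Fin n) F)) g =
      QuotientGroup.mk' (Subgroup.center (GL (Fin n) F)) g' := by
  symm
  rw [QuotientGroup.mk'_apply, QuotientGroup.mk'_apply, QuotientGroup.eq,
    Matrix.GeneralLinearGroup.mem_center_iff_val_mem_range_scalar]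
  refine ⟨c, ?_⟩
  rw [Units.val_mul, h, Matrix.mul_smul, ← Units.val_mul, inv_mul_cancel]
  ext i j
  simp [Matrix.scalar_apply, Matrix.diagonal_apply, Matrix.one_apply]

theorem det_ne_zero' (g : GL (Fin 2) F) :
    (g : Matrix (Fin 2) (Fin 2) F) 0 0 * (g : Matrix (Fin 2) (Fin 2) F) 1 1 -
      (g : Matrix (Fin 2) (Fin 2) F) 0 1 * (g : Matrix (Fin 2) (Fin 2) F) 1 0 ≠ 0 := by
  have h1 : IsUnit (g : Matrix (Fin 2) (Fin 2) F).det :=
    (Matrix.isUnit_iff_isUnit_det _).mp g.isUnit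
  rw [Matrix.det_fin_two] at h1
  exact h1.ne_zero

theorem upper_diag_eq (S : Subgroup (GL (Fin 2) F)) (hS : Group.IsNilpotent ↥S)
    (hu : Matrix.SpecialLinearGroup.toGL (uS (1 : F)) ∈ S) (g : GL (Fin 2) F) (hg : g ∈ S)
    (hg10 : (g : Matrix (Fin 2) (Fin 2) F) 1 0 = 0) :
    (g : Matrix (Fin 2) (Fin 2) F) 0 0 = (g : Matrix (Fin 2) (Fin 2) F) 1 1 := by
  have hdet := det_ne_zero' g
  rw [hg10, mul_zero, sub_zero] at hdet
  have h11 : (g : Matrix (Fin 2) (Fin 2) F) 1 1 ≠ 0 := right_ne_zero_of_mul hdet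
  obtain ⟨κ, hκ⟩ : ∃ κ : F, κ = 1 - (g : Matrix (Fin 2) (Fin 2) F) 0 0 /
      (g : Matrix (Fin 2) (Fin 2) F) 1 1 := ⟨_, rfl⟩
  have hκ' : κ * (g : Matrix (Fin 2) (Fin 2) F) 1 1 =
      (g : Matrix (Fin 2) (Fin 2) F) 1 1 - (g : Matrix (Fin 2) (Fin 2) F) 0 0 := by
    rw [hκ]; field_simp
  have hstep : ∀ k : ℕ, Matrix.SpecialLinearGroup.toGL (uS (κ ^ (k + 1))) =
      Matrix.SpecialLinearGroup.toGL (uS (κ ^ k)) * g *
        (Matrix.SpecialLinearGroup.toGL (uS (κ ^ k)))⁻¹ * g⁻¹ := by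
    intro k
    rw [eq_mul_inv_iff_mul_eq, eq_mul_inv_iff_mul_eq]
    apply Units.ext
    rw [Units.val_mul, Units.val_mul, Units.val_mul]
    show (!![1, κ ^ (k + 1); 0, 1] : Matrix (Fin 2) (Fin 2) F) * (g : Matrix (Fin 2) (Fin 2) F) *
      (!![1, κ ^ k; 0, 1] : Matrix (Fin 2) (Fin 2) F) =
      (!![1, κ ^ k; 0, 1] : Matrix (Fin 2) (Fin 2) F) * (g : Matrix (Fin 2) (Fin 2) F)
    ext i j
    fin_cases i <;> fin_cases j <;> simp only [Fin.zero_eta, Fin.mk_one, Fin.isValue, mul2] <;>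
      simp [hg10]
    linear_combination κ ^ k * hκ'
  obtain ⟨k, hk⟩ := chain_trivial S hS g hg
    (fun k => Matrix.SpecialLinearGroup.toGL (uS (κ ^ k))) (by simpa using hu) hstep
  have h1 := congrArg (fun x : GL (Fin 2) F => (x : Matrix (Fin 2) (Fin 2) F) 0 1) hk
  change (!![1, κ ^ k; 0, 1] : Matrix (Fin 2) (Fin 2) F) 0 1 = (1 : Matrix (Fin 2) (Fin 2) F) 0 1
    at h1
  simp at h1
  rw [h1.1] at hκ'
  linear_combination hκ'

theorem lower_diag_eq (S : Subgroup (GL (Fin 2) F)) (hS : Group.IsNilpotent ↥S)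
    (hu : Matrix.SpecialLinearGroup.toGL (lS (1 : F)) ∈ S) (g : GL (Fin 2) F) (hg : g ∈ S)
    (hg01 : (g : Matrix (Fin 2) (Fin 2) F) 0 1 = 0) :
    (g : Matrix (Fin 2) (Fin 2) F) 0 0 = (g : Matrix (Fin 2) (Fin 2) F) 1 1 := by
  have hdet := det_ne_zero' g
  rw [hg01, zero_mul, sub_zero] at hdet
  have h00 : (g : Matrix (Fin 2) (Fin 2) F) 0 0 ≠ 0 := left_ne_zero_of_mul hdet
  obtain ⟨κ, hκ⟩ : ∃ κ : F, κ = 1 - (g : Matrix (Fin 2) (Fin 2) F) 1 1 /
      (g : Matrix (Fin 2) (Fin 2) F) 0 0 := ⟨_, rfl⟩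
  have hκ' : κ * (g : Matrix (Fin 2) (Fin 2) F) 0 0 =
      (g : Matrix (Fin 2) (Fin 2) F) 0 0 - (g : Matrix (Fin 2) (Fin 2) F) 1 1 := by
    rw [hκ]; field_simp
  have hstep : ∀ k : ℕ, Matrix.SpecialLinearGroup.toGL (lS (κ ^ (k + 1))) =
      Matrix.SpecialLinearGroup.toGL (lS (κ ^ k)) * g *
        (Matrix.SpecialLinearGroup.toGL (lS (κ ^ k)))⁻¹ * g⁻¹ := by
    intro k
    rw [eq_mul_inv_iff_mul_eq, eq_mul_inv_iff_mul_eq]
    apply Units.ext
    rw [Units.val_mul, Units.val_mul, Units.val_mul]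
    show (!![1, 0; κ ^ (k + 1), 1] : Matrix (Fin 2) (Fin 2) F) * (g : Matrix (Fin 2) (Fin 2) F) *
      (!![1, 0; κ ^ k, 1] : Matrix (Fin 2) (Fin 2) F) =
      (!![1, 0; κ ^ k, 1] : Matrix (Fin 2) (Fin 2) F) * (g : Matrix (Fin 2) (Fin 2) F)
    ext i j
    fin_cases i <;> fin_cases j <;> simp only [Fin.zero_eta, Fin.mk_one, Fin.isValue, mul2] <;>
      simp [hg01]
    linear_combination κ ^ k * hκ'
  obtain ⟨k, hk⟩ := chain_trivial S hS g hg
    (fun k => Matrix.SpecialLinearGroup.toGL (lS (κ ^ k))) (by simpa using hu) hstep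
  have h1 := congrArg (fun x : GL (Fin 2) F => (x : Matrix (Fin 2) (Fin 2) F) 1 0) hk
  change (!![1, 0; κ ^ k, 1] : Matrix (Fin 2) (Fin 2) F) 1 0 = (1 : Matrix (Fin 2) (Fin 2) F) 1 0
    at h1
  simp at h1
  rw [h1.1] at hκ'
  linear_combination -hκ'

theorem case_two_big [Fintype F]
    (G : Subgroup (GL (Fin 2) F ⧸ Subgroup.center (GL (Fin 2) F)))
    (hG : ((Matrix.SpecialLinearGroup.toGL :
      Matrix.SpecialLinearGroup (Fin 2) F →* GL (Fin 2) F).range).map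
      (QuotientGroup.mk' (Subgroup.center (GL (Fin 2) F))) ≤ G)
    (hbig : ¬ G ≤ ((Matrix.SpecialLinearGroup.toGL :
      Matrix.SpecialLinearGroup (Fin 2) F →* GL (Fin 2) F).range).map
      (QuotientGroup.mk' (Subgroup.center (GL (Fin 2) F))))
    (𝓐 : Finset (Subgroup ↥G)) (hprop : ∀ A ∈ 𝓐, A ≠ ⊤) (hcov : ∀ g : ↥G, ∃ A ∈ 𝓐, g ∈ A)
    (hnil : ∀ A ∈ 𝓐, Group.IsNilpotent ↥A) :
    ∃ 𝓑 : Finset (Subgroup ↥G), ((∀ A ∈ 𝓑, A ≠ ⊤) ∧ (∀ g : ↥G, ∃ A ∈ 𝓑, g ∈ A)) ∧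
      𝓑.card < 𝓐.card := by
  obtain ⟨p, hchar⟩ := CharP.exists F
  haveI := hchar
  obtain ⟨_, hpp, _⟩ := FiniteField.card F p
  haveI : Fact p.Prime := ⟨hpp⟩
  have hmemG : ∀ s : Matrix.SpecialLinearGroup (Fin 2) F,
      QuotientGroup.mk' (Subgroup.center (GL (Fin 2) F))
        (Matrix.SpecialLinearGroup.toGL s) ∈ G :=
    fun s => hG (Subgroup.mem_map_of_mem _ ⟨s, rfl⟩)
  obtain ⟨B, hBdef⟩ : ∃ B : Subgroup ↥G, B = (((Matrix.SpecialLinearGroup.toGL :
      Matrix.SpecialLinearGroup (Fin 2) F →* GL (Fin 2) F).range).map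
      (QuotientGroup.mk' (Subgroup.center (GL (Fin 2) F)))).comap G.subtype := ⟨_, rfl⟩
  have hB : B ≠ ⊤ := by
    intro h
    apply hbig
    intro x hx
    have h1 : (⟨x, hx⟩ : G) ∈ B := by rw [h]; exact Subgroup.mem_top _
    rw [hBdef] at h1
    exact h1
  have hmemB : ∀ (x : G) (s : Matrix.SpecialLinearGroup (Fin 2) F),
      QuotientGroup.mk' (Subgroup.center (GL (Fin 2) F))
        (Matrix.SpecialLinearGroup.toGL s) = x.1 → x ∈ B := by
    intro x s hs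
    rw [hBdef, Subgroup.mem_comap]
    show x.1 ∈ ((Matrix.SpecialLinearGroup.toGL :
      Matrix.SpecialLinearGroup (Fin 2) F →* GL (Fin 2) F).range).map
      (QuotientGroup.mk' (Subgroup.center (GL (Fin 2) F)))
    rw [← hs]; exact Subgroup.mem_map_of_mem _ ⟨s, rfl⟩
  apply NilCover.absorb B hB ⟨_, hmemG (uS 1)⟩ ⟨_, hmemG (lS 1)⟩ 𝓐 hprop hcov
  · intro A hA hcA x hx
    obtain ⟨g, hg⟩ := QuotientGroup.mk'_surjective (Subgroup.center (GL (Fin 2) F)) x.1
    have hgL : g ∈ lift G A := mem_lift_of G A x hx g hg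
    have huL : Matrix.SpecialLinearGroup.toGL (uS (1 : F)) ∈ lift G A :=
      mem_lift_of G A _ hcA _ rfl
    have hnilL := lift_nilpotent G A (hnil A hA)
    have hstab := le_lineStab p (lift G A) hnilL _ huL ⟨2, uS_pow p 1⟩ ![1, 0] uS_fix
    obtain ⟨c, hc⟩ := hstab hgL
    rw [mulVec2] at hc
    have hg10 : (g : Matrix (Fin 2) (Fin 2) F) 1 0 = 0 := by
      have h1 := congrFun hc 1
      simpa using h1
    have hdiag := upper_diag_eq (lift G A) hnilL huL g hgL hg10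
    have hdet := det_ne_zero' g
    rw [hg10, mul_zero, sub_zero] at hdet
    have h00 : (g : Matrix (Fin 2) (Fin 2) F) 0 0 ≠ 0 := left_ne_zero_of_mul hdet
    apply hmemB x (uS ((g : Matrix (Fin 2) (Fin 2) F) 0 1 / (g : Matrix (Fin 2) (Fin 2) F) 0 0))
    rw [← hg]
    symm
    apply mk_eq_of_smul g _ ((g : Matrix (Fin 2) (Fin 2) F) 0 0)
    show (g : Matrix (Fin 2) (Fin 2) F) = (g : Matrix (Fin 2) (Fin 2) F) 0 0 •
      !![1, (g : Matrix (Fin 2) (Fin 2) F) 0 1 / (g : Matrix (Fin 2) (Fin 2) F) 0 0; 0, 1]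
    ext i j
    fin_cases i <;> fin_cases j <;> simp [hg10, ← hdiag] <;> field_simp
  · intro A hA hcA x hx
    obtain ⟨g, hg⟩ := QuotientGroup.mk'_surjective (Subgroup.center (GL (Fin 2) F)) x.1
    have hgL : g ∈ lift G A := mem_lift_of G A x hx g hg
    have huL : Matrix.SpecialLinearGroup.toGL (lS (1 : F)) ∈ lift G A :=
      mem_lift_of G A _ hcA _ rfl
    have hnilL := lift_nilpotent G A (hnil A hA)
    have hstab := le_lineStab p (lift G A) hnilL _ huL ⟨2, lS_pow p 1⟩ ![0, 1] lS_fix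
    obtain ⟨c, hc⟩ := hstab hgL
    rw [mulVec2] at hc
    have hg01 : (g : Matrix (Fin 2) (Fin 2) F) 0 1 = 0 := by
      have h1 := congrFun hc 0
      simpa using h1
    have hdiag := lower_diag_eq (lift G A) hnilL huL g hgL hg01
    have hdet := det_ne_zero' g
    rw [hg01, zero_mul, sub_zero] at hdet
    have h00 : (g : Matrix (Fin 2) (Fin 2) F) 0 0 ≠ 0 := left_ne_zero_of_mul hdet
    apply hmemB x (lS ((g : Matrix (Fin 2) (Fin 2) F) 1 0 / (g : Matrix (Fin 2) (Fin 2) F) 0 0))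
    rw [← hg]
    symm
    apply mk_eq_of_smul g _ ((g : Matrix (Fin 2) (Fin 2) F) 0 0)
    show (g : Matrix (Fin 2) (Fin 2) F) = (g : Matrix (Fin 2) (Fin 2) F) 0 0 •
      !![1, 0; (g : Matrix (Fin 2) (Fin 2) F) 1 0 / (g : Matrix (Fin 2) (Fin 2) F) 0 0, 1]
    ext i j
    fin_cases i <;> fin_cases j <;> simp [hg01, ← hdiag] <;> field_simp
  · intro A hA hcA hc'A
    obtain ⟨v, hv0, hv1, hv2⟩ := common_col G p A (hnil A hA) _ _ (hmemG _) (hmemG _) hcA hc'A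
      ⟨2, uS_pow p 1⟩ ⟨2, lS_pow p 1⟩
    obtain ⟨c, hc⟩ := uS_fix v hv1
    obtain ⟨c', hc'⟩ := lS_fix v hv2
    apply hv0
    have h0 := congrFun hc 1
    have h1 := congrFun hc' 0
    simp at h0 h1
    ext i
    fin_cases i
    · exact h1
    · exact h0

theorem comm_coprime {Γ : Type*} [Group Γ] [Finite Γ] [Group.IsNilpotent Γ] (p q : ℕ)
    [Fact p.Prime] [Fact q.Prime] (hpq : p ≠ q) (x y : Γ) (hx : ∃ k : ℕ, x ^ (p ^ k) = 1)
    (hy : ∃ k : ℕ, y ^ (q ^ k) = 1) : x * y = y * x := by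
  obtain ⟨P, hPn, hPp, hPall⟩ := exists_normal_pgroup (Γ := Γ) p
  obtain ⟨Q, hQn, hQp, hQall⟩ := exists_normal_pgroup (Γ := Γ) q
  exact (Subgroup.commute_of_normal_of_disjoint P Q hPn hQn
    (IsPGroup.disjoint_of_ne p q hpq P Q hPp hQp) x y (hPall x hx) (hQall y hy)).eq

theorem comm_coprime_sub {Γ : Type*} [Group Γ] [Finite Γ] (S : Subgroup Γ)
    (hS : Group.IsNilpotent ↥S) (p q : ℕ)
    [Fact p.Prime] [Fact q.Prime] (hpq : p ≠ q) (x y : Γ) (hxS : x ∈ S) (hyS : y ∈ S)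
    (hx : ∃ k : ℕ, x ^ (p ^ k) = 1) (hy : ∃ k : ℕ, y ^ (q ^ k) = 1) : x * y = y * x := by
  haveI := hS
  obtain ⟨k, hk⟩ := hx
  obtain ⟨l, hl⟩ := hy
  have h := comm_coprime (Γ := ↥S) p q hpq ⟨x, hxS⟩ ⟨y, hyS⟩ ⟨k, Subtype.ext (by simpa using hk)⟩
    ⟨l, Subtype.ext (by simpa using hl)⟩
  exact congrArg Subtype.val h

/-- monomial `2 × 2` matrices -/
def IsMon (M : Matrix (Fin 2) (Fin 2) F) : Prop :=
  (M 0 1 = 0 ∧ M 1 0 = 0) ∨ (M 0 0 = 0 ∧ M 1 1 = 0)

theorem mon_step (a b : F) (ha : a ≠ 0) (hb : b ≠ 0) (hab : a ≠ b) (hab' : a ≠ -b)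
    (d h c : GL (Fin 2) F)
    (hd00 : (d : Matrix (Fin 2) (Fin 2) F) 0 0 = a) (hd01 : (d : Matrix (Fin 2) (Fin 2) F) 0 1 = 0)
    (hd10 : (d : Matrix (Fin 2) (Fin 2) F) 1 0 = 0) (hd11 : (d : Matrix (Fin 2) (Fin 2) F) 1 1 = b)
    (hc : c = h * d * h⁻¹ * d⁻¹) (hmon : IsMon (c : Matrix (Fin 2) (Fin 2) F)) :
    IsMon (h : Matrix (Fin 2) (Fin 2) F) := by
  have E : (c : Matrix (Fin 2) (Fin 2) F) * (d : Matrix (Fin 2) (Fin 2) F) *
      (h : Matrix (Fin 2) (Fin 2) F) =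
      (h : Matrix (Fin 2) (Fin 2) F) * (d : Matrix (Fin 2) (Fin 2) F) := by
    rw [← Units.val_mul, ← Units.val_mul, ← Units.val_mul, hc]
    congr 1
    group
  have hdeth := det_ne_zero' h
  have hdetc : (c : Matrix (Fin 2) (Fin 2) F) 0 0 * (c : Matrix (Fin 2) (Fin 2) F) 1 1 -
      (c : Matrix (Fin 2) (Fin 2) F) 0 1 * (c : Matrix (Fin 2) (Fin 2) F) 1 0 = 1 := by
    have h1 := congrArg Matrix.det E
    rw [Matrix.det_mul, Matrix.det_mul, Matrix.det_mul] at h1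
    have hdh : (h : Matrix (Fin 2) (Fin 2) F).det ≠ 0 := by
      rw [Matrix.det_fin_two]; exact hdeth
    have hdd : (d : Matrix (Fin 2) (Fin 2) F).det ≠ 0 := by
      rw [Matrix.det_fin_two, hd00, hd01, hd10, hd11]; simp [ha, hb]
    have h2 : (c : Matrix (Fin 2) (Fin 2) F).det = 1 := by
      have h3 : (c : Matrix (Fin 2) (Fin 2) F).det * ((d : Matrix (Fin 2) (Fin 2) F).det *
          (h : Matrix (Fin 2) (Fin 2) F).det) = 1 * ((d : Matrix (Fin 2) (Fin 2) F).det *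
          (h : Matrix (Fin 2) (Fin 2) F).det) := by
        rw [one_mul, ← mul_assoc, h1, mul_comm]
      exact mul_right_cancel₀ (mul_ne_zero hdd hdh) h3
    rw [Matrix.det_fin_two] at h2
    exact h2
  have E00 := congrFun (congrFun E 0) 0
  have E01 := congrFun (congrFun E 0) 1
  have E10 := congrFun (congrFun E 1) 0
  have E11 := congrFun (congrFun E 1) 1
  simp only [mul2, hd00, hd01, hd10, hd11, mul_zero, add_zero, zero_add] at E00 E01 E10 E11
  rcases hmon with ⟨hc01, hc10⟩ | ⟨hc00, hc11⟩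
  · simp only [hc01, hc10, mul_zero, zero_mul, add_zero, zero_add, sub_zero]
      at E00 E01 E10 E11 hdetc
    by_cases h00 : (h : Matrix (Fin 2) (Fin 2) F) 0 0 = 0
    · right
      refine ⟨h00, ?_⟩
      by_contra h11
      rw [h00, zero_mul, zero_sub, neg_ne_zero] at hdeth
      have h10 : (h : Matrix (Fin 2) (Fin 2) F) 1 0 ≠ 0 := right_ne_zero_of_mul hdeth
      have hc11 : (c : Matrix (Fin 2) (Fin 2) F) 1 1 = 1 := by
        have h1 : ((c : Matrix (Fin 2) (Fin 2) F) 1 1 - 1) *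
            (b * (h : Matrix (Fin 2) (Fin 2) F) 1 1) = 0 := by linear_combination E11
        rcases mul_eq_zero.mp h1 with h2 | h2
        · linear_combination h2
        · exact absurd h2 (mul_ne_zero hb h11)
      rw [hc11] at E10
      apply hab
      have h1 : (b - a) * (h : Matrix (Fin 2) (Fin 2) F) 1 0 = 0 := by linear_combination E10
      rcases mul_eq_zero.mp h1 with h2 | h2
      · linear_combination -h2
      · exact absurd h2 h10
    · left
      have hc00 : (c : Matrix (Fin 2) (Fin 2) F) 0 0 = 1 := by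
        have h1 : ((c : Matrix (Fin 2) (Fin 2) F) 0 0 - 1) *
            (a * (h : Matrix (Fin 2) (Fin 2) F) 0 0) = 0 := by linear_combination E00
        rcases mul_eq_zero.mp h1 with h2 | h2
        · linear_combination h2
        · exact absurd h2 (mul_ne_zero ha h00)
      have h01 : (h : Matrix (Fin 2) (Fin 2) F) 0 1 = 0 := by
        rw [hc00] at E01
        have h1 : (a - b) * (h : Matrix (Fin 2) (Fin 2) F) 0 1 = 0 := by linear_combination E01
        rcases mul_eq_zero.mp h1 with h2 | h2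
        · exact absurd (by linear_combination h2) hab
        · exact h2
      refine ⟨h01, ?_⟩
      rw [h01, zero_mul, sub_zero] at hdeth
      have h11 : (h : Matrix (Fin 2) (Fin 2) F) 1 1 ≠ 0 := right_ne_zero_of_mul hdeth
      have hc11 : (c : Matrix (Fin 2) (Fin 2) F) 1 1 = 1 := by
        have h1 : ((c : Matrix (Fin 2) (Fin 2) F) 1 1 - 1) *
            (b * (h : Matrix (Fin 2) (Fin 2) F) 1 1) = 0 := by linear_combination E11
        rcases mul_eq_zero.mp h1 with h2 | h2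
        · linear_combination h2
        · exact absurd h2 (mul_ne_zero hb h11)
      rw [hc11] at E10
      have h1 : (b - a) * (h : Matrix (Fin 2) (Fin 2) F) 1 0 = 0 := by linear_combination E10
      rcases mul_eq_zero.mp h1 with h2 | h2
      · exact absurd (by linear_combination -h2) hab
      · exact h2
  · exfalso
    simp only [hc00, hc11, mul_zero, zero_mul, add_zero, zero_add, zero_sub]
      at E00 E01 E10 E11 hdetc
    -- E00 : c01 * b * h10 = h00 * a ; E10 : c10 * a * h00 = h10 * a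
    have h10 : (h : Matrix (Fin 2) (Fin 2) F) 1 0 =
        (c : Matrix (Fin 2) (Fin 2) F) 1 0 * (h : Matrix (Fin 2) (Fin 2) F) 0 0 := by
      have h1 : a * ((h : Matrix (Fin 2) (Fin 2) F) 1 0 -
          (c : Matrix (Fin 2) (Fin 2) F) 1 0 * (h : Matrix (Fin 2) (Fin 2) F) 0 0) = 0 := by
        linear_combination -E10
      rcases mul_eq_zero.mp h1 with h2 | h2
      · exact absurd h2 ha
      · linear_combination h2
    have h00 : (h : Matrix (Fin 2) (Fin 2) F) 0 0 = 0 := by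
      have h1 : (a + b) * (h : Matrix (Fin 2) (Fin 2) F) 0 0 = 0 := by
        rw [h10] at E00
        linear_combination -E00 - b * (h : Matrix (Fin 2) (Fin 2) F) 0 0 * hdetc
      rcases mul_eq_zero.mp h1 with h2 | h2
      · exact absurd (by linear_combination h2) hab'
      · exact h2
    rw [h00, mul_zero] at h10
    rw [h00, h10] at hdeth
    simp at hdeth

theorem mon_all (S : Subgroup (GL (Fin 2) F)) (hS : Group.IsNilpotent ↥S) (a b : F)
    (ha : a ≠ 0) (hb : b ≠ 0) (hab : a ≠ b) (hab' : a ≠ -b) (d : GL (Fin 2) F) (hdS : d ∈ S)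
    (hd00 : (d : Matrix (Fin 2) (Fin 2) F) 0 0 = a) (hd01 : (d : Matrix (Fin 2) (Fin 2) F) 0 1 = 0)
    (hd10 : (d : Matrix (Fin 2) (Fin 2) F) 1 0 = 0) (hd11 : (d : Matrix (Fin 2) (Fin 2) F) 1 1 = b)
    (g : GL (Fin 2) F) (hg : g ∈ S) : IsMon (g : Matrix (Fin 2) (Fin 2) F) := by
  obtain ⟨φ, hφ0, hφs⟩ : ∃ φ : ℕ → GL (Fin 2) F, φ 0 = g ∧
      ∀ k, φ (k + 1) = φ k * d * (φ k)⁻¹ * d⁻¹ :=
    ⟨fun k => Nat.rec g (fun _ x => x * d * x⁻¹ * d⁻¹) k, rfl, fun k => rfl⟩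
  obtain ⟨K, hK⟩ := chain_trivial S hS d hdS φ (by rw [hφ0]; exact hg) hφs
  have key : ∀ j, j ≤ K → IsMon ((φ (K - j) : GL (Fin 2) F) : Matrix (Fin 2) (Fin 2) F) := by
    intro j
    induction j with
    | zero =>
      intro _
      rw [Nat.sub_zero, hK]
      left
      simp
    | succ j ih =>
      intro hj
      have h1 := ih (by omega)
      have h2 : K - j = (K - (j + 1)) + 1 := by omega
      rw [h2] at h1
      exact mon_step a b ha hb hab hab' d (φ (K - (j + 1))) _ hd00 hd01 hd10 hd11 (hφs _) h1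
  have h3 := key K le_rfl
  rw [Nat.sub_self, hφ0] at h3
  exact h3

/-- diagonal elements of `GL₂` -/
def diagG (x y : F) (hx : x ≠ 0) (hy : y ≠ 0) : GL (Fin 2) F :=
  Matrix.GeneralLinearGroup.mkOfDetNeZero !![x, 0; 0, y] (by simp [Matrix.det_fin_two, hx, hy])

theorem diagG_val (x y : F) (hx : x ≠ 0) (hy : y ≠ 0) :
    ((diagG x y hx hy : GL (Fin 2) F) : Matrix (Fin 2) (Fin 2) F) = !![x, 0; 0, y] := rfl

theorem anti_pow (S : Subgroup (GL (Fin 2) F)) (hS : Group.IsNilpotent ↥S) (a b : F)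
    (ha : a ≠ 0) (hb : b ≠ 0) (d : GL (Fin 2) F) (hdS : d ∈ S)
    (hd00 : (d : Matrix (Fin 2) (Fin 2) F) 0 0 = a) (hd01 : (d : Matrix (Fin 2) (Fin 2) F) 0 1 = 0)
    (hd10 : (d : Matrix (Fin 2) (Fin 2) F) 1 0 = 0) (hd11 : (d : Matrix (Fin 2) (Fin 2) F) 1 1 = b)
    (g : GL (Fin 2) F) (hg : g ∈ S) (hg00 : (g : Matrix (Fin 2) (Fin 2) F) 0 0 = 0)
    (hg11 : (g : Matrix (Fin 2) (Fin 2) F) 1 1 = 0) : ∃ k : ℕ, (a / b) ^ (2 ^ k) = 1 := by
  have hρ : a / b ≠ 0 := div_ne_zero ha hb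
  have hρi : (a / b)⁻¹ ≠ 0 := inv_ne_zero hρ
  have h0 : diagG (a / b) (a / b)⁻¹ hρ hρi = d * g * d⁻¹ * g⁻¹ := by
    rw [eq_mul_inv_iff_mul_eq, eq_mul_inv_iff_mul_eq]
    apply Units.ext
    rw [Units.val_mul, Units.val_mul, Units.val_mul, diagG_val]
    ext i j
    fin_cases i <;> fin_cases j <;>
      simp only [Fin.zero_eta, Fin.mk_one, Fin.isValue, mul2, hd00, hd01, hd10, hd11, hg00, hg11] <;>
      simp <;> field_simp
  have hstep : ∀ k : ℕ, diagG ((a / b) ^ (2 ^ (k + 1))) ((a / b)⁻¹ ^ (2 ^ (k + 1)))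
      (pow_ne_zero _ hρ) (pow_ne_zero _ hρi) =
      diagG ((a / b) ^ (2 ^ k)) ((a / b)⁻¹ ^ (2 ^ k)) (pow_ne_zero _ hρ) (pow_ne_zero _ hρi) * g *
        (diagG ((a / b) ^ (2 ^ k)) ((a / b)⁻¹ ^ (2 ^ k)) (pow_ne_zero _ hρ)
          (pow_ne_zero _ hρi))⁻¹ * g⁻¹ := by
    intro k
    rw [eq_mul_inv_iff_mul_eq, eq_mul_inv_iff_mul_eq]
    apply Units.ext
    rw [Units.val_mul, Units.val_mul, Units.val_mul, diagG_val, diagG_val]
    have hxy : (a / b) ^ (2 ^ k) * (a / b)⁻¹ ^ (2 ^ k) = 1 := by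
      rw [← mul_pow, mul_inv_cancel₀ hρ, one_pow]
    have hx2 : (a / b) ^ (2 ^ (k + 1)) = (a / b) ^ (2 ^ k) * (a / b) ^ (2 ^ k) := by
      rw [pow_succ, pow_mul, pow_two]
    have hy2 : (a / b)⁻¹ ^ (2 ^ (k + 1)) = (a / b)⁻¹ ^ (2 ^ k) * (a / b)⁻¹ ^ (2 ^ k) := by
      rw [pow_succ, pow_mul, pow_two]
    rw [hx2, hy2]
    generalize (a / b) ^ (2 ^ k) = x at hxy ⊢
    generalize (a / b)⁻¹ ^ (2 ^ k) = y at hxy ⊢
    ext i j
    fin_cases i <;> fin_cases j <;>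
      simp only [Fin.zero_eta, Fin.mk_one, Fin.isValue, mul2, hg00, hg11] <;> simp
    · linear_combination x * (g : Matrix (Fin 2) (Fin 2) F) 0 1 * hxy
    · linear_combination y * (g : Matrix (Fin 2) (Fin 2) F) 1 0 * hxy
  have hmem0 : diagG ((a / b) ^ (2 ^ 0)) ((a / b)⁻¹ ^ (2 ^ 0)) (pow_ne_zero _ hρ)
      (pow_ne_zero _ hρi) ∈ S := by
    have h1 : diagG ((a / b) ^ (2 ^ 0)) ((a / b)⁻¹ ^ (2 ^ 0)) (pow_ne_zero _ hρ)
        (pow_ne_zero _ hρi) = diagG (a / b) (a / b)⁻¹ hρ hρi := by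
      apply Units.ext
      rw [diagG_val, diagG_val]
      simp
    rw [h1, h0]
    exact Subgroup.mul_mem _ (Subgroup.mul_mem _ (Subgroup.mul_mem _ hdS hg)
      (Subgroup.inv_mem _ hdS)) (Subgroup.inv_mem _ hg)
  obtain ⟨k, hk⟩ := chain_trivial S hS g hg
    (fun k => diagG ((a / b) ^ (2 ^ k)) ((a / b)⁻¹ ^ (2 ^ k)) (pow_ne_zero _ hρ)
      (pow_ne_zero _ hρi)) hmem0 hstep
  refine ⟨k, ?_⟩
  have h1 := congrArg (fun x : GL (Fin 2) F => (x : Matrix (Fin 2) (Fin 2) F) 0 0) hk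
  simp only [diagG_val] at h1
  simpa using h1

theorem exists_sq_neg_one (k : ℕ) : ∀ ρ : F, ρ ^ (2 ^ k) = 1 → ρ ^ 2 ≠ 1 → ∃ ι : F, ι ^ 2 = -1 := by
  induction k with
  | zero =>
    intro ρ h h2
    exfalso; apply h2
    rw [pow_zero, pow_one] at h
    rw [h, one_pow]
  | succ k ih =>
    intro ρ h h2
    by_cases h4 : (ρ ^ 2) ^ 2 = 1
    · refine ⟨ρ, ?_⟩
      have h5 : (ρ ^ 2 - 1) * (ρ ^ 2 + 1) = 0 := by linear_combination h4
      rcases mul_eq_zero.mp h5 with h6 | h6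
      · exact absurd (by linear_combination h6) h2
      · linear_combination h6
    · apply ih (ρ ^ 2) _ h4
      rw [← pow_mul, ← pow_succ']
      exact h

theorem two_ne_zero_of_pow (k : ℕ) : ∀ ρ : F, ρ ^ (2 ^ k) = 1 → ρ ≠ 1 → (2 : F) ≠ 0 := by
  induction k with
  | zero =>
    intro ρ h h1
    exfalso; apply h1
    rw [pow_zero, pow_one] at h
    exact h
  | succ k ih =>
    intro ρ h h1 h2
    have h3 : (ρ ^ 2) ^ (2 ^ k) = 1 := by
      rw [← pow_mul, ← pow_succ']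
      exact h
    by_cases h4 : ρ ^ 2 = 1
    · have h5 : (ρ - 1) ^ 2 = 0 := by linear_combination h4 - ρ * h2 + h2
      have h6 : ρ - 1 = 0 := by simpa using h5
      exact h1 (by linear_combination h6)
    · exact ih (ρ ^ 2) h3 h4 h2

theorem diag_lineStab (s : Matrix.SpecialLinearGroup (Fin 2) F)
    (h10 : (s : Matrix (Fin 2) (Fin 2) F) 1 0 = 0) :
    Matrix.SpecialLinearGroup.toGL s ∈ lineStab (vI (none : Option F)) := by
  refine ⟨(s : Matrix (Fin 2) (Fin 2) F) 0 0, ?_⟩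
  show (s : Matrix (Fin 2) (Fin 2) F) *ᵥ vI (none : Option F) = _
  rw [mulVec2]
  ext i
  fin_cases i <;> simp [vI, h10]

theorem case_two_psl_main [Fintype F]
    (G : Subgroup (GL (Fin 2) F ⧸ Subgroup.center (GL (Fin 2) F)))
    (hG : ((Matrix.SpecialLinearGroup.toGL :
      Matrix.SpecialLinearGroup (Fin 2) F →* GL (Fin 2) F).range).map
      (QuotientGroup.mk' (Subgroup.center (GL (Fin 2) F))) ≤ G)
    (hsmall : G ≤ ((Matrix.SpecialLinearGroup.toGL :
      Matrix.SpecialLinearGroup (Fin 2) F →* GL (Fin 2) F).range).map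
      (QuotientGroup.mk' (Subgroup.center (GL (Fin 2) F))))
    (a : F) (ha : a ≠ 0) (ha4 : a ^ 4 ≠ 1)
    (𝓐 : Finset (Subgroup ↥G)) (hprop : ∀ A ∈ 𝓐, A ≠ ⊤) (hcov : ∀ g : ↥G, ∃ A ∈ 𝓐, g ∈ A)
    (hnil : ∀ A ∈ 𝓐, Group.IsNilpotent ↥A) :
    ∃ 𝓑 : Finset (Subgroup ↥G), ((∀ A ∈ 𝓑, A ≠ ⊤) ∧ (∀ g : ↥G, ∃ A ∈ 𝓑, g ∈ A)) ∧
      𝓑.card < 𝓐.card := by
  classical
  obtain ⟨p, hchar⟩ := CharP.exists F
  haveI := hchar
  obtain ⟨_, hpp, _⟩ := FiniteField.card F p
  haveI : Fact p.Prime := ⟨hpp⟩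
  have hmemG : ∀ s : Matrix.SpecialLinearGroup (Fin 2) F,
      QuotientGroup.mk' (Subgroup.center (GL (Fin 2) F))
        (Matrix.SpecialLinearGroup.toGL s) ∈ G :=
    fun s => hG (Subgroup.mem_map_of_mem _ ⟨s, rfl⟩)
  choose m hm hmu using fun i : Option F => hcov ⟨_, hmemG (uI i)⟩
  obtain ⟨Astar, hAs, hxA⟩ := hcov ⟨_, hmemG (dS a ha)⟩
  have hnilL := lift_nilpotent G Astar (hnil Astar hAs)
  have hdL : Matrix.SpecialLinearGroup.toGL (dS a ha) ∈ lift G Astar :=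
    mem_lift_of G Astar _ hxA _ rfl
  have hai : a⁻¹ ≠ 0 := inv_ne_zero ha
  have hab : a ≠ a⁻¹ := by
    intro h
    apply ha4
    have h2 : a * a = 1 := by nth_rewrite 2 [h]; exact mul_inv_cancel₀ ha
    calc a ^ 4 = (a * a) * (a * a) := by ring
      _ = 1 := by rw [h2]; ring
  have hab' : a ≠ -a⁻¹ := by
    intro h
    apply ha4
    have h2 : a * a = -1 := by nth_rewrite 2 [h]; rw [mul_neg, mul_inv_cancel₀ ha]
    calc a ^ 4 = (a * a) * (a * a) := by ring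
      _ = 1 := by rw [h2]; ring
  have hρ : a / a⁻¹ = a ^ 2 := by field_simp
  have hd00 : ((Matrix.SpecialLinearGroup.toGL (dS a ha) : GL (Fin 2) F) :
      Matrix (Fin 2) (Fin 2) F) 0 0 = a := rfl
  have hd01 : ((Matrix.SpecialLinearGroup.toGL (dS a ha) : GL (Fin 2) F) :
      Matrix (Fin 2) (Fin 2) F) 0 1 = 0 := rfl
  have hd10 : ((Matrix.SpecialLinearGroup.toGL (dS a ha) : GL (Fin 2) F) :
      Matrix (Fin 2) (Fin 2) F) 1 0 = 0 := rfl
  have hd11 : ((Matrix.SpecialLinearGroup.toGL (dS a ha) : GL (Fin 2) F) :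
      Matrix (Fin 2) (Fin 2) F) 1 1 = a⁻¹ := rfl
  apply absorb_family (fun i => stabG G (vI i)) _ 𝓐 hprop hcov m hm _ _ Astar hAs _ _
  · intro i
    obtain ⟨t, ht⟩ := vI_moved i
    exact stabG_ne_top G (vI i) _ (hmemG t) ht
  · intro i j hij
    have hj : (⟨_, hmemG (uI j)⟩ : G) ∈ m i := by rw [hij]; exact hmu j
    obtain ⟨v, hv0, hv1, hv2⟩ := common_col G p (m i) (hnil _ (hm i)) _ _ (hmemG _) (hmemG _)
      (hmu i) hj ⟨2, uI_pow p i⟩ ⟨2, uI_pow p j⟩
    obtain ⟨c, hc⟩ := uI_fix i v hv1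
    obtain ⟨c', hc'⟩ := uI_fix j v hv2
    have hc0 : c ≠ 0 := by rintro rfl; apply hv0; rw [hc]; simp
    exact vI_inj i j c c' hc0 (hc.symm.trans hc')
  · intro i
    exact le_stabG_of_unip G p (m i) (hnil _ (hm i)) _ (hmemG _) (hmu i) ⟨2, uI_pow p i⟩ (vI i)
      (uI_fix i)
  · intro i h
    have huL : Matrix.SpecialLinearGroup.toGL (uI i) ∈ lift G Astar :=
      mem_lift_of G Astar _ (by rw [h]; exact hmu i) _ rfl
    rcases mon_all (lift G Astar) hnilL a a⁻¹ ha hai hab hab' _ hdL hd00 hd01 hd10 hd11 _ huL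
      with hdiag | hanti
    · exact uI_not_diag i hdiag
    · obtain ⟨k, hk⟩ := anti_pow (lift G Astar) hnilL a a⁻¹ ha hai _ hdL hd00 hd01 hd10 hd11 _ huL
        hanti.1 hanti.2
      have hρ1 : a / a⁻¹ ≠ 1 := by
        rw [hρ]; intro h1; apply ha4
        calc a ^ 4 = (a ^ 2) ^ 2 := by ring
          _ = 1 := by rw [h1]; ring
      exact two_ne_zero_of_pow k _ hk hρ1 (uI_antidiag i hanti)
  · intro y hy
    obtain ⟨g, ⟨s, rfl⟩, hs⟩ := hsmall y.2
    have hsL : Matrix.SpecialLinearGroup.toGL s ∈ lift G Astar := mem_lift_of G Astar y hy _ hs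
    rcases mon_all (lift G Astar) hnilL a a⁻¹ ha hai hab hab' _ hdL hd00 hd01 hd10 hd11 _ hsL
      with hdiag | hanti
    · exact ⟨none, mem_stabG_of G _ y _ hs (diag_lineStab s hdiag.2)⟩
    · obtain ⟨k, hk⟩ := anti_pow (lift G Astar) hnilL a a⁻¹ ha hai _ hdL hd00 hd01 hd10 hd11 _ hsL
        hanti.1 hanti.2
      have hρ2 : (a / a⁻¹) ^ 2 ≠ 1 := by
        rw [hρ]; intro h1; apply ha4; rw [← h1]; ring
      obtain ⟨ι, hι⟩ := exists_sq_neg_one k _ hk hρ2
      have h00 : (s : Matrix (Fin 2) (Fin 2) F) 0 0 = 0 := hanti.1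
      have h11 : (s : Matrix (Fin 2) (Fin 2) F) 1 1 = 0 := hanti.2
      have hdet := s.det_coe
      rw [Matrix.det_fin_two, h00, h11] at hdet
      have h01 : (s : Matrix (Fin 2) (Fin 2) F) 0 1 ≠ 0 := by
        intro h; rw [h] at hdet; simp at hdet
      have heig : ((Matrix.SpecialLinearGroup.toGL s : GL (Fin 2) F) :
          Matrix (Fin 2) (Fin 2) F) *ᵥ ![(s : Matrix (Fin 2) (Fin 2) F) 0 1, ι] =
          ι • ![(s : Matrix (Fin 2) (Fin 2) F) 0 1, ι] := by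
        show (s : Matrix (Fin 2) (Fin 2) F) *ᵥ ![(s : Matrix (Fin 2) (Fin 2) F) 0 1, ι] = _
        rw [mulVec2]
        ext i
        fin_cases i
        · simp [h00]; ring
        · simp [h11]; linear_combination -hdet - hι
      have hv0 : ![(s : Matrix (Fin 2) (Fin 2) F) 0 1, ι] ≠ 0 := by
        intro h
        have := congrFun h 0
        simp at this
        exact h01 this
      obtain ⟨i, hi⟩ := exists_line _ _ hv0 ι heig
      exact ⟨i, mem_stabG_of G _ y _ hs hi⟩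

theorem five_cases (h5 : (5 : F) = 0) (t : F) (ht : t ^ 5 = t) :
    t = 0 ∨ t = 1 ∨ t = -1 ∨ t = 2 ∨ t = -2 := by
  have h : t * ((t - 1) * ((t + 1) * ((t - 2) * (t + 2)))) = 0 := by
    linear_combination ht - t * (t - 1) * (t + 1) * h5
  rcases mul_eq_zero.mp h with h | h
  · left; exact h
  rcases mul_eq_zero.mp h with h | h
  · right; left; linear_combination h
  rcases mul_eq_zero.mp h with h | h
  · right; right; left; linear_combination h
  rcases mul_eq_zero.mp h with h | h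
  · right; right; right; left; linear_combination h
  · right; right; right; right; linear_combination h

theorem ch2 (s : Matrix.SpecialLinearGroup (Fin 2) F) :
    (s : Matrix (Fin 2) (Fin 2) F) * (s : Matrix (Fin 2) (Fin 2) F) =
      ((s : Matrix (Fin 2) (Fin 2) F) 0 0 + (s : Matrix (Fin 2) (Fin 2) F) 1 1) •
        (s : Matrix (Fin 2) (Fin 2) F) - 1 := by
  have hdet := s.det_coe
  rw [Matrix.det_fin_two] at hdet
  ext i j
  fin_cases i <;> fin_cases j <;>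
    simp only [Fin.zero_eta, Fin.mk_one, Fin.isValue, mul2, Matrix.sub_apply, Matrix.smul_apply,
      Matrix.one_apply, smul_eq_mul] <;> simp
  · linear_combination -hdet
  · ring
  · ring
  · linear_combination -hdet

theorem eig_of_root (s : Matrix.SpecialLinearGroup (Fin 2) F) (l : F)
    (hl : l ^ 2 - ((s : Matrix (Fin 2) (Fin 2) F) 0 0 + (s : Matrix (Fin 2) (Fin 2) F) 1 1) * l
      + 1 = 0) :
    ∃ v : Fin 2 → F, v ≠ 0 ∧ (s : Matrix (Fin 2) (Fin 2) F) *ᵥ v = l • v := by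
  have hdet := s.det_coe
  rw [Matrix.det_fin_two] at hdet
  have hM : ((s : Matrix (Fin 2) (Fin 2) F) - l • (1 : Matrix (Fin 2) (Fin 2) F)).det = 0 := by
    rw [Matrix.det_fin_two]
    simp only [Matrix.sub_apply, Matrix.smul_apply, Matrix.one_apply, smul_eq_mul]
    simp
    linear_combination hl + hdet
  obtain ⟨v, hv0, hv⟩ := Matrix.exists_mulVec_eq_zero_iff.mpr hM
  refine ⟨v, hv0, ?_⟩
  rw [Matrix.sub_mulVec, Matrix.smul_mulVec, Matrix.one_mulVec, sub_eq_zero] at hv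
  exact hv

theorem comm_diag (a b : F) (hab : a ≠ b) (d h : GL (Fin 2) F)
    (hd00 : (d : Matrix (Fin 2) (Fin 2) F) 0 0 = a) (hd01 : (d : Matrix (Fin 2) (Fin 2) F) 0 1 = 0)
    (hd10 : (d : Matrix (Fin 2) (Fin 2) F) 1 0 = 0) (hd11 : (d : Matrix (Fin 2) (Fin 2) F) 1 1 = b)
    (hcomm : h * d = d * h) :
    (h : Matrix (Fin 2) (Fin 2) F) 0 1 = 0 ∧ (h : Matrix (Fin 2) (Fin 2) F) 1 0 = 0 := by
  have E : (h : Matrix (Fin 2) (Fin 2) F) * (d : Matrix (Fin 2) (Fin 2) F) =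
      (d : Matrix (Fin 2) (Fin 2) F) * (h : Matrix (Fin 2) (Fin 2) F) := by
    rw [← Units.val_mul, ← Units.val_mul, hcomm]
  have E01 := congrFun (congrFun E 0) 1
  have E10 := congrFun (congrFun E 1) 0
  simp only [mul2, hd00, hd01, hd10, hd11, mul_zero, zero_mul, add_zero, zero_add] at E01 E10
  constructor
  · have h1 : (b - a) * (h : Matrix (Fin 2) (Fin 2) F) 0 1 = 0 := by linear_combination E01
    rcases mul_eq_zero.mp h1 with h2 | h2
    · exact absurd (by linear_combination -h2) hab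
    · exact h2
  · have h1 : (a - b) * (h : Matrix (Fin 2) (Fin 2) F) 1 0 = 0 := by linear_combination E10
    rcases mul_eq_zero.mp h1 with h2 | h2
    · exact absurd (by linear_combination h2) hab
    · exact h2

theorem dS_pow4 (a : F) (ha : a ≠ 0) (ha4 : a ^ 4 = 1) :
    (Matrix.SpecialLinearGroup.toGL (dS a ha)) ^ (2 ^ 2) = 1 := by
  apply Units.ext
  rw [Units.val_pow_eq_pow_val]
  show (!![a, 0; 0, a⁻¹] : Matrix (Fin 2) (Fin 2) F) ^ (2 ^ 2) = 1
  have h1 : (!![a, 0; 0, a⁻¹] : Matrix (Fin 2) (Fin 2) F) ^ (2 ^ 2) =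
      !![a ^ 4, 0; 0, (a ^ 4)⁻¹] := by
    norm_num [pow_succ, Matrix.mul_fin_two]
    ring
  rw [h1, ha4, inv_one, Matrix.one_fin_two]

theorem case_two_psl_five [Fintype F]
    (G : Subgroup (GL (Fin 2) F ⧸ Subgroup.center (GL (Fin 2) F)))
    (hG : ((Matrix.SpecialLinearGroup.toGL :
      Matrix.SpecialLinearGroup (Fin 2) F →* GL (Fin 2) F).range).map
      (QuotientGroup.mk' (Subgroup.center (GL (Fin 2) F))) ≤ G)
    (hsmall : G ≤ ((Matrix.SpecialLinearGroup.toGL :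
      Matrix.SpecialLinearGroup (Fin 2) F →* GL (Fin 2) F).range).map
      (QuotientGroup.mk' (Subgroup.center (GL (Fin 2) F))))
    (hF : Fintype.card F = 5)
    (𝓐 : Finset (Subgroup ↥G)) (hprop : ∀ A ∈ 𝓐, A ≠ ⊤) (hcov : ∀ g : ↥G, ∃ A ∈ 𝓐, g ∈ A)
    (hnil : ∀ A ∈ 𝓐, Group.IsNilpotent ↥A) :
    ∃ 𝓑 : Finset (Subgroup ↥G), ((∀ A ∈ 𝓑, A ≠ ⊤) ∧ (∀ g : ↥G, ∃ A ∈ 𝓑, g ∈ A)) ∧
      𝓑.card < 𝓐.card := by
  classical
  obtain ⟨p, hchar⟩ := CharP.exists F
  haveI := hchar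
  obtain ⟨m0, hpp, hcard⟩ := FiniteField.card F p
  have hp5 : p = 5 := by
    rw [hF] at hcard
    have h1 : p ∣ 5 := by rw [hcard]; exact dvd_pow_self p m0.pos.ne'
    exact (Nat.prime_dvd_prime_iff_eq hpp Nat.prime_five).mp h1
  subst hp5
  haveI : Fact (Nat.Prime 5) := ⟨Nat.prime_five⟩
  haveI : Fact (Nat.Prime 2) := ⟨Nat.prime_two⟩
  haveI : Fact (Nat.Prime 3) := ⟨Nat.prime_three⟩
  have h5 : (5 : F) = 0 := by exact_mod_cast CharP.cast_eq_zero F 5
  have h2 : (2 : F) ≠ 0 := by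
    intro h
    have h1 : (1 : F) = 0 := by linear_combination h5 - 2 * h
    exact one_ne_zero h1
  have h3 : (3 : F) ≠ 0 := by
    intro h
    have h1 : (1 : F) = 0 := by linear_combination 2 * h - h5
    exact one_ne_zero h1
  have ha4 : (2 : F) ^ 4 = 1 := by linear_combination 3 * h5
  have ha2 : (2 : F) * 2 ≠ 1 := by
    intro h; apply h3; linear_combination h
  have hab : (2 : F) ≠ (2 : F)⁻¹ := by
    intro h
    apply ha2
    nth_rewrite 2 [h]
    exact mul_inv_cancel₀ h2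
  have hmemG : ∀ s : Matrix.SpecialLinearGroup (Fin 2) F,
      QuotientGroup.mk' (Subgroup.center (GL (Fin 2) F))
        (Matrix.SpecialLinearGroup.toGL s) ∈ G :=
    fun s => hG (Subgroup.mem_map_of_mem _ ⟨s, rfl⟩)
  choose m hm hmu using fun i : Option F => hcov ⟨_, hmemG (uI i)⟩
  obtain ⟨Astar, hAs, hxA⟩ := hcov ⟨_, hmemG (dS 2 h2)⟩
  have hnilL := lift_nilpotent G Astar (hnil Astar hAs)
  have hdL : Matrix.SpecialLinearGroup.toGL (dS (2 : F) h2) ∈ lift G Astar :=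
    mem_lift_of G Astar _ hxA _ rfl
  have hd00 : ((Matrix.SpecialLinearGroup.toGL (dS (2 : F) h2) : GL (Fin 2) F) :
      Matrix (Fin 2) (Fin 2) F) 0 0 = 2 := rfl
  have hd01 : ((Matrix.SpecialLinearGroup.toGL (dS (2 : F) h2) : GL (Fin 2) F) :
      Matrix (Fin 2) (Fin 2) F) 0 1 = 0 := rfl
  have hd10 : ((Matrix.SpecialLinearGroup.toGL (dS (2 : F) h2) : GL (Fin 2) F) :
      Matrix (Fin 2) (Fin 2) F) 1 0 = 0 := rfl
  have hd11 : ((Matrix.SpecialLinearGroup.toGL (dS (2 : F) h2) : GL (Fin 2) F) :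
      Matrix (Fin 2) (Fin 2) F) 1 1 = (2 : F)⁻¹ := rfl
  have hd4 := dS_pow4 (2 : F) h2 ha4
  apply absorb_family (fun i => stabG G (vI i)) _ 𝓐 hprop hcov m hm _ _ Astar hAs _ _
  · intro i
    obtain ⟨t, ht⟩ := vI_moved i
    exact stabG_ne_top G (vI i) _ (hmemG t) ht
  · intro i j hij
    have hj : (⟨_, hmemG (uI j)⟩ : G) ∈ m i := by rw [hij]; exact hmu j
    obtain ⟨v, hv0, hv1, hv2⟩ := common_col G 5 (m i) (hnil _ (hm i)) _ _ (hmemG _) (hmemG _)
      (hmu i) hj ⟨2, uI_pow 5 i⟩ ⟨2, uI_pow 5 j⟩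
    obtain ⟨c, hc⟩ := uI_fix i v hv1
    obtain ⟨c', hc'⟩ := uI_fix j v hv2
    have hc0 : c ≠ 0 := by rintro rfl; apply hv0; rw [hc]; simp
    exact vI_inj i j c c' hc0 (hc.symm.trans hc')
  · intro i
    exact le_stabG_of_unip G 5 (m i) (hnil _ (hm i)) _ (hmemG _) (hmu i) ⟨2, uI_pow 5 i⟩ (vI i)
      (uI_fix i)
  · intro i h
    have huL : Matrix.SpecialLinearGroup.toGL (uI i) ∈ lift G Astar :=
      mem_lift_of G Astar _ (by rw [h]; exact hmu i) _ rfl
    have hcomm := comm_coprime_sub (lift G Astar) hnilL 5 2 (by norm_num) _ _ huL hdL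
      ⟨2, uI_pow 5 i⟩ ⟨2, hd4⟩
    exact uI_not_diag i (comm_diag 2 (2 : F)⁻¹ hab _ _ hd00 hd01 hd10 hd11 hcomm)
  · intro y hy
    obtain ⟨g, ⟨s, rfl⟩, hs⟩ := hsmall y.2
    have hsL : Matrix.SpecialLinearGroup.toGL s ∈ lift G Astar := mem_lift_of G Astar y hy _ hs
    have ht := five_cases h5 ((s : Matrix (Fin 2) (Fin 2) F) 0 0 +
      (s : Matrix (Fin 2) (Fin 2) F) 1 1) (by rw [← hF]; exact FiniteField.pow_card _)
    have hpt : ∀ l : F, l ^ 2 - ((s : Matrix (Fin 2) (Fin 2) F) 0 0 +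
        (s : Matrix (Fin 2) (Fin 2) F) 1 1) * l + 1 = 0 → ∃ i, y ∈ stabG G (vI i) := by
      intro l hl
      obtain ⟨v, hv0, hv⟩ := eig_of_root s l hl
      obtain ⟨i, hi⟩ := exists_line (Matrix.SpecialLinearGroup.toGL s) v hv0 l hv
      exact ⟨i, mem_stabG_of G _ y _ hs hi⟩
    have h36 : ((s : Matrix (Fin 2) (Fin 2) F) 0 0 + (s : Matrix (Fin 2) (Fin 2) F) 1 1 = 1 ∨
        (s : Matrix (Fin 2) (Fin 2) F) 0 0 + (s : Matrix (Fin 2) (Fin 2) F) 1 1 = -1) →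
        ∃ i, y ∈ stabG G (vI i) := by
      intro ht1
      have hch := ch2 s
      have h3' : (s : Matrix (Fin 2) (Fin 2) F) ^ 3 = 1 ∨
          (s : Matrix (Fin 2) (Fin 2) F) ^ 3 = -1 := by
        have e3 : (s : Matrix (Fin 2) (Fin 2) F) ^ 3 = (s : Matrix (Fin 2) (Fin 2) F) *
            ((s : Matrix (Fin 2) (Fin 2) F) * (s : Matrix (Fin 2) (Fin 2) F)) := by
          rw [pow_succ, pow_two, mul_assoc]
        rcases ht1 with h | h
        · right
          rw [h, one_smul] at hch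
          rw [e3, hch, mul_sub, mul_one, hch]
          abel
        · left
          rw [h, neg_smul, one_smul] at hch
          rw [e3, hch, mul_sub, mul_one, mul_neg, hch]
          abel
      have h6 : ((Matrix.SpecialLinearGroup.toGL s) ^ 2) ^ (3 ^ 1) = 1 := by
        rw [pow_one, ← pow_mul]
        apply Units.ext
        rw [Units.val_pow_eq_pow_val]
        show (s : Matrix (Fin 2) (Fin 2) F) ^ (2 * 3) = 1
        rw [mul_comm, pow_mul]
        rcases h3' with h | h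
        · rw [h, one_pow]
        · rw [h]; simp
      have hsq : (Matrix.SpecialLinearGroup.toGL s) ^ 2 ∈ lift G Astar :=
        Subgroup.pow_mem _ hsL 2
      have hcomm := comm_coprime_sub (lift G Astar) hnilL 3 2 (by norm_num) _ _ hsq hdL
        ⟨1, h6⟩ ⟨2, hd4⟩
      have hdg := comm_diag 2 (2 : F)⁻¹ hab _ _ hd00 hd01 hd10 hd11 hcomm
      have hval : (((Matrix.SpecialLinearGroup.toGL s) ^ 2 : GL (Fin 2) F) :
          Matrix (Fin 2) (Fin 2) F) =
          (s : Matrix (Fin 2) (Fin 2) F) * (s : Matrix (Fin 2) (Fin 2) F) := by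
        rw [pow_two, Units.val_mul]; rfl
      rw [hval, hch] at hdg
      simp only [Matrix.sub_apply, Matrix.smul_apply, Matrix.one_apply, smul_eq_mul] at hdg
      have h10 : (s : Matrix (Fin 2) (Fin 2) F) 1 0 = 0 := by
        have h1 := hdg.2
        rcases ht1 with h | h <;> rw [h] at h1 <;> simpa using h1
      exact ⟨none, mem_stabG_of G _ y _ hs (diag_lineStab s h10)⟩
    rcases ht with h | h | h | h | h
    · exact hpt 2 (by rw [h]; linear_combination h5)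
    · exact h36 (Or.inl h)
    · exact h36 (Or.inr h)
    · exact hpt 1 (by rw [h]; ring)
    · exact hpt (-1) (by rw [h]; ring)

theorem card_five (hex : ∀ a : F, a ≠ 0 → a ^ 4 = 1) [Fintype F] (hq : 4 ≤ Fintype.card F) :
    Fintype.card F = 5 := by
  classical
  have h1 : (Finset.univ.filter (fun a : F => a ≠ 0)) ⊆ Polynomial.nthRootsFinset 4 (1 : F) := by
    intro a ha
    rw [Polynomial.mem_nthRootsFinset (by norm_num)]
    exact hex a (Finset.mem_filter.mp ha).2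
  have h2 := Finset.card_le_card h1
  have h3 : (Polynomial.nthRootsFinset 4 (1 : F)).card ≤ 4 := by
    unfold Polynomial.nthRootsFinset
    exact (Multiset.toFinset_card_le _).trans (Polynomial.card_nthRoots 4 1)
  have h4 : (Finset.univ.filter (fun a : F => a ≠ 0)).card = Fintype.card F - 1 := by
    rw [Finset.filter_ne' Finset.univ (0 : F), Finset.card_erase_of_mem (Finset.mem_univ _),
      Finset.card_univ]
  have h5 : Fintype.card F ≤ 5 := by omega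
  have h6 : Fintype.card F ≠ 4 := by
    intro h
    obtain ⟨a, ha0, ha1⟩ : ∃ a : F, a ≠ 0 ∧ a ≠ 1 := by
      by_contra hcon
      push Not at hcon
      have hsub : (Finset.univ : Finset F) ⊆ {0, 1} := by
        intro a _
        by_cases ha : a = 0
        · simp [ha]
        · simp [hcon a ha]
      have h7 := Finset.card_le_card hsub
      have h8 : ({0, 1} : Finset F).card ≤ 2 := Finset.card_le_two
      rw [Finset.card_univ] at h7
      omega
    have h7 := FiniteField.pow_card a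
    rw [h, hex a ha0] at h7
    exact ha1 h7.symm
  omega

theorem case_two [Fintype F] (hq : 4 ≤ Fintype.card F)
    (G : Subgroup (GL (Fin 2) F ⧸ Subgroup.center (GL (Fin 2) F)))
    (hG : ((Matrix.SpecialLinearGroup.toGL :
      Matrix.SpecialLinearGroup (Fin 2) F →* GL (Fin 2) F).range).map
      (QuotientGroup.mk' (Subgroup.center (GL (Fin 2) F))) ≤ G)
    (𝓐 : Finset (Subgroup ↥G)) (hprop : ∀ A ∈ 𝓐, A ≠ ⊤) (hcov : ∀ g : ↥G, ∃ A ∈ 𝓐, g ∈ A)
    (hnil : ∀ A ∈ 𝓐, Group.IsNilpotent ↥A) :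
    ∃ 𝓑 : Finset (Subgroup ↥G), ((∀ A ∈ 𝓑, A ≠ ⊤) ∧ (∀ g : ↥G, ∃ A ∈ 𝓑, g ∈ A)) ∧
      𝓑.card < 𝓐.card := by
  by_cases hsmall : G ≤ ((Matrix.SpecialLinearGroup.toGL :
      Matrix.SpecialLinearGroup (Fin 2) F →* GL (Fin 2) F).range).map
      (QuotientGroup.mk' (Subgroup.center (GL (Fin 2) F)))
  · by_cases hex : ∃ a : F, a ≠ 0 ∧ a ^ 4 ≠ 1
    · obtain ⟨a, ha, ha4⟩ := hex
      exact case_two_psl_main G hG hsmall a ha ha4 𝓐 hprop hcov hnil
    · push Not at hex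
      exact case_two_psl_five G hG hsmall (card_five hex hq) 𝓐 hprop hcov hnil
  · exact case_two_big G hG hsmall 𝓐 hprop hcov hnil

end Cfsg.Agent.Lib.Helper25.NilCoverD
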