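import Mathlib
import Cfsg.Agent.Lib.Helper1.CharInd
import Cfsg.Agent.Lib.Helper1.CharReg
import Cfsg.Agent.Lib.Helper24.CharQuot
import Cfsg.Agent.Lib.Helper24.CharBasic
import Cfsg.Agent.Lib.Helper13.SL2Irr4
import Cfsg.Agent.S2299
import Cfsg.Agent.S2300
import Cfsg.Agent.S0276
import Cfsg.Prelude.Def_DegreeGraph

/-!
# Character degrees of `PSL₂(F)` and `SL₂(F)` and their degree graphs

General transfer of irreducible characters along quotients and isomorphisms, the counting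
argument giving irreducible characters of degrees `q ± 1` of `PSL₂(q)` (`q ≥ 7` odd), and the
shape of the degree graph.
-/

set_option autoImplicit false

namespace Cfsg.Agent.Lib.Helper25.PSL2Deg

open Cfsg Cfsg.Agent.Lib.Helper1 Cfsg.Agent.Lib.Helper24

section general

theorem charDegree_eq_of_one {G H : Type*} [Group G] [Group H] {χ : G → ℂ} {ψ : H → ℂ}
    (h : χ 1 = ψ 1) : charDegree χ = charDegree ψ := by
  unfold charDegree; rw [h]

theorem charDegree_natCast {G : Type*} [Group G] {χ : G → ℂ} {n : ℕ} (h : χ 1 = (n : ℂ)) :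
    charDegree χ = n := by
  unfold charDegree; rw [h]; simp

theorem irr_one_eq {G : Type*} [Group G] {χ : G → ℂ} (h : IsIrrCharacter G χ) :
    χ 1 = (charDegree χ : ℂ) :=
  CharBasic.char_one_nat (CharBasic.isCharacter_of_irr h)

theorem charDegrees_congr {S G : Type*} [Group S] [Group G] [Finite G] (e : S ≃* G) :
    charDegrees S = charDegrees G := by
  have : Finite S := Finite.of_equiv G e.symm.toEquiv
  ext d
  constructor
  · rintro ⟨χ, rfl⟩
    refine ⟨⟨χ.1 ∘ e.symm, IsIrrCharacter.comp_mulEquiv χ.2 e.symm⟩, ?_⟩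
    apply charDegree_eq_of_one
    simp
  · rintro ⟨χ, rfl⟩
    refine ⟨⟨χ.1 ∘ e, IsIrrCharacter.comp_mulEquiv χ.2 e⟩, ?_⟩
    apply charDegree_eq_of_one
    simp

/-- inflation of a function on a quotient -/
def infl {G : Type*} [Group G] (N : Subgroup G) [N.Normal] (ψ : G ⧸ N → ℂ) : G → ℂ :=
  fun g => ψ (QuotientGroup.mk' N g)

theorem infl_irr {G : Type*} [Group G] (N : Subgroup G) [N.Normal] {ψ : G ⧸ N → ℂ}
    (hψ : IsIrrCharacter (G ⧸ N) ψ) : IsIrrCharacter G (infl N ψ) :=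
  CharQuot.irr_inflate (QuotientGroup.mk' N) (QuotientGroup.mk'_surjective N) hψ

theorem infl_one {G : Type*} [Group G] (N : Subgroup G) [N.Normal] (ψ : G ⧸ N → ℂ) :
    infl N ψ 1 = ψ 1 := by
  unfold infl; rw [map_one]

theorem infl_ker {G : Type*} [Group G] (N : Subgroup G) [N.Normal] (ψ : G ⧸ N → ℂ) (x : G)
    (hx : x ∈ N) : infl N ψ x = infl N ψ 1 := by
  unfold infl
  rw [map_one]
  congr 1
  exact (QuotientGroup.eq_one_iff x).mpr hx

theorem infl_inj {G : Type*} [Group G] (N : Subgroup G) [N.Normal] {ψ₁ ψ₂ : G ⧸ N → ℂ}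
    (h : infl N ψ₁ = infl N ψ₂) : ψ₁ = ψ₂ := by
  funext y
  obtain ⟨g, rfl⟩ := QuotientGroup.mk'_surjective N y
  exact congrFun h g

theorem charDegrees_quot_subset {G : Type*} [Group G] (N : Subgroup G) [N.Normal] :
    charDegrees (G ⧸ N) ⊆ charDegrees G := by
  rintro d ⟨ψ, rfl⟩
  exact ⟨⟨infl N ψ.1, infl_irr N ψ.2⟩, charDegree_eq_of_one (infl_one N ψ.1)⟩

theorem exists_quot {G : Type*} [Group G] [Finite G] (N : Subgroup G) [N.Normal] {χ : G → ℂ}
    (hχ : IsIrrCharacter G χ) (hker : ∀ x ∈ N, χ x = χ 1) :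
    ∃ ψ : IrrCharacter (G ⧸ N), charDegree ψ.1 = charDegree χ := by
  obtain ⟨ψ, hψ, hψχ⟩ := CharQuot.irr_quotient N hχ hker
  exact ⟨⟨ψ, hψ⟩, charDegree_eq_of_one (hψχ 1)⟩

theorem mem_charDegrees_quot {G : Type*} [Group G] [Finite G] (N : Subgroup G) [N.Normal]
    {χ : G → ℂ} (hχ : IsIrrCharacter G χ) (hker : ∀ x ∈ N, χ x = χ 1) :
    charDegree χ ∈ charDegrees (G ⧸ N) := by
  obtain ⟨ψ, hψ⟩ := exists_quot N hχ hker
  exact ⟨ψ, hψ⟩

theorem irr_finite_of_finite {G : Type*} [Group G] [Finite G] : Finite (IrrCharacter G) := by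
  have := Fintype.ofFinite G
  exact irr_finite

theorem card_quot_le {G : Type*} [Group G] [Finite G] (N : Subgroup G) [N.Normal] (n : ℕ) (c : ℂ)
    (hc : c = (n : ℂ)) :
    Nat.card {ψ : IrrCharacter (G ⧸ N) // charDegree ψ.1 = n} ≤
      Nat.card {χ : IrrCharacter G // χ.1 1 = c} := by
  have : Finite (IrrCharacter G) := irr_finite_of_finite
  refine Nat.card_le_card_of_injective
    (fun ψ => ⟨⟨infl N ψ.1.1, infl_irr N ψ.1.2⟩, ?_⟩) ?_
  · show infl N ψ.1.1 1 = c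
    rw [infl_one, irr_one_eq ψ.1.2, ψ.2, hc]
  · intro ψ₁ ψ₂ h
    have h1 : infl N ψ₁.1.1 = infl N ψ₂.1.1 := congrArg (fun x => x.1.1) h
    exact Subtype.ext (Subtype.ext (infl_inj N h1))

theorem sum_sq_nat {G : Type*} [Group G] [Finite G] [Fintype (IrrCharacter G)] :
    ∑ χ : IrrCharacter G, (charDegree χ.1) ^ 2 = Nat.card G := by
  have := Fintype.ofFinite G
  have h := sum_sq_degrees (G := G)
  have h2 : ∑ χ : IrrCharacter G, (χ : G → ℂ) 1 ^ 2 =
      ((∑ χ : IrrCharacter G, (charDegree χ.1) ^ 2 : ℕ) : ℂ) := by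
    push_cast
    refine Finset.sum_congr rfl (fun χ _ => ?_)
    rw [← irr_one_eq χ.2]
  rw [h2] at h
  exact_mod_cast h

theorem sum_by_deg {X : Type*} [Fintype X] (d : X → ℕ) (t : Finset ℕ) (ht : ∀ x, d x ∈ t)
    (h : ℕ → ℕ) :
    ∑ x, h (d x) = ∑ y ∈ t, Nat.card {x // d x = y} * h y := by
  classical
  rw [← Finset.sum_fiberwise_of_maps_to (g := d) (t := t) (fun x _ => ht x)]
  apply Finset.sum_congr rfl
  intro y _
  have h1 : ∀ x ∈ Finset.univ.filter (fun x => d x = y), h (d x) = h y := by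
    intro x hx
    rw [(Finset.mem_filter.mp hx).2]
  rw [Finset.sum_congr rfl h1, Finset.sum_const, smul_eq_mul, Nat.card_eq_fintype_card,
    Fintype.card_subtype]

end general

section graph

/-- the shape of the degree graph from the shape of the degree set -/
theorem graph_core {S : Type*} [Group S] (q t : ℕ) (ht : t.Prime) (hq : ∃ n : ℕ, q = t ^ n)
    (hq1 : 1 ≤ q)
    (hd : ∀ d ∈ charDegrees S, d = 1 ∨ d = q ∨ d ∣ q + 1 ∨ d ∣ q - 1)
    (h1 : q ∈ charDegrees S) (h2 : q + 1 ∈ charDegrees S) (h3 : q - 1 ∈ charDegrees S) :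
    degreePrimes S = {r : ℕ | r.Prime ∧ r ∣ q * (q ^ 2 - 1)} ∧
    ∀ r s : ℕ, (degreeGraph S).Adj r s ↔
      (r ≠ s ∧ r.Prime ∧ s.Prime ∧ ((r ∣ q + 1 ∧ s ∣ q + 1) ∨ (r ∣ q - 1 ∧ s ∣ q - 1))) := by
  have hfac : q ^ 2 - 1 = (q - 1) * (q + 1) := by
    obtain ⟨m, rfl⟩ : ∃ m, q = m + 1 := ⟨q - 1, by omega⟩
    rw [show (m + 1) ^ 2 = m * (m + 1 + 1) + 1 by ring]
    simp
  obtain ⟨n, hn⟩ := hq
  constructor
  · ext r
    constructor
    · rintro ⟨hr, d, hdS, hrd⟩
      refine ⟨hr, ?_⟩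
      rcases hd d hdS with rfl | rfl | h | h
      · exact absurd (Nat.dvd_one.mp hrd) hr.ne_one
      · exact Dvd.dvd.mul_right hrd _
      · rw [hfac]
        exact Dvd.dvd.mul_left (Dvd.dvd.mul_left (hrd.trans h) _) _
      · rw [hfac]
        exact Dvd.dvd.mul_left (Dvd.dvd.mul_right (hrd.trans h) _) _
    · rintro ⟨hr, hdiv⟩
      refine ⟨hr, ?_⟩
      rcases (Nat.Prime.dvd_mul hr).mp hdiv with h | h
      · exact ⟨q, h1, h⟩
      · rw [hfac] at h
        rcases (Nat.Prime.dvd_mul hr).mp h with h | h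
        · exact ⟨q - 1, h3, h⟩
        · exact ⟨q + 1, h2, h⟩
  · intro r s
    constructor
    · rintro ⟨hne, hr, hs, d, hdS, hrs⟩
      refine ⟨hne, hr, hs, ?_⟩
      have hrd : r ∣ d := (Dvd.intro _ rfl).trans hrs
      have hsd : s ∣ d := (Dvd.intro_left _ rfl).trans hrs
      rcases hd d hdS with rfl | rfl | h | h
      · exact absurd (Nat.dvd_one.mp hrd) hr.ne_one
      · exfalso
        rw [hn] at hrd hsd
        have e1 := (Nat.prime_dvd_prime_iff_eq hr ht).mp (hr.dvd_of_dvd_pow hrd)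
        have e2 := (Nat.prime_dvd_prime_iff_eq hs ht).mp (hs.dvd_of_dvd_pow hsd)
        exact hne (e1.trans e2.symm)
      · exact Or.inl ⟨hrd.trans h, hsd.trans h⟩
      · exact Or.inr ⟨hrd.trans h, hsd.trans h⟩
    · rintro ⟨hne, hr, hs, h⟩
      refine ⟨hne, hr, hs, ?_⟩
      have hcop : Nat.Coprime r s := (Nat.coprime_primes hr hs).mpr hne
      rcases h with ⟨ha, hb⟩ | ⟨ha, hb⟩
      · exact ⟨q + 1, h2, Nat.Coprime.mul_dvd_of_dvd_of_dvd hcop ha hb⟩
      · exact ⟨q - 1, h3, Nat.Coprime.mul_dvd_of_dvd_of_dvd hcop ha hb⟩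

/-- the odd form of the adjacency condition -/
theorem adj_odd_iff (q : ℕ) (hodd : Odd q) (r s : ℕ) (hr : r.Prime) (hs : s.Prime) :
    ((r ∣ q + 1 ∧ s ∣ q + 1) ∨ (r ∣ q - 1 ∧ s ∣ q - 1)) ↔
      (r ∣ q ^ 2 - 1 ∧ s ∣ q ^ 2 - 1 ∧
        (r = 2 ∨ s = 2 ∨ (r ∣ q + 1 ∧ s ∣ q + 1) ∨ (r ∣ q - 1 ∧ s ∣ q - 1))) := by
  obtain ⟨k, rfl⟩ := hodd
  have hfac : (2 * k + 1) ^ 2 - 1 = (2 * k + 1 - 1) * (2 * k + 1 + 1) := by
    rw [show (2 * k + 1) ^ 2 = 2 * k * (2 * k + 1 + 1) + 1 by ring]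
    simp
  have e1 : (2 : ℕ) ∣ 2 * k + 1 + 1 := ⟨k + 1, by ring⟩
  have e2 : (2 : ℕ) ∣ 2 * k + 1 - 1 := ⟨k, by simp⟩
  constructor
  · rintro (⟨ha, hb⟩ | ⟨ha, hb⟩)
    · refine ⟨?_, ?_, Or.inr (Or.inr (Or.inl ⟨ha, hb⟩))⟩
      · rw [hfac]; exact Dvd.dvd.mul_left ha _
      · rw [hfac]; exact Dvd.dvd.mul_left hb _
    · refine ⟨?_, ?_, Or.inr (Or.inr (Or.inr ⟨ha, hb⟩))⟩
      · rw [hfac]; exact Dvd.dvd.mul_right ha _
      · rw [hfac]; exact Dvd.dvd.mul_right hb _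
  · rintro ⟨ha, hb, h⟩
    rw [hfac] at ha hb
    rcases h with rfl | rfl | h | h
    · rcases (Nat.Prime.dvd_mul hs).mp hb with h' | h'
      · exact Or.inr ⟨e2, h'⟩
      · exact Or.inl ⟨e1, h'⟩
    · rcases (Nat.Prime.dvd_mul hr).mp ha with h' | h'
      · exact Or.inr ⟨h', e2⟩
      · exact Or.inl ⟨h', e1⟩
    · exact Or.inl h
    · exact Or.inr h

end graph

section arith

theorem arith_key (k n1 nq a b c d P : ℕ) (hk : 3 ≤ k) (h1 : n1 = 1) (hq : nq = 1) (hc : c ≤ 2)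
    (hd : d ≤ 2) (hP : 2 * P = (2 * k + 1) * (2 * k + 1 - 1) * (2 * k + 1 + 1))
    (hsum : P = n1 * 1 ^ 2 + (nq * (2 * k + 1) ^ 2 + (a * (2 * k + 2) ^ 2 + (b * (2 * k) ^ 2 +
      (c * (k + 1) ^ 2 + d * k ^ 2))))) : 0 < a ∧ 0 < b := by
  subst h1 hq
  have hP' : P = 2 * k * (k + 1) * (2 * k + 1) := by
    have e : 2 * k + 1 - 1 = 2 * k := by omega
    rw [e] at hP
    apply Nat.eq_of_mul_eq_mul_left (two_pos)
    rw [hP]; ring
  rw [hP'] at hsum
  have hsumZ : (2 * k * (k + 1) * (2 * k + 1) : ℤ) = 1 + (2 * k + 1) ^ 2 + a * (2 * k + 2) ^ 2 +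
      b * (2 * k) ^ 2 + c * (k + 1) ^ 2 + d * k ^ 2 := by
    have := congrArg (Nat.cast : ℕ → ℤ) hsum
    push_cast at this
    linarith
  constructor
  · by_contra ha
    have ha0 : a = 0 := by omega
    subst ha0
    have hdvd : (k : ℤ) ∣ 2 + c :=
      ⟨2 * (k + 1) * (2 * k + 1) - 4 * (k + 1) - 4 * b * k - c * (k + 2) - d * k, by
        push_cast at hsumZ ⊢
        linear_combination (-1 : ℤ) * hsumZ⟩
    have hle : (k : ℤ) ≤ 2 + c := Int.le_of_dvd (by positivity) hdvd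
    have hk4 : k ≤ 4 := by omega
    interval_cases k
    · norm_num at hsum; omega
    · norm_num at hsum; omega
  · by_contra hb
    have hb0 : b = 0 := by omega
    subst hb0
    have hdvd : ((k : ℤ) + 1) ∣ 2 + d :=
      ⟨2 * k * (2 * k + 1) - 4 * k - 4 * a * (k + 1) - c * (k + 1) - d * (k - 1), by
        push_cast at hsumZ ⊢
        linear_combination (-1 : ℤ) * hsumZ⟩
    have hle : (k : ℤ) + 1 ≤ 2 + d := Int.le_of_dvd (by positivity) hdvd
    have hk4 : k ≤ 3 := by omega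
    interval_cases k
    norm_num at hsum; omega

end arith

section sl2

open Cfsg.Agent.Lib.Helper13.SL2Ind Cfsg.Agent.Lib.Helper13.SL2Irr Cfsg.Agent.Lib.Helper13.SL2Irr4

variable {F : Type*} [Field F] [Fintype F]

theorem center_cases (x : Matrix.SpecialLinearGroup (Fin 2) F)
    (hx : x ∈ Subgroup.center (Matrix.SpecialLinearGroup (Fin 2) F)) : x = 1 ∨ x = zS F := by
  classical
  obtain ⟨r, hr, hx'⟩ := Matrix.SpecialLinearGroup.mem_center_iff.mp hx
  rw [Fintype.card_fin] at hr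
  have hr' : r * r = 1 := by rw [← pow_two]; exact hr
  rcases mul_self_eq_one_iff.mp hr' with rfl | rfl
  · left
    apply Subtype.ext
    rw [← hx']; simp
  · right
    apply Subtype.ext
    rw [← hx', zS_val]
    ext i j
    fin_cases i <;> fin_cases j <;> simp

theorem indS_zS [DecidableEq F] (α : MulChar F ℂ) :
    Cfsg.indFun (BS F) (thetaS α) (zS F) = ((Fintype.card F : ℂ) + 1) * α (-1) := by
  rw [indS_apply, zS_val]
  simp
  ring

/-- the Steinberg character is trivial on the centre -/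
theorem exists_st : ∃ χ : Matrix.SpecialLinearGroup (Fin 2) F → ℂ,
    IsIrrCharacter (Matrix.SpecialLinearGroup (Fin 2) F) χ ∧ χ 1 = (Fintype.card F : ℂ) ∧
    ∀ x ∈ Subgroup.center (Matrix.SpecialLinearGroup (Fin 2) F), χ x = χ 1 := by
  classical
  refine ⟨stS F, stS_isIrr, stS_one, ?_⟩
  intro x hx
  rcases center_cases x hx with rfl | rfl
  · rfl
  · rw [stS_one, stS, Pi.sub_apply, indS_zS, MulChar.one_apply (isUnit_one.neg)]
    ring

theorem card_field (t : ℕ) [Fact t.Prime] [CharP F t] :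
    ∃ n : ℕ, Fintype.card F = t ^ n ∧ 1 ≤ n := by
  obtain ⟨n, -, hn⟩ := FiniteField.card F t
  exact ⟨n, hn, n.pos⟩

theorem mem_of_card_pos {G : Type*} [Group G] {c : ℂ} {n : ℕ} (hc : c = (n : ℂ))
    (h : 0 < Nat.card {χ : IrrCharacter G // χ.1 1 = c}) : n ∈ charDegrees G := by
  obtain ⟨⟨χ, hχ⟩⟩ := (Nat.card_pos_iff.mp h).1
  exact ⟨χ, charDegree_natCast (hχ.trans hc)⟩

/-! ### odd characteristic -/

theorem sl_degree_cases_odd (hodd : Odd (Fintype.card F))
    {χ : Matrix.SpecialLinearGroup (Fin 2) F → ℂ}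
    (hχ : IsIrrCharacter (Matrix.SpecialLinearGroup (Fin 2) F) χ) :
    charDegree χ = 1 ∨ charDegree χ = Fintype.card F ∨ charDegree χ = Fintype.card F + 1 ∨
      charDegree χ = Fintype.card F - 1 ∨ charDegree χ = (Fintype.card F + 1) / 2 ∨
      charDegree χ = (Fintype.card F - 1) / 2 := by
  have hq : 1 ≤ Fintype.card F := Fintype.card_pos
  rcases (Cfsg.Agent.S2299.result hodd).1 χ hχ with h | h | h | h | h | h
  · exact Or.inl (charDegree_natCast (by rw [h]; simp))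
  · exact Or.inr (Or.inl (charDegree_natCast h))
  · exact Or.inr (Or.inr (Or.inl (charDegree_natCast (by rw [h]; push_cast; ring))))
  · exact Or.inr (Or.inr (Or.inr (Or.inl (charDegree_natCast (by rw [h, Nat.cast_sub hq]; simp)))))
  · exact Or.inr (Or.inr (Or.inr (Or.inr (Or.inl (charDegree_natCast h)))))
  · exact Or.inr (Or.inr (Or.inr (Or.inr (Or.inr (charDegree_natCast h)))))

theorem sl_hd_odd (hodd : Odd (Fintype.card F)) :
    ∀ d ∈ charDegrees (Matrix.SpecialLinearGroup (Fin 2) F),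
      d = 1 ∨ d = Fintype.card F ∨ d ∣ Fintype.card F + 1 ∨ d ∣ Fintype.card F - 1 := by
  rintro d ⟨χ, rfl⟩
  obtain ⟨k, hk⟩ := id hodd
  rcases sl_degree_cases_odd hodd χ.2 with h | h | h | h | h | h
  · exact Or.inl h
  · exact Or.inr (Or.inl h)
  · exact Or.inr (Or.inr (Or.inl (by rw [h])))
  · exact Or.inr (Or.inr (Or.inr (by rw [h])))
  · refine Or.inr (Or.inr (Or.inl ?_))
    rw [h]
    exact Nat.div_dvd_of_dvd ⟨k + 1, by omega⟩
  · refine Or.inr (Or.inr (Or.inr ?_))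
    rw [h]
    exact Nat.div_dvd_of_dvd ⟨k, by omega⟩

theorem sl_mem_odd (hodd : Odd (Fintype.card F)) (h5 : 5 ≤ Fintype.card F) :
    Fintype.card F ∈ charDegrees (Matrix.SpecialLinearGroup (Fin 2) F) ∧
    Fintype.card F + 1 ∈ charDegrees (Matrix.SpecialLinearGroup (Fin 2) F) ∧
    Fintype.card F - 1 ∈ charDegrees (Matrix.SpecialLinearGroup (Fin 2) F) := by
  obtain ⟨-, cq, cq1, cq2, -, -⟩ := (Cfsg.Agent.S2299.result hodd).2 h5
  have hq : 1 ≤ Fintype.card F := Fintype.card_pos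
  refine ⟨mem_of_card_pos rfl (by rw [cq]; norm_num),
    mem_of_card_pos (c := (Fintype.card F : ℂ) + 1) (n := Fintype.card F + 1)
      (by push_cast; ring) (by rw [cq1]; omega),
    mem_of_card_pos (c := (Fintype.card F : ℂ) - 1) (n := Fintype.card F - 1)
      (by rw [Nat.cast_sub hq]; simp) (by rw [cq2]; omega)⟩

theorem psl_hd_odd (hodd : Odd (Fintype.card F)) :
    ∀ d ∈ charDegrees (Matrix.ProjectiveSpecialLinearGroup (Fin 2) F),
      d = 1 ∨ d = Fintype.card F ∨ d ∣ Fintype.card F + 1 ∨ d ∣ Fintype.card F - 1 :=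
  fun d hd => sl_hd_odd hodd d (charDegrees_quot_subset _ hd)

theorem psl_mem_q : Fintype.card F ∈ charDegrees (Matrix.ProjectiveSpecialLinearGroup (Fin 2) F) := by
  obtain ⟨χ, hχ, hχ1, hχZ⟩ := exists_st (F := F)
  have h := mem_charDegrees_quot (Subgroup.center (Matrix.SpecialLinearGroup (Fin 2) F)) hχ hχZ
  rwa [charDegree_natCast hχ1] at h

theorem psl_mem_odd (hodd : Odd (Fintype.card F)) (h7 : 7 ≤ Fintype.card F) :
    Fintype.card F ∈ charDegrees (Matrix.ProjectiveSpecialLinearGroup (Fin 2) F) ∧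
    Fintype.card F + 1 ∈ charDegrees (Matrix.ProjectiveSpecialLinearGroup (Fin 2) F) ∧
    Fintype.card F - 1 ∈ charDegrees (Matrix.ProjectiveSpecialLinearGroup (Fin 2) F) := by
  classical
  refine ⟨psl_mem_q, ?_⟩
  obtain ⟨k, hk⟩ := id hodd
  have hk3 : 3 ≤ k := by omega
  obtain ⟨Z, hZ⟩ : ∃ Z, Z = Subgroup.center (Matrix.SpecialLinearGroup (Fin 2) F) := ⟨_, rfl⟩
  have hfinI : Finite (IrrCharacter (Matrix.ProjectiveSpecialLinearGroup (Fin 2) F)) :=
    irr_finite_of_finite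
  let _ : Fintype (IrrCharacter (Matrix.ProjectiveSpecialLinearGroup (Fin 2) F)) :=
    Fintype.ofFinite _
  have hdeg : ∀ ψ : IrrCharacter (Matrix.ProjectiveSpecialLinearGroup (Fin 2) F),
      charDegree ψ.1 ∈ ({1, 2 * k + 1, 2 * k + 2, 2 * k, k + 1, k} : Finset ℕ) := by
    intro ψ
    have h := sl_degree_cases_odd hodd (infl_irr _ ψ.2)
    rw [charDegree_eq_of_one (infl_one _ ψ.1)] at h
    simp only [Finset.mem_insert, Finset.mem_singleton]
    rw [hk] at h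
    omega
  have hsum := sum_by_deg
    (fun ψ : IrrCharacter (Matrix.ProjectiveSpecialLinearGroup (Fin 2) F) => charDegree ψ.1) _ hdeg
    (fun d => d ^ 2)
  have hsq := sum_sq_nat (G := Matrix.ProjectiveSpecialLinearGroup (Fin 2) F)
  beta_reduce at hsum
  rw [hsq] at hsum
  rw [Finset.sum_insert (by simp; omega), Finset.sum_insert (by simp; omega),
    Finset.sum_insert (by simp; omega), Finset.sum_insert (by simp; omega),
    Finset.sum_insert (by simp), Finset.sum_singleton] at hsum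
  obtain ⟨c1, cq, -, -, ch1, ch2⟩ := (Cfsg.Agent.S2299.result hodd).2 (by omega)
  have b1 : Nat.card {ψ : IrrCharacter (Matrix.ProjectiveSpecialLinearGroup (Fin 2) F) //
      charDegree ψ.1 = 1} ≤ 1 :=
    (card_quot_le (Subgroup.center (Matrix.SpecialLinearGroup (Fin 2) F)) 1 (1 : ℂ)
    (by simp)).trans_eq c1
  have bq : Nat.card {ψ : IrrCharacter (Matrix.ProjectiveSpecialLinearGroup (Fin 2) F) //
      charDegree ψ.1 = 2 * k + 1} ≤ 1 :=
    (card_quot_le (Subgroup.center (Matrix.SpecialLinearGroup (Fin 2) F)) (2 * k + 1)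
    (Fintype.card F : ℂ) (by rw [hk])).trans_eq cq
  have bh1 : Nat.card {ψ : IrrCharacter (Matrix.ProjectiveSpecialLinearGroup (Fin 2) F) //
      charDegree ψ.1 = k + 1} ≤ 2 :=
    (card_quot_le (Subgroup.center (Matrix.SpecialLinearGroup (Fin 2) F)) (k + 1)
    (((Fintype.card F + 1) / 2 : ℕ) : ℂ) (by congr 1; omega)).trans_eq ch1
  have bh2 : Nat.card {ψ : IrrCharacter (Matrix.ProjectiveSpecialLinearGroup (Fin 2) F) //
      charDegree ψ.1 = k} ≤ 2 :=
    (card_quot_le (Subgroup.center (Matrix.SpecialLinearGroup (Fin 2) F)) k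
    (((Fintype.card F - 1) / 2 : ℕ) : ℂ) (by congr 1; omega)).trans_eq ch2
  have p1 : 0 < Nat.card {ψ : IrrCharacter (Matrix.ProjectiveSpecialLinearGroup (Fin 2) F) //
      charDegree ψ.1 = 1} :=
    Nat.card_pos_iff.mpr ⟨⟨⟨⟨fun _ => 1, isIrrCharacter_one⟩, charDegree_natCast (by simp)⟩⟩,
      inferInstance⟩
  have pq : 0 < Nat.card {ψ : IrrCharacter (Matrix.ProjectiveSpecialLinearGroup (Fin 2) F) //
      charDegree ψ.1 = 2 * k + 1} := by
    obtain ⟨ψ₀, hψ₀⟩ := psl_mem_q (F := F)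
    exact Nat.card_pos_iff.mpr ⟨⟨⟨ψ₀, by rw [hψ₀, hk]⟩⟩, inferInstance⟩
  have hP := Cfsg.Agent.S0276.two_mul_card_PSL2 (F := F) hk ⟨k, rfl⟩
  have key := arith_key k _ _ _ _ _ _ _ hk3 (le_antisymm b1 p1) (le_antisymm bq pq) bh1 bh2 hP hsum
  obtain ⟨⟨ψa, hψa⟩⟩ := (Nat.card_pos_iff.mp key.1).1
  obtain ⟨⟨ψb, hψb⟩⟩ := (Nat.card_pos_iff.mp key.2).1
  exact ⟨⟨ψa, by rw [hψa, hk]⟩, ⟨ψb, by rw [hψb, hk]; omega⟩⟩

/-! ### characteristic two -/

theorem sl_hd_even [CharP F 2] :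
    ∀ d ∈ charDegrees (Matrix.SpecialLinearGroup (Fin 2) F),
      d = 1 ∨ d = Fintype.card F ∨ d ∣ Fintype.card F + 1 ∨ d ∣ Fintype.card F - 1 := by
  rintro d ⟨χ, rfl⟩
  have hq : 1 ≤ Fintype.card F := Fintype.card_pos
  rcases (Cfsg.Agent.S2300.result (F := F)).1 χ.1 χ.2 with h | h | h | h
  · exact Or.inl (charDegree_natCast (by rw [h]; simp))
  · exact Or.inr (Or.inr (Or.inr (by
      rw [charDegree_natCast (n := Fintype.card F - 1) (by rw [h, Nat.cast_sub hq]; simp)])))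
  · exact Or.inr (Or.inl (charDegree_natCast h))
  · exact Or.inr (Or.inr (Or.inl (by
      rw [charDegree_natCast (n := Fintype.card F + 1) (by rw [h]; push_cast; ring)])))

theorem sl_mem_even [CharP F 2] (h4 : 4 ≤ Fintype.card F) :
    Fintype.card F ∈ charDegrees (Matrix.SpecialLinearGroup (Fin 2) F) ∧
    Fintype.card F + 1 ∈ charDegrees (Matrix.SpecialLinearGroup (Fin 2) F) ∧
    Fintype.card F - 1 ∈ charDegrees (Matrix.SpecialLinearGroup (Fin 2) F) := by
  obtain ⟨-, cq, cq1, cq2⟩ := (Cfsg.Agent.S2300.result (F := F)).2 h4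
  have hq : 1 ≤ Fintype.card F := Fintype.card_pos
  refine ⟨mem_of_card_pos rfl (by rw [cq]; norm_num),
    mem_of_card_pos (c := (Fintype.card F : ℂ) + 1) (n := Fintype.card F + 1)
      (by push_cast; ring) (by rw [cq1]; omega),
    mem_of_card_pos (c := (Fintype.card F : ℂ) - 1) (n := Fintype.card F - 1)
      (by rw [Nat.cast_sub hq]; simp) (by rw [cq2]; omega)⟩

theorem center_trivial_char2 [CharP F 2] (x : Matrix.SpecialLinearGroup (Fin 2) F)
    (hx : x ∈ Subgroup.center (Matrix.SpecialLinearGroup (Fin 2) F)) : x = 1 := by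
  classical
  rcases center_cases x hx with h | h
  · exact h
  · rw [h]
    apply Subtype.ext
    rw [zS_val]
    ext i j
    fin_cases i <;> fin_cases j <;> simp [CharTwo.neg_eq]

theorem charDegrees_psl_char2 [CharP F 2] :
    charDegrees (Matrix.ProjectiveSpecialLinearGroup (Fin 2) F) =
      charDegrees (Matrix.SpecialLinearGroup (Fin 2) F) := by
  apply Set.Subset.antisymm (charDegrees_quot_subset _)
  rintro d ⟨χ, rfl⟩
  exact mem_charDegrees_quot _ χ.2 (fun x hx => by rw [center_trivial_char2 x hx])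

end sl2

end Cfsg.Agent.Lib.Helper25.PSL2Deg
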