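import Mathlib
import Cfsg.Agent.Lib.Helper1.CharMisc
import Cfsg.Agent.Lib.Helper1.CharMore
import Cfsg.Agent.Lib.Helper1.CharInd
import Cfsg.Agent.Lib.Helper1.CharExtra
import Cfsg.Agent.Lib.Helper1.CharClifford2
import Cfsg.Agent.Lib.Helper24.FongRey1

/-!
# Real linear characters and characters over an extendible character

* `real_linear` : a linear character with Frobenius–Schur sum `|G|` squares to `1`;
* `gallagher_lite` : if `ψ ∈ Irr(I)` restricts irreducibly to `N` and `ψ γ = ψ` for a real linear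
  character `γ` of `I` trivial on `N`, then `γ = 1`;
* `card_linear_trivial_le` : at most `|G : I|` linear characters of `G` are trivial on `I`.
-/

set_option autoImplicit false
set_option linter.unusedSectionVars false
set_option linter.unusedVariables false

namespace Cfsg.Agent.Lib.Helper25.RealLin

open Cfsg Cfsg.Agent.Lib.Helper1 Cfsg.Agent.Lib.Helper24.FongRey
open scoped ComplexConjugate

universe u

variable {G : Type u} [Group G] [Fintype G]

/-- a linear character with Frobenius–Schur indicator `1` takes values `±1` -/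
theorem real_linear (lam : G →* ℂˣ)
    (h : (Nat.card G : ℂ)⁻¹ * ∑ g : G, ((lam (g * g) : ℂˣ) : ℂ) = 1) (g : G) :
    ((lam g : ℂˣ) : ℂ) * ((lam g : ℂˣ) : ℂ) = 1 := by
  have hG0 : (Nat.card G : ℂ) ≠ 0 := by exact_mod_cast Nat.card_pos.ne'
  have h1 : ∑ g : G, ((lam (g * g) : ℂˣ) : ℂ) = (Nat.card G : ℂ) := by
    field_simp at h
    exact h
  have hnorm : ∀ g : G, Complex.normSq ((lam (g * g) : ℂˣ) : ℂ) = 1 := by
    intro g
    have h3 : ((Complex.normSq ((lam (g * g) : ℂˣ) : ℂ) : ℝ) : ℂ) = 1 := by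
      rw [← Complex.mul_conj, mul_comm]
      exact monoidHom_conj_mul_self lam (g * g)
    exact_mod_cast h3
  have hre : ∀ g : G, ((lam (g * g) : ℂˣ) : ℂ).re ≤ 1 := by
    intro g
    have h3 := hnorm g
    rw [Complex.normSq_apply] at h3
    nlinarith [mul_self_nonneg (((lam (g * g) : ℂˣ) : ℂ).im),
      mul_self_nonneg (((lam (g * g) : ℂˣ) : ℂ).re - 1)]
  have h2 : ∑ g : G, (1 - ((lam (g * g) : ℂˣ) : ℂ).re) = 0 := by
    rw [Finset.sum_sub_distrib, Finset.sum_const, Finset.card_univ, nsmul_eq_mul, mul_one]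
    have h3 := congrArg Complex.re h1
    rw [Complex.re_sum] at h3
    rw [h3, Nat.card_eq_fintype_card]
    simp
  have h3 := (Finset.sum_eq_zero_iff_of_nonneg (fun g _ => sub_nonneg.mpr (hre g))).mp h2 g
    (Finset.mem_univ g)
  have h4 : ((lam (g * g) : ℂˣ) : ℂ).re = 1 := by linarith
  have h5 : ((lam (g * g) : ℂˣ) : ℂ).im = 0 := by
    have h6 := hnorm g
    rw [Complex.normSq_apply, h4] at h6
    have h7 : ((lam (g * g) : ℂˣ) : ℂ).im * ((lam (g * g) : ℂˣ) : ℂ).im = 0 := by linarith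
    exact mul_self_eq_zero.mp h7
  have h6 : ((lam (g * g) : ℂˣ) : ℂ) = 1 := Complex.ext h4 h5
  rw [map_mul, Units.val_mul] at h6
  exact h6

variable (N I : Subgroup G) [Fintype N] [Fintype I]

/-- Gallagher for a real linear character: `ψ γ = ψ` forces `γ = 1` -/
theorem gallagher_lite (hNI : N ≤ I) {φ : N → ℂ} (hφ : IsIrrCharacter N φ) {ψ : I → ℂ}
    (hψ : IsIrrCharacter I ψ) (hres : ∀ n : N, ψ ⟨n, hNI n.2⟩ = φ n) (γ : I →* ℂˣ)
    (hγN : ∀ n : N, γ ⟨n, hNI n.2⟩ = 1)
    (hγreal : ∀ x : I, conj ((γ x : ℂˣ) : ℂ) = ((γ x : ℂˣ) : ℂ))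
    (hfix : ∀ x : I, ((γ x : ℂˣ) : ℂ) * ψ x = ψ x) (x : I) : γ x = 1 := by
  classical
  haveI : Fintype (IrrCharacter I) := irrFintype
  have hΘ : IsCharacter I (ψ * fun x => conj (ψ x)) :=
    IsCharacter.mul (IsIrrCharacter.isCharacter hψ)
      (IsCharacter.conj (IsIrrCharacter.isCharacter hψ))
  obtain ⟨m, hm1, hm2⟩ := IsCharacter.eq_sum_irr hΘ
  have hγirr : IsIrrCharacter I (fun x => ((γ x : ℂˣ) : ℂ)) := isIrrCharacter_of_monoidHom γ
  have hone : IsIrrCharacter I (fun _ => (1 : ℂ)) := isIrrCharacter_one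
  have hψψ := classInner_irr_self hψ
  have hm_one : m ⟨_, hone⟩ = 1 := by
    have h1 := hm1 ⟨_, hone⟩
    have h2 : classInner (ψ * fun x => conj (ψ x)) (fun _ : I => (1 : ℂ))
        = classInner ψ ψ := by
      unfold classInner
      congr 1
      refine Finset.sum_congr rfl (fun y _ => ?_)
      simp
    rw [h2, hψψ] at h1
    exact_mod_cast h1.symm
  have hm_γ : m ⟨_, hγirr⟩ = 1 := by
    have h1 := hm1 ⟨_, hγirr⟩
    have h2 : classInner (ψ * fun x => conj (ψ x)) (fun x : I => ((γ x : ℂˣ) : ℂ))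
        = classInner ψ ψ := by
      unfold classInner
      congr 1
      refine Finset.sum_congr rfl (fun y _ => ?_)
      show ψ y * conj (ψ y) * conj ((γ y : ℂˣ) : ℂ) = ψ y * conj (ψ y)
      rw [hγreal y]
      have h3 := hfix y
      calc ψ y * conj (ψ y) * ((γ y : ℂˣ) : ℂ)
          = (((γ y : ℂˣ) : ℂ) * ψ y) * conj (ψ y) := by ring
        _ = ψ y * conj (ψ y) := by rw [h3]
    rw [h2, hψψ] at h1
    exact_mod_cast h1.symm
  have hexp := inner_res_expand N I hNI m hm2 (fun _ : N => (1 : ℂ))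
  have hlhs : classInner (fun n : N => (ψ * fun x => conj (ψ x)) ⟨n, hNI n.2⟩)
      (fun _ : N => (1 : ℂ)) = 1 := by
    have h0 : classInner (fun n : N => (ψ * fun x => conj (ψ x)) ⟨n, hNI n.2⟩)
        (fun _ : N => (1 : ℂ)) = classInner φ φ := by
      unfold classInner
      congr 1
      refine Finset.sum_congr rfl (fun n _ => ?_)
      show ψ ⟨n, hNI n.2⟩ * conj (ψ ⟨n, hNI n.2⟩) * conj (1 : ℂ) = φ n * conj (φ n)
      rw [hres n]
      simp
    rw [h0, classInner_irr_self hφ]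
  choose a ha using fun χ : IrrCharacter I =>
    res_nat N I hNI (IsIrrCharacter.isCharacter χ.2) (isIrrCharacter_one (G := N))
  have ha_one : a ⟨_, hone⟩ = 1 := by
    have h1 := ha ⟨_, hone⟩
    have h2 : classInner (fun _ : N => (1 : ℂ)) (fun _ : N => (1 : ℂ)) = 1 :=
      classInner_irr_self isIrrCharacter_one
    rw [h2] at h1
    exact_mod_cast h1.symm
  have ha_γ : a ⟨_, hγirr⟩ = 1 := by
    have h1 := ha ⟨_, hγirr⟩
    have h2 : (fun n : N => ((γ ⟨n, hNI n.2⟩ : ℂˣ) : ℂ)) = fun _ : N => (1 : ℂ) := by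
      funext n
      rw [hγN n]
      rfl
    have h3 : classInner (fun _ : N => (1 : ℂ)) (fun _ : N => (1 : ℂ)) = 1 :=
      classInner_irr_self isIrrCharacter_one
    simp only [h2, h3] at h1
    exact_mod_cast h1.symm
  have hsum : ∑ χ : IrrCharacter I, m χ * a χ = 1 := by
    have h1 : ((∑ χ : IrrCharacter I, m χ * a χ : ℕ) : ℂ) = 1 := by
      rw [← hlhs, hexp]
      push_cast
      refine Finset.sum_congr rfl (fun χ _ => ?_)
      rw [ha χ]
    exact_mod_cast h1
  have hγone : (fun x : I => ((γ x : ℂˣ) : ℂ)) = fun _ : I => (1 : ℂ) := by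
    by_contra hne
    have hne' : (⟨_, hγirr⟩ : IrrCharacter I) ≠ ⟨_, hone⟩ := by
      intro h
      exact hne (congrArg Subtype.val h)
    have h1 : ∑ χ ∈ ({⟨_, hγirr⟩, ⟨_, hone⟩} : Finset (IrrCharacter I)), m χ * a χ
        ≤ ∑ χ : IrrCharacter I, m χ * a χ :=
      Finset.sum_le_sum_of_subset (Finset.subset_univ _)
    rw [Finset.sum_pair hne', hm_one, hm_γ, ha_one, ha_γ, hsum] at h1
    omega
  apply Units.ext
  exact congrFun hγone x

/-- at most `|G : I|` linear characters of `G` are trivial on `I` -/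
theorem card_linear_trivial_le [DecidablePred fun δ : IrrCharacter G =>
      (δ : G → ℂ) 1 = 1 ∧ ∀ x ∈ I, (δ : G → ℂ) x = 1] [Fintype (IrrCharacter G)] :
    (Finset.univ.filter (fun δ : IrrCharacter G =>
      (δ : G → ℂ) 1 = 1 ∧ ∀ x ∈ I, (δ : G → ℂ) x = 1)).card ≤ I.index := by
  classical
  have hPi : IsCharacter G (indFun I (fun _ : I => (1 : ℂ))) :=
    indFun_isCharacter I isCharacter_one
  obtain ⟨m, hm1, hm2⟩ := IsCharacter.eq_sum_irr hPi
  choose d hd0 hd using fun χ : IrrCharacter G => IsIrrCharacter.degree_pos χ.2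
  have hidx : I.index = ∑ χ : IrrCharacter G, m χ * d χ := by
    have h1 := congrFun hm2 1
    rw [Cfsg.Agent.Lib.Helper1.indFun_one, mul_one, Finset.sum_apply] at h1
    have h2 : (I.index : ℂ) = ((∑ χ : IrrCharacter G, m χ * d χ : ℕ) : ℂ) := by
      rw [h1]
      push_cast
      refine Finset.sum_congr rfl (fun χ _ => ?_)
      rw [Pi.smul_apply, smul_eq_mul, hd χ]
    exact_mod_cast h2
  rw [hidx, Finset.card_eq_sum_ones]
  calc ∑ δ ∈ Finset.univ.filter (fun δ : IrrCharacter G =>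
        (δ : G → ℂ) 1 = 1 ∧ ∀ x ∈ I, (δ : G → ℂ) x = 1), 1
      ≤ ∑ δ ∈ Finset.univ.filter (fun δ : IrrCharacter G =>
        (δ : G → ℂ) 1 = 1 ∧ ∀ x ∈ I, (δ : G → ℂ) x = 1), m δ * d δ := by
        apply Finset.sum_le_sum
        intro δ hδ
        obtain ⟨hδ1, hδI⟩ := (Finset.mem_filter.mp hδ).2
        have hmδ : m δ = 1 := by
          have h1 := hm1 δ
          rw [frobenius_reciprocity I _ (IsIrrCharacter.isClassFunction δ.2)] at h1
          have h2 : classInner (fun _ : I => (1 : ℂ)) (fun h : I => (δ : G → ℂ) h) = 1 := by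
            have h3 : (fun h : I => (δ : G → ℂ) h) = fun _ : I => (1 : ℂ) := by
              funext h
              exact hδI h h.2
            rw [h3]
            exact classInner_irr_self isIrrCharacter_one
          rw [h2] at h1
          exact_mod_cast h1.symm
        have hdδ : d δ = 1 := by
          have h1 := hd δ
          rw [hδ1] at h1
          exact_mod_cast h1.symm
        rw [hmδ, hdδ]
    _ ≤ ∑ χ : IrrCharacter G, m χ * d χ :=
        Finset.sum_le_sum_of_subset (Finset.subset_univ _)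

end Cfsg.Agent.Lib.Helper25.RealLin
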