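import Mathlib

namespace Cfsg.Agent.Lib.Helper25.RedSyl

open Matrix

section basic

variable {F : Type*} [Field F] {p : ℕ} [NeZero p]

/-- monomial matrix: entry `(a, b)` is `d a` when `a = b + i`, zero otherwise. -/
def Mm (d : Fin p → F) (i : Fin p) : Matrix (Fin p) (Fin p) F :=
  Matrix.of fun a b => if a = b + i then d a else 0

theorem Mm_apply (d : Fin p → F) (i a b : Fin p) :
    Mm d i a b = if a = b + i then d a else 0 := rfl

theorem Mm_mul_apply (d : Fin p → F) (i : Fin p) (N : Matrix (Fin p) (Fin p) F) (r s : Fin p) :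
    (Mm d i * N) r s = d r * N (r - i) s := by
  rw [Matrix.mul_apply, Finset.sum_eq_single (r - i)]
  · simp [Mm_apply]
  · intro c _ hc
    have h1 : r ≠ c + i := fun h => hc (by rw [h]; simp)
    simp [Mm_apply, h1]
  · intro h; exact absurd (Finset.mem_univ _) h

theorem mul_Mm_apply (d : Fin p → F) (i : Fin p) (N : Matrix (Fin p) (Fin p) F) (r s : Fin p) :
    (N * Mm d i) r s = N r (s + i) * d (s + i) := by
  rw [Matrix.mul_apply, Finset.sum_eq_single (s + i)]
  · simp [Mm_apply]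
  · intro c _ hc
    simp [Mm_apply, hc]
  · intro h; exact absurd (Finset.mem_univ _) h

theorem Mm_mulVec (d : Fin p → F) (i : Fin p) (v : Fin p → F) (r : Fin p) :
    (Mm d i *ᵥ v) r = d r * v (r - i) := by
  rw [Matrix.mulVec, dotProduct, Finset.sum_eq_single (r - i)]
  · simp [Mm_apply]
  · intro c _ hc
    have h1 : r ≠ c + i := fun h => hc (by rw [h]; simp)
    simp [Mm_apply, h1]
  · intro h; exact absurd (Finset.mem_univ _) h

theorem Mm_mul_Mm (d d' : Fin p → F) (i i' : Fin p) :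
    Mm d i * Mm d' i' = Mm (fun a => d a * d' (a - i)) (i + i') := by
  ext r s
  rw [Mm_mul_apply, Mm_apply, Mm_apply]
  by_cases h : r = s + (i + i')
  · have h2 : r - i = s + i' := by rw [h]; abel
    rw [if_pos h2, if_pos h]
  · have h2 : ¬ (r - i = s + i') := fun h2 => h (by rw [sub_eq_iff_eq_add] at h2; rw [h2]; abel)
    rw [if_neg h2, if_neg h, mul_zero]

theorem Mm_one : Mm (fun _ => (1 : F)) (0 : Fin p) = 1 := by
  ext r s
  simp [Mm_apply, Matrix.one_apply]

/-- the unit of `GL` with matrix `Mm d i`. -/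
def uM (d : Fin p → F) (i : Fin p) (hd : ∀ a, d a ≠ 0) : GL (Fin p) F :=
  ⟨Mm d i, Mm (fun a => (d (a + i))⁻¹) (-i), by
    rw [Mm_mul_Mm]
    have e1 : (fun a => d a * (d (a - i + i))⁻¹) = fun _ => (1 : F) := by
      funext a; rw [sub_add_cancel]; exact mul_inv_cancel₀ (hd a)
    rw [e1, add_neg_cancel, Mm_one], by
    rw [Mm_mul_Mm]
    have e1 : (fun a => (d (a + i))⁻¹ * d (a - -i)) = fun _ => (1 : F) := by
      funext a; rw [sub_neg_eq_add]; exact inv_mul_cancel₀ (hd (a + i))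
    rw [e1, neg_add_cancel, Mm_one]⟩

theorem uM_val (d : Fin p → F) (i : Fin p) (hd : ∀ a, d a ≠ 0) :
    ((uM d i hd : GL (Fin p) F) : Matrix (Fin p) (Fin p) F) = Mm d i := rfl

theorem uM_inv_val (d : Fin p → F) (i : Fin p) (hd : ∀ a, d a ≠ 0) :
    (((uM d i hd)⁻¹ : GL (Fin p) F) : Matrix (Fin p) (Fin p) F)
      = Mm (fun a => (d (a + i))⁻¹) (-i) := rfl

theorem ne_zero_of_pow {x : F} (h : x ^ p = 1) : x ≠ 0 := by
  intro h0
  rw [h0, zero_pow (NeZero.ne p)] at h
  exact zero_ne_one h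

theorem Mm_inj {d d' : Fin p → F} {i i' : Fin p} (hd : ∀ a, d a ≠ 0)
    (h : Mm d i = Mm d' i') : i = i' ∧ d = d' := by
  have key : ∀ a, i' = i ∧ d' a = d a := by
    intro a
    have h1 := congrFun (congrFun h a) (a - i)
    rw [Mm_apply, Mm_apply, if_pos (by simp)] at h1
    by_cases h2 : a = a - i + i'
    · rw [if_pos h2] at h1
      refine ⟨?_, h1.symm⟩
      have h3 : a - i + i' = a - i + i := by rw [← h2]; simp
      exact add_left_cancel h3
    · rw [if_neg h2] at h1
      exact absurd h1 (hd a)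
  exact ⟨(key 0).1.symm, funext fun a => (key a).2.symm⟩

variable (F p)

/-- the monomial `p`-group `μ_p ^ p ⋊ C_p`. -/
def Q0 : Subgroup (GL (Fin p) F) where
  carrier := {g | ∃ d i, (∀ a, d a ^ p = 1) ∧ (g : Matrix (Fin p) (Fin p) F) = Mm d i}
  mul_mem' := by
    rintro g h ⟨d, i, hd, hg⟩ ⟨d', i', hd', hh⟩
    refine ⟨fun a => d a * d' (a - i), i + i', ?_, ?_⟩
    · intro a; rw [mul_pow, hd, hd', one_mul]
    · rw [Units.val_mul, hg, hh, Mm_mul_Mm]
  one_mem' := ⟨fun _ => 1, 0, fun _ => one_pow _, by rw [Units.val_one, Mm_one]⟩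
  inv_mem' := by
    rintro g ⟨d, i, hd, hg⟩
    have hne : ∀ a, d a ≠ 0 := fun a => ne_zero_of_pow (hd a)
    have e : g = uM d i hne := Units.ext hg
    refine ⟨fun a => (d (a + i))⁻¹, -i, ?_, ?_⟩
    · intro a; rw [inv_pow, hd, inv_one]
    · rw [e]; rfl

variable {F p}

theorem mem_Q0 {g : GL (Fin p) F} :
    g ∈ Q0 F p ↔ ∃ d i, (∀ a, d a ^ p = 1) ∧ (g : Matrix (Fin p) (Fin p) F) = Mm d i := Iff.rfl

theorem uM_mem (d : Fin p → F) (i : Fin p) (hd : ∀ a, d a ^ p = 1) :
    uM d i (fun a => ne_zero_of_pow (hd a)) ∈ Q0 F p := ⟨d, i, hd, rfl⟩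

theorem card_Q0 [Fintype F] (hp : 0 < p) {ζ : F} (hζ : IsPrimitiveRoot ζ p) :
    Nat.card (Q0 F p) = p ^ (p + 1) := by
  classical
  let f : (Fin p → {a : F // a ^ p = 1}) × Fin p → GL (Fin p) F :=
    fun x => uM (fun a => (x.1 a : F)) x.2 (fun a => ne_zero_of_pow (x.1 a).2)
  have hinj : Function.Injective f := by
    intro x y hxy
    have h1 : Mm (fun a => (x.1 a : F)) x.2 = Mm (fun a => (y.1 a : F)) y.2 :=
      congrArg (fun g : GL (Fin p) F => (g : Matrix (Fin p) (Fin p) F)) hxy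
    obtain ⟨h2, h3⟩ := Mm_inj (fun a => ne_zero_of_pow (x.1 a).2) h1
    refine Prod.ext ?_ h2
    funext a
    exact Subtype.ext (congrFun h3 a)
  have hrange : ((Q0 F p : Subgroup (GL (Fin p) F)) : Set (GL (Fin p) F)) = Set.range f := by
    ext g
    constructor
    · rintro ⟨d, i, hd, hg⟩
      exact ⟨(fun a => ⟨d a, hd a⟩, i), Units.ext hg.symm⟩
    · rintro ⟨x, rfl⟩
      exact ⟨fun a => (x.1 a : F), x.2, fun a => (x.1 a).2, rfl⟩
  have hμ : Nat.card {a : F // a ^ p = 1} = p := by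
    rw [Nat.card_eq_fintype_card,
      Fintype.card_of_subtype (Polynomial.nthRootsFinset p (1 : F))
        (fun x => Polynomial.mem_nthRootsFinset hp 1)]
    exact hζ.card_nthRootsFinset
  have h1 : Nat.card (Q0 F p) = Nat.card (Set.range f) := by
    rw [← hrange]; rfl
  rw [h1, Nat.card_range_of_injective hinj, Nat.card_prod, Nat.card_pi]
  simp only [hμ, Finset.prod_const, Finset.card_univ, Fintype.card_fin, Nat.card_eq_fintype_card]
  rw [pow_succ]

end basic

/-- the `p`-part of `|GL_p(q)|` when `p ∥ q - 1`, `p` odd. -/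
theorem val_prod (p q : ℕ) [Fact p.Prime] (hp2 : p ≠ 2) (h1 : p ∣ q - 1) (h2 : ¬ p ^ 2 ∣ q - 1)
    (hq : 1 < q) :
    (∏ i ∈ Finset.range p, (q ^ p - q ^ i)).factorization p = p + 1 := by
  have hp : p.Prime := Fact.out
  have hodd : Odd p := hp.odd_of_ne_two hp2
  have hpq : ¬ p ∣ q := by
    intro h
    have h3 : p ∣ q - (q - 1) := Nat.dvd_sub h h1
    have h4 : q - (q - 1) = 1 := by omega
    rw [h4] at h3
    exact hp.one_lt.ne' (Nat.dvd_one.mp h3)
  have hq1 : q - 1 ≠ 0 := by omega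
  have hv1 : padicValNat p (q - 1) = 1 := by
    have ha : 1 ≤ padicValNat p (q - 1) := by
      have := (padicValNat_dvd_iff_le (p := p) (a := q - 1) (n := 1) hq1).mp (by simpa using h1)
      exact this
    have hb : ¬ 2 ≤ padicValNat p (q - 1) := by
      intro h
      exact h2 ((padicValNat_dvd_iff_le (p := p) (a := q - 1) (n := 2) hq1).mpr h)
    omega
  have hterm : ∀ i ∈ Finset.range p,
      (q ^ p - q ^ i).factorization p = 1 + (if i = 0 then 1 else 0) := by
    intro i hi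
    have hi' : i < p := Finset.mem_range.mp hi
    have e1 : q ^ p - q ^ i = q ^ i * (q ^ (p - i) - 1 ^ (p - i)) := by
      rw [one_pow, Nat.mul_sub, mul_one, ← pow_add, Nat.add_sub_cancel' hi'.le]
    have hne1 : q ^ i ≠ 0 := pow_ne_zero _ (by omega)
    have hlt : 1 < q ^ (p - i) := Nat.one_lt_pow (by omega) hq
    have hne2 : q ^ (p - i) - 1 ^ (p - i) ≠ 0 := by rw [one_pow]; omega
    rw [e1, Nat.factorization_mul hne1 hne2, Finsupp.add_apply, Nat.factorization_pow,
      Finsupp.smul_apply, Nat.factorization_eq_zero_of_not_dvd hpq, smul_zero, zero_add,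
      Nat.factorization_def _ hp,
      padicValNat.pow_sub_pow hodd hq h1 hpq (by omega : p - i ≠ 0), hv1]
    congr 1
    by_cases h0 : i = 0
    · subst h0
      rw [if_pos rfl, Nat.sub_zero, padicValNat_self]
    · rw [if_neg h0]
      apply padicValNat.eq_zero_of_not_dvd
      intro h
      have := Nat.le_of_dvd (by omega) h
      omega
  have hne : ∀ i ∈ Finset.range p, q ^ p - q ^ i ≠ 0 := by
    intro i hi
    have hi' : i < p := Finset.mem_range.mp hi
    have := Nat.pow_lt_pow_right hq hi'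
    omega
  rw [Nat.factorization_prod hne, Finsupp.finsetSum_apply, Finset.sum_congr rfl hterm,
    Finset.sum_add_distrib, Finset.sum_const, Finset.card_range, smul_eq_mul, mul_one,
    Finset.sum_ite_eq' (Finset.range p) 0 (fun _ => 1)]
  rw [if_pos (Finset.mem_range.mpr hp.pos)]

end Cfsg.Agent.Lib.Helper25.RedSyl
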