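import Mathlib
import Cfsg.Agent.Lib.Helper25.RedSylA

namespace Cfsg.Agent.Lib.Helper25.RedSyl

open Matrix

variable {F : Type*} [Field F] {p : ℕ} [NeZero p]

/-- `x` lies in a conjugate of `Q0` different from `Q0`. -/
def Good (x : GL (Fin p) F) : Prop :=
  ∃ g : GL (Fin p) F, g⁻¹ * x * g ∈ Q0 F p ∧ ∃ y ∈ Q0 F p, g * y * g⁻¹ ∉ Q0 F p

theorem good_conj {x : GL (Fin p) F} (h : Good x) {τ : GL (Fin p) F} (hτ : τ ∈ Q0 F p) :
    Good (τ * x * τ⁻¹) := by
  obtain ⟨g, h1, y, hy, h2⟩ := h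
  refine ⟨τ * g, ?_, y, hy, ?_⟩
  · have e : (τ * g)⁻¹ * (τ * x * τ⁻¹) * (τ * g) = g⁻¹ * x * g := by group
    rw [e]; exact h1
  · intro h3
    apply h2
    have e : g * y * g⁻¹ = τ⁻¹ * (τ * g * y * (τ * g)⁻¹) * τ := by group
    rw [e]
    exact (Q0 F p).mul_mem ((Q0 F p).mul_mem ((Q0 F p).inv_mem hτ) h3) hτ

theorem good_of_pow {x : GL (Fin p) F} {m k : ℕ} (h : Good (x ^ m)) (hk : (x ^ m) ^ k = x) :
    Good x := by
  obtain ⟨g, h1, y, hy, h2⟩ := h
  refine ⟨g, ?_, y, hy, h2⟩
  have e : (g⁻¹ * x ^ m * g) ^ k = g⁻¹ * (x ^ m) ^ k * g := by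
    have := conj_pow (a := g⁻¹) (b := x ^ m) (i := k)
    rwa [inv_inv] at this
  rw [hk] at e
  rw [← e]
  exact (Q0 F p).pow_mem h1 k

theorem conj_eq {g y : GL (Fin p) F} {M : Matrix (Fin p) (Fin p) F}
    (h : ((g * y * g⁻¹ : GL (Fin p) F) : Matrix (Fin p) (Fin p) F) = M) :
    (g : Matrix (Fin p) (Fin p) F) * (y : Matrix (Fin p) (Fin p) F)
      = M * (g : Matrix (Fin p) (Fin p) F) := by
  rw [← h, ← Units.val_mul, ← Units.val_mul]
  congr 1
  group

theorem conj_eq' {g y : GL (Fin p) F} {M : Matrix (Fin p) (Fin p) F}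
    (h : ((g⁻¹ * y * g : GL (Fin p) F) : Matrix (Fin p) (Fin p) F) = M) :
    (y : Matrix (Fin p) (Fin p) F) * (g : Matrix (Fin p) (Fin p) F)
      = (g : Matrix (Fin p) (Fin p) F) * M := by
  rw [← h, ← Units.val_mul, ← Units.val_mul]
  congr 1
  group

/-- the element `1` of `Fin p` with a transparent value. -/
def o1 (h3 : 3 ≤ p) : Fin p := ⟨1, by omega⟩

/-- the element `2` of `Fin p` with a transparent value. -/
def o2 (h3 : 3 ≤ p) : Fin p := ⟨2, by omega⟩

theorem o1_ne_zero (h3 : 3 ≤ p) : o1 h3 ≠ (0 : Fin p) := by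
  intro h
  have := congrArg Fin.val h
  rw [Fin.val_zero] at this
  simp [o1] at this

theorem o2_ne_zero (h3 : 3 ≤ p) : o2 h3 ≠ (0 : Fin p) := by
  intro h
  have := congrArg Fin.val h
  rw [Fin.val_zero] at this
  simp [o2] at this

theorem add_o1_val (h3 : 3 ≤ p) (s : Fin p) : ((s + o1 h3 : Fin p) : ℕ) = (s.val + 1) % p := by
  rw [Fin.val_add]; rfl

theorem sub_o1_val (h3 : 3 ≤ p) (r : Fin p) :
    ((r - o1 h3 : Fin p) : ℕ) = if r.val = 0 then p - 1 else r.val - 1 := by
  have h := congrArg Fin.val (sub_add_cancel r (o1 h3))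
  rw [add_o1_val] at h
  have hlt := (r - o1 h3).2
  have hr := r.2
  by_cases h1 : (r - o1 h3).val + 1 < p
  · rw [Nat.mod_eq_of_lt h1] at h
    rw [if_neg (by omega)]; omega
  · have h2 : (r - o1 h3).val + 1 = p := by omega
    rw [h2, Nat.mod_self] at h
    rw [if_pos h.symm]; omega

theorem o1_add_o1_ne (h3 : 3 ≤ p) : o1 h3 + o1 h3 ≠ (0 : Fin p) := by
  intro h
  have := congrArg Fin.val h
  rw [add_o1_val, Fin.val_zero] at this
  have h2 : (o1 h3).val + 1 = 2 := rfl
  rw [h2, Nat.mod_eq_of_lt (by omega)] at this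
  omega

theorem upd_pow {ζ : F} (hζ : ζ ^ p = 1) (a c : Fin p) :
    (Function.update (fun _ : Fin p => (1 : F)) a ζ) c ^ p = 1 := by
  by_cases h : c = a
  · rw [h, Function.update_self]; exact hζ
  · rw [Function.update_of_ne h]; exact one_pow _

theorem transv_apply (a b : Fin p) (c : F) (r s : Fin p) :
    Matrix.transvection a b c r s = (if r = s then 1 else 0) + if a = r ∧ b = s then c else 0 := by
  simp [Matrix.transvection, Matrix.one_apply, Matrix.single_apply]

/-- the transvection as a unit. -/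
def tv (a b : Fin p) (hab : a ≠ b) : GL (Fin p) F :=
  ⟨Matrix.transvection a b 1, Matrix.transvection a b (-1), by
    rw [Matrix.transvection_mul_transvection_same a b hab]; simp, by
    rw [Matrix.transvection_mul_transvection_same a b hab]; simp⟩

/-- Case A1: diagonal with a repeated entry. -/
theorem good_diag_eq {d : Fin p → F} (hd : ∀ a, d a ^ p = 1) {a b : Fin p} (hab : a ≠ b)
    (h : d a = d b) {ζ : F} (hζ : ζ ^ p = 1) (hζ1 : ζ ≠ 1) (x : GL (Fin p) F)
    (hx : (x : Matrix (Fin p) (Fin p) F) = Mm d 0) : Good x := by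
  have hcomm : x * tv a b hab = tv a b hab * x := by
    apply Units.ext
    rw [Units.val_mul, Units.val_mul, hx]
    ext r s
    rw [Mm_mul_apply, mul_Mm_apply, sub_zero, add_zero]
    show d r * Matrix.transvection a b 1 r s = Matrix.transvection a b 1 r s * d s
    rw [transv_apply]
    by_cases hrs : r = s
    · rw [hrs]; ring
    · rw [if_neg hrs, zero_add]
      by_cases h2 : a = r ∧ b = s
      · rw [if_pos h2, ← h2.1, ← h2.2, h]; ring
      · rw [if_neg h2]; ring
  refine ⟨tv a b hab, ?_, uM (Function.update (fun _ => 1) a ζ) 0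
      (fun c => ne_zero_of_pow (upd_pow hζ a c)), uM_mem _ _ (upd_pow hζ a), ?_⟩
  · rw [mul_assoc, hcomm, ← mul_assoc, inv_mul_cancel, one_mul]
    exact ⟨d, 0, hd, hx⟩
  · rintro ⟨e, k, he, hm⟩
    have E : ∀ r s, Matrix.transvection a b (1 : F) r s
        * (Function.update (fun _ => (1 : F)) a ζ) s
          = e r * Matrix.transvection a b (1 : F) (r - k) s := by
      intro r s
      have := congrFun (congrFun (conj_eq hm) r) s
      rw [uM_val, mul_Mm_apply, Mm_mul_apply, add_zero] at this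
      exact this
    have hz0 : ζ ≠ 0 := ne_zero_of_pow hζ
    have hTaa : Matrix.transvection a b (1 : F) a a = 1 := by
      rw [transv_apply, if_pos rfl, if_neg (fun h => hab h.2.symm), add_zero]
    have hk : k = 0 := by
      by_contra hk
      have h0 : Matrix.transvection a b (1 : F) (a - k) a = 0 := by
        rw [transv_apply, if_neg (fun h => hk (sub_eq_self.mp h)),
          if_neg (fun h => hab h.2.symm), add_zero]
      have := E a a
      rw [h0, mul_zero, hTaa, one_mul, Function.update_self] at this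
      exact hz0 this
    subst hk
    have e1 := E a a
    rw [sub_zero, hTaa, one_mul, mul_one, Function.update_self] at e1
    have e2 := E a b
    have hTab : Matrix.transvection a b (1 : F) a b = 1 := by
      rw [transv_apply, if_neg hab, if_pos ⟨rfl, rfl⟩, zero_add]
    rw [sub_zero, hTab, one_mul, mul_one, Function.update_of_ne (Ne.symm hab)] at e2
    exact hζ1 (by rw [e1, ← e2])

theorem vand_rel (h3 : 3 ≤ p) {d : Fin p → F} (hd : ∀ a, d a ^ p = 1) :
    vandermonde d * Mm (fun _ => 1) (o1 h3) = Mm d 0 * vandermonde d := by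
  ext r s
  rw [mul_Mm_apply, Mm_mul_apply, sub_zero, mul_one, vandermonde_apply, vandermonde_apply,
    add_o1_val, ← pow_eq_pow_mod _ (hd r), pow_succ, mul_comm]

/-- Case A2: regular diagonal element. -/
theorem good_diag_inj (h3 : 3 ≤ p) {d : Fin p → F} (hd : ∀ a, d a ^ p = 1)
    (hinj : Function.Injective d) {ζ : F} (hζ : ζ ^ p = 1) (hζ1 : ζ ≠ 1) (x : GL (Fin p) F)
    (hx : (x : Matrix (Fin p) (Fin p) F) = Mm d 0) : Good x := by
  have hdet : (vandermonde d).det ≠ 0 := det_vandermonde_ne_zero_iff.mpr hinj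
  have hrel : GeneralLinearGroup.mkOfDetNeZero (vandermonde d) hdet
      * uM (fun _ => (1 : F)) (o1 h3) (fun _ => one_ne_zero)
        = x * GeneralLinearGroup.mkOfDetNeZero (vandermonde d) hdet := by
    apply Units.ext
    rw [Units.val_mul, Units.val_mul, hx]
    exact vand_rel h3 hd
  refine ⟨GeneralLinearGroup.mkOfDetNeZero (vandermonde d) hdet, ?_,
    uM (Function.update (fun _ => 1) 0 ζ) 0
      (fun c => ne_zero_of_pow (upd_pow hζ 0 c)), uM_mem _ _ (upd_pow hζ 0), ?_⟩
  · rw [mul_assoc, ← hrel, ← mul_assoc, inv_mul_cancel, one_mul]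
    exact ⟨fun _ => 1, o1 h3, fun _ => one_pow _, rfl⟩
  · rintro ⟨e, k, he, hm⟩
    have E : ∀ r s : Fin p, d r ^ (s : ℕ) * (Function.update (fun _ => (1 : F)) 0 ζ) s
        = e r * d (r - k) ^ (s : ℕ) := by
      intro r s
      have := congrFun (congrFun (conj_eq hm) r) s
      rw [uM_val, mul_Mm_apply, Mm_mul_apply, add_zero] at this
      exact this
    have e0 := E 0 0
    rw [Fin.val_zero, pow_zero, pow_zero, Function.update_self, one_mul, mul_one] at e0
    have e1 := E 0 (o1 h3)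
    rw [Function.update_of_ne (o1_ne_zero h3), mul_one] at e1
    have e2 := E 0 (o2 h3)
    rw [Function.update_of_ne (o2_ne_zero h3), mul_one] at e2
    have v1 : ((o1 h3 : Fin p) : ℕ) = 1 := rfl
    have v2 : ((o2 h3 : Fin p) : ℕ) = 2 := rfl
    rw [v1, pow_one, pow_one, ← e0] at e1
    rw [v2, ← e0, e1] at e2
    have hD : d (0 - k) ≠ 0 := ne_zero_of_pow (hd _)
    have hz0 : ζ ≠ 0 := ne_zero_of_pow hζ
    have h4 : ζ * (ζ - 1) * d (0 - k) ^ 2 = 0 := by linear_combination e2
    rcases mul_eq_zero.mp h4 with h | h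
    · rcases mul_eq_zero.mp h with h | h
      · exact hz0 h
      · exact hζ1 (sub_eq_zero.mp h)
    · exact hD (pow_eq_zero_iff (by norm_num) |>.mp h)

/-- partial products along the cycle. -/
noncomputable def tt (d : Fin p → F) (r : Fin p) : F :=
  ∏ j ∈ Finset.univ.filter (fun j : Fin p => 0 < j.val ∧ j.val ≤ r.val), d j

theorem tt_pow {d : Fin p → F} (hd : ∀ a, d a ^ p = 1) (r : Fin p) : tt d r ^ p = 1 := by
  unfold tt
  rw [← Finset.prod_pow]
  exact Finset.prod_eq_one (fun j _ => hd j)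

theorem tt_key (h3 : 3 ≤ p) (d : Fin p → F) (r : Fin p) :
    tt d r * (Function.update (fun _ => (1 : F)) 0 (∏ j, d j)) r = d r * tt d (r - o1 h3) := by
  by_cases hr : r = 0
  · subst hr
    rw [Function.update_self]
    have h1 : tt d 0 = 1 := by
      unfold tt
      apply Finset.prod_eq_one
      intro j hj
      rw [Finset.mem_filter, Fin.val_zero] at hj
      omega
    have h2 : tt d (0 - o1 h3) = ∏ j ∈ Finset.univ.erase (0 : Fin p), d j := by
      unfold tt
      apply Finset.prod_congr _ (fun _ _ => rfl)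
      ext j
      rw [Finset.mem_filter, Finset.mem_erase, sub_o1_val, Fin.val_zero, if_pos rfl]
      constructor
      · rintro ⟨-, h, -⟩
        refine ⟨fun hj => ?_, Finset.mem_univ _⟩
        rw [hj, Fin.val_zero] at h; omega
      · rintro ⟨hj, -⟩
        refine ⟨Finset.mem_univ _, ?_, ?_⟩
        · by_contra hh; exact hj (Fin.ext (by rw [Fin.val_zero]; omega))
        · have := j.2; omega
    rw [h1, h2, one_mul, Finset.mul_prod_erase _ _ (Finset.mem_univ _)]
  · rw [Function.update_of_ne hr, mul_one]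
    have hr0 : r.val ≠ 0 := fun h => hr (Fin.ext (by rw [Fin.val_zero]; exact h))
    unfold tt
    have hset : Finset.univ.filter (fun j : Fin p => 0 < j.val ∧ j.val ≤ r.val)
        = insert r (Finset.univ.filter
            (fun j : Fin p => 0 < j.val ∧ j.val ≤ (r - o1 h3).val)) := by
      ext j
      rw [Finset.mem_insert, Finset.mem_filter, Finset.mem_filter, sub_o1_val, if_neg hr0]
      constructor
      · rintro ⟨-, h1, h2⟩
        by_cases hj : j = r
        · exact Or.inl hj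
        · right
          have : j.val ≠ r.val := fun h => hj (Fin.ext h)
          exact ⟨Finset.mem_univ _, h1, by omega⟩
      · rintro (h | ⟨-, h1, h2⟩)
        · rw [h]; exact ⟨Finset.mem_univ _, by omega, le_refl _⟩
        · exact ⟨Finset.mem_univ _, h1, by omega⟩
    rw [hset, Finset.prod_insert]
    rw [Finset.mem_filter, sub_o1_val, if_neg hr0]
    intro h; omega

/-- Case B1: a shift-one element is `Q0`-conjugate to a normal form. -/
theorem conj_shift (h3 : 3 ≤ p) {d : Fin p → F} (hd : ∀ a, d a ^ p = 1) (x : GL (Fin p) F)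
    (hx : (x : Matrix (Fin p) (Fin p) F) = Mm d (o1 h3)) :
    ∃ τ ∈ Q0 F p, ∃ y : GL (Fin p) F,
      (y : Matrix (Fin p) (Fin p) F)
        = Mm (Function.update (fun _ => (1 : F)) 0 (∏ j, d j)) (o1 h3) ∧ x = τ * y * τ⁻¹ := by
  have hl : (∏ j, d j) ^ p = 1 := by
    rw [← Finset.prod_pow]; exact Finset.prod_eq_one (fun j _ => hd j)
  refine ⟨uM (tt d) 0 (fun c => ne_zero_of_pow (tt_pow hd c)), uM_mem _ _ (tt_pow hd),
    uM (Function.update (fun _ => (1 : F)) 0 (∏ j, d j)) (o1 h3)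
      (fun c => ne_zero_of_pow (upd_pow hl 0 c)), rfl, ?_⟩
  apply eq_mul_inv_of_mul_eq
  apply Units.ext
  rw [Units.val_mul, Units.val_mul, hx, uM_val, uM_val]
  ext r s
  rw [Mm_mul_apply, Mm_mul_apply, sub_zero, Mm_apply, Mm_apply, add_zero]
  by_cases h : r = s + o1 h3
  · have h' : r - o1 h3 = s := by rw [h]; simp
    rw [if_pos h, if_pos h']
    exact (tt_key h3 d r).symm
  · have h' : ¬ (r - o1 h3 = s) := fun h' => h (by rw [← h']; simp)
    rw [if_neg h, if_neg h', mul_zero, mul_zero]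

/-- the Vandermonde nodes `ζ ^ a`. -/
def vz (ζ : F) : Fin p → F := fun a => ζ ^ (a : ℕ)

/-- Case B2a: the cyclic permutation matrix. -/
theorem good_W (h3 : 3 ≤ p) {ζ : F} (hζ : IsPrimitiveRoot ζ p) (x : GL (Fin p) F)
    (hx : (x : Matrix (Fin p) (Fin p) F) = Mm (fun _ => 1) (o1 h3)) : Good x := by
  have hζp : ζ ^ p = 1 := hζ.pow_eq_one
  have hζ1 : ζ ≠ 1 := hζ.ne_one (by omega)
  have hvp : ∀ a : Fin p, vz ζ a ^ p = 1 := fun a => by
    show (ζ ^ (a : ℕ)) ^ p = 1
    rw [← pow_mul, mul_comm, pow_mul, hζp, one_pow]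
  have hinj : Function.Injective (vz (p := p) ζ) :=
    fun a b hab => Fin.ext (hζ.pow_inj a.2 b.2 hab)
  have hdet : (vandermonde (vz (p := p) ζ)).det ≠ 0 := det_vandermonde_ne_zero_iff.mpr hinj
  have hrel : GeneralLinearGroup.mkOfDetNeZero (vandermonde (vz (p := p) ζ)) hdet * x
        = uM (vz ζ) 0 (fun c => ne_zero_of_pow (hvp c))
          * GeneralLinearGroup.mkOfDetNeZero (vandermonde (vz (p := p) ζ)) hdet := by
    apply Units.ext
    rw [Units.val_mul, Units.val_mul, hx]
    exact vand_rel h3 hvp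
  refine ⟨(GeneralLinearGroup.mkOfDetNeZero (vandermonde (vz (p := p) ζ)) hdet)⁻¹, ?_,
    uM (Function.update (fun _ => 1) 0 ζ) 0
      (fun c => ne_zero_of_pow (upd_pow hζp 0 c)), uM_mem _ _ (upd_pow hζp 0), ?_⟩
  · rw [inv_inv, hrel, mul_assoc, mul_inv_cancel, mul_one]
    exact uM_mem _ _ hvp
  · rw [inv_inv]
    rintro ⟨e, k, he, hm⟩
    have E : ∀ r s : Fin p, (Function.update (fun _ => (1 : F)) 0 ζ) r * vz ζ r ^ (s : ℕ)
        = vz ζ r ^ ((s + k : Fin p) : ℕ) * e (s + k) := by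
      intro r s
      have := congrFun (congrFun (conj_eq' hm) r) s
      rw [uM_val, Mm_mul_apply, mul_Mm_apply, sub_zero] at this
      exact this
    have hv0 : vz ζ (0 : Fin p) = 1 := by
      show ζ ^ ((0 : Fin p) : ℕ) = 1
      rw [Fin.val_zero, pow_zero]
    have hv1 : vz ζ (o1 h3) = ζ := pow_one ζ
    have hv2 : vz ζ (o2 h3) = ζ ^ 2 := rfl
    have e0 := E 0 0
    rw [zero_add, Fin.val_zero, pow_zero, mul_one, Function.update_self, hv0, one_pow,
      one_mul] at e0
    have e1 := E (o1 h3) 0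
    rw [zero_add, Fin.val_zero, pow_zero, mul_one, Function.update_of_ne (o1_ne_zero h3),
      hv1, ← e0] at e1
    have e2 := E (o2 h3) 0
    rw [zero_add, Fin.val_zero, pow_zero, mul_one, Function.update_of_ne (o2_ne_zero h3),
      hv2, ← e0, ← pow_mul, mul_comm 2, pow_mul] at e2
    have hc : ζ ^ (k : ℕ) = 1 := by
      have h5 : ζ ^ (k : ℕ) * (ζ ^ (k : ℕ) * ζ) = 1 := by
        rw [← mul_assoc, ← sq]; exact e2.symm
      rw [← e1, mul_one] at h5
      exact h5
    rw [hc, one_mul] at e1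
    exact hζ1 e1.symm

theorem A_apply (h3 : 3 ≤ p) (u : Fin p → F) (a b : Fin p) :
    (1 + Mm u (o1 h3)) a b = (if a = b then 1 else 0) + (if a = b + o1 h3 then u a else 0) := by
  rw [Matrix.add_apply, Matrix.one_apply, Mm_apply]

theorem A_det (h3 : 3 ≤ p) (hodd : Odd p) {lam : F} (hl : lam ^ p = 1) (hl1 : lam ≠ 1) :
    (1 + Mm (Function.update (fun _ => (1 : F)) 0 lam) (o1 h3)).det ≠ 0 := by
  intro hdet0
  obtain ⟨v, hv0, hv⟩ := Matrix.exists_mulVec_eq_zero_iff.mpr hdet0
  have hrec0 : ∀ r, v r + (Function.update (fun _ => (1 : F)) 0 lam) r * v (r - o1 h3) = 0 := by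
    intro r
    have := congrFun hv r
    rw [Matrix.add_mulVec, Matrix.one_mulVec, Pi.add_apply, Mm_mulVec] at this
    exact this
  have hrec : ∀ n (hn : n < p), v ⟨n, hn⟩ = (-1) ^ n * v 0 := by
    intro n
    induction n with
    | zero =>
      intro hn
      have : (⟨0, hn⟩ : Fin p) = 0 := Fin.ext (by rw [Fin.val_zero])
      rw [this, pow_zero, one_mul]
    | succ n ih =>
      intro hn
      have hr : (⟨n + 1, hn⟩ : Fin p) ≠ 0 := fun h => by
        have := congrArg Fin.val h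
        rw [Fin.val_zero] at this
        simp at this
      have h1 := hrec0 ⟨n + 1, hn⟩
      have h2 : (⟨n + 1, hn⟩ : Fin p) - o1 h3 = ⟨n, by omega⟩ :=
        Fin.ext (by rw [sub_o1_val]; simp)
      rw [h2, ih, Function.update_of_ne hr, one_mul] at h1
      rw [pow_succ]; linear_combination h1
  have h0 := hrec0 0
  have h2 : (0 : Fin p) - o1 h3 = ⟨p - 1, by omega⟩ :=
    Fin.ext (by rw [sub_o1_val, Fin.val_zero, if_pos rfl])
  have heven : Even (p - 1) := by
    obtain ⟨m, hm⟩ := hodd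
    exact ⟨m, by omega⟩
  rw [h2, hrec (p - 1) (by omega), Function.update_self, heven.neg_one_pow, one_mul] at h0
  have hl2 : 1 + lam ≠ 0 := by
    intro h
    have h' : lam = -1 := by linear_combination h
    rw [h', hodd.neg_one_pow] at hl
    exact hl1 (by rw [h', hl])
  have hv00 : v 0 = 0 := by
    have : (1 + lam) * v 0 = 0 := by linear_combination h0
    exact (mul_eq_zero.mp this).resolve_left hl2
  apply hv0
  funext r
  have := hrec r.val r.2
  rw [hv00, mul_zero] at this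
  exact this

/-- Case B2b: the normal form with `λ ≠ 1`. -/
theorem good_lam (h3 : 3 ≤ p) (hodd : Odd p) {ζ : F} (hζ : ζ ^ p = 1) (hζ1 : ζ ≠ 1)
    {lam : F} (hl : lam ^ p = 1) (hl1 : lam ≠ 1) (x : GL (Fin p) F)
    (hx : (x : Matrix (Fin p) (Fin p) F)
      = Mm (Function.update (fun _ => (1 : F)) 0 lam) (o1 h3)) : Good x := by
  have hdet := A_det h3 hodd hl hl1
  have hcomm : GeneralLinearGroup.mkOfDetNeZero _ hdet * x
      = x * GeneralLinearGroup.mkOfDetNeZero _ hdet := by
    apply Units.ext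
    rw [Units.val_mul, Units.val_mul, hx]
    show (1 + Mm (Function.update (fun _ => (1 : F)) 0 lam) (o1 h3))
        * Mm (Function.update (fun _ => (1 : F)) 0 lam) (o1 h3)
      = Mm (Function.update (fun _ => (1 : F)) 0 lam) (o1 h3)
        * (1 + Mm (Function.update (fun _ => (1 : F)) 0 lam) (o1 h3))
    rw [add_mul, mul_add, one_mul, mul_one]
  refine ⟨GeneralLinearGroup.mkOfDetNeZero _ hdet, ?_,
    uM (Function.update (fun _ => 1) 0 ζ) 0
      (fun c => ne_zero_of_pow (upd_pow hζ 0 c)), uM_mem _ _ (upd_pow hζ 0), ?_⟩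
  · rw [mul_assoc, ← hcomm, ← mul_assoc, inv_mul_cancel, one_mul]
    exact ⟨_, _, upd_pow hl 0, hx⟩
  · rintro ⟨e, k, he, hm⟩
    have E : ∀ r s, (1 + Mm (Function.update (fun _ => (1 : F)) 0 lam) (o1 h3)) r s
        * (Function.update (fun _ => (1 : F)) 0 ζ) s
          = e r * (1 + Mm (Function.update (fun _ => (1 : F)) 0 lam) (o1 h3)) (r - k) s := by
      intro r s
      have := congrFun (congrFun (conj_eq hm) r) s
      rw [uM_val, mul_Mm_apply, Mm_mul_apply, add_zero] at this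
      exact this
    have hz0 : ζ ≠ 0 := ne_zero_of_pow hζ
    have hne : o1 h3 ≠ o1 h3 + o1 h3 := fun h => o1_ne_zero h3 (left_eq_add.mp h)
    have hA11 : (1 + Mm (Function.update (fun _ => (1 : F)) 0 lam) (o1 h3)) (o1 h3) (o1 h3)
        = 1 := by
      rw [A_apply, if_pos rfl, if_neg hne, add_zero]
    have hA10 : (1 + Mm (Function.update (fun _ => (1 : F)) 0 lam) (o1 h3)) (o1 h3) 0 = 1 := by
      rw [A_apply, if_neg (o1_ne_zero h3), if_pos (zero_add _).symm, zero_add,
        Function.update_of_ne (o1_ne_zero h3)]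
    have E1 := E (o1 h3) (o1 h3)
    rw [hA11, Function.update_of_ne (o1_ne_zero h3), mul_one] at E1
    have E2 := E (o1 h3) 0
    rw [hA10, Function.update_self, one_mul] at E2
    by_cases hk : k = 0
    · subst hk
      rw [sub_zero, hA11, mul_one] at E1
      rw [sub_zero, hA10, mul_one, ← E1] at E2
      exact hζ1 E2
    · have hA1 : (1 + Mm (Function.update (fun _ => (1 : F)) 0 lam) (o1 h3)) (o1 h3 - k) (o1 h3)
          ≠ 0 := by
        intro h; rw [h, mul_zero] at E1; exact one_ne_zero E1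
      have hA2 : (1 + Mm (Function.update (fun _ => (1 : F)) 0 lam) (o1 h3)) (o1 h3 - k) 0
          ≠ 0 := by
        intro h; rw [h, mul_zero] at E2; exact hz0 E2
      rw [A_apply, if_neg (fun h => hk (sub_eq_self.mp h)), zero_add] at hA1
      rw [A_apply, zero_add, if_neg (fun h => hk (sub_eq_self.mp h)), add_zero] at hA2
      have h6 : o1 h3 - k = o1 h3 + o1 h3 := by
        by_contra h; rw [if_neg h] at hA1; exact hA1 rfl
      have h7 : o1 h3 - k = 0 := by
        by_contra h; rw [if_neg h] at hA2; exact hA2 rfl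
      exact o1_add_o1_ne h3 (by rw [← h6, h7])

theorem pow_shift (x : GL (Fin p) F) {d : Fin p → F} {i : Fin p} (hd : ∀ a, d a ^ p = 1)
    (hx : (x : Matrix (Fin p) (Fin p) F) = Mm d i) (m : ℕ) :
    ∃ d' j, (∀ a, d' a ^ p = 1) ∧ ((x ^ m : GL (Fin p) F) : Matrix (Fin p) (Fin p) F) = Mm d' j
      ∧ (j : ℕ) = (m * i.val) % p := by
  induction m with
  | zero =>
    exact ⟨fun _ => 1, 0, fun _ => one_pow _, by rw [pow_zero, Units.val_one, Mm_one],
      by rw [Fin.val_zero, zero_mul, Nat.zero_mod]⟩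
  | succ m ih =>
    obtain ⟨d', j, hd', h1, h2⟩ := ih
    refine ⟨fun a => d' a * d (a - j), j + i, fun a => by rw [mul_pow, hd', hd, one_mul], ?_, ?_⟩
    · rw [pow_succ, Units.val_mul, h1, hx, Mm_mul_Mm]
    · rw [Fin.val_add, h2, Nat.mod_add_mod, Nat.succ_mul]

/-- Case B0: reduce a nonzero shift to shift one by taking a power. -/
theorem reduce_shift (hp : p.Prime) (h3 : 3 ≤ p) (hcard : Nat.card (Q0 F p) = p ^ (p + 1))
    (x : GL (Fin p) F) (hxQ : x ∈ Q0 F p) {d : Fin p → F} {i : Fin p} (hd : ∀ a, d a ^ p = 1)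
    (hx : (x : Matrix (Fin p) (Fin p) F) = Mm d i) (hi : i ≠ 0) :
    ∃ m k d', (∀ a, d' a ^ p = 1)
      ∧ ((x ^ m : GL (Fin p) F) : Matrix (Fin p) (Fin p) F) = Mm d' (o1 h3) ∧ (x ^ m) ^ k = x := by
  have hi0 : 0 < i.val :=
    Nat.pos_of_ne_zero (fun h => hi (Fin.ext (by rw [Fin.val_zero]; exact h)))
  have hcop : Nat.Coprime i.val (p ^ (p + 1)) := by
    apply Nat.Coprime.pow_right
    rw [Nat.coprime_comm]
    exact (Nat.Prime.coprime_iff_not_dvd hp).mpr (fun h => by
      have := Nat.le_of_dvd hi0 h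
      have := i.2
      omega)
  have hN : 1 < p ^ (p + 1) := Nat.one_lt_pow (by omega) hp.one_lt
  obtain ⟨m, -, hm⟩ := Nat.exists_mul_mod_eq_one_of_coprime hcop hN
  obtain ⟨d', j, hd', h1, h2⟩ := pow_shift x hd hx m
  have hj : j = o1 h3 := by
    apply Fin.ext
    rw [h2]
    show _ = 1
    have h8 : (m * i.val) % p = ((i.val * m) % p ^ (p + 1)) % p := by
      rw [Nat.mod_mod_of_dvd _ (dvd_pow_self p (by omega)), mul_comm]
    rw [h8, hm, Nat.mod_eq_of_lt (by omega)]
  refine ⟨m, i.val, d', hd', by rw [h1, hj], ?_⟩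
  have hxN : x ^ (p ^ (p + 1)) = 1 := by
    have := pow_card_eq_one' (G := Q0 F p) (x := ⟨x, hxQ⟩)
    rw [hcard] at this
    exact congrArg Subtype.val this
  have e : m * i.val = p ^ (p + 1) * (i.val * m / p ^ (p + 1)) + 1 := by
    have := Nat.div_add_mod (i.val * m) (p ^ (p + 1))
    rw [hm] at this
    rw [mul_comm m]
    exact this.symm
  rw [← pow_mul, e, pow_add, pow_mul, hxN, one_pow, one_mul, pow_one]

/-- every element of `Q0` lies in a second conjugate of `Q0`. -/
theorem good_all (hp : p.Prime) (h3 : 3 ≤ p) {ζ : F} (hζ : IsPrimitiveRoot ζ p)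
    (hcard : Nat.card (Q0 F p) = p ^ (p + 1)) (x : GL (Fin p) F) (hxQ : x ∈ Q0 F p) :
    Good x := by
  have hζp : ζ ^ p = 1 := hζ.pow_eq_one
  have hζ1 : ζ ≠ 1 := hζ.ne_one (by omega)
  have hodd : Odd p := hp.odd_of_ne_two (by omega)
  obtain ⟨d, i, hd, hx⟩ := hxQ
  by_cases hi : i = 0
  · subst hi
    by_cases hinj : Function.Injective d
    · exact good_diag_inj h3 hd hinj hζp hζ1 x hx
    · simp only [Function.Injective, not_forall] at hinj
      obtain ⟨a, b, hab, hne⟩ := hinj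
      exact good_diag_eq hd hne hab hζp hζ1 x hx
  · obtain ⟨m, k, d', hd', h1, h2⟩ := reduce_shift hp h3 hcard x ⟨d, i, hd, hx⟩ hd hx hi
    apply good_of_pow _ h2
    obtain ⟨τ, hτ, y, hy, he⟩ := conj_shift h3 hd' (x ^ m) h1
    rw [he]
    apply good_conj _ hτ
    have hl : (∏ j, d' j) ^ p = 1 := by
      rw [← Finset.prod_pow]; exact Finset.prod_eq_one (fun j _ => hd' j)
    by_cases hl1 : ∏ j, d' j = 1
    · apply good_W h3 hζ y
      rw [hy, hl1]
      congr 1
      funext c
      by_cases hc : c = 0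
      · rw [hc, Function.update_self]
      · rw [Function.update_of_ne hc]
    · exact good_lam h3 hodd hζp hζ1 hl hl1 y hy

open scoped Pointwise in
theorem sylow_conj_mem {G : Type*} [Group G] {q : ℕ} (Q : Sylow q G) (g z : G) :
    z ∈ ((g • Q : Sylow q G) : Subgroup G) ↔ g⁻¹ * z * g ∈ (Q : Subgroup G) := by
  rw [Sylow.coe_subgroup_smul, Subgroup.mem_pointwise_smul_iff_inv_smul_mem]
  simp [MulAut.smul_def]

end Cfsg.Agent.Lib.Helper25.RedSyl
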